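import Cfsg.Agent.Lib.Helper79.Glaub.Corr
import Cfsg.Agent.Lib.Helper79.Glaub.ClassCount

set_option autoImplicit false
set_option linter.unusedSectionVars false
set_option linter.style.haveILetI false

namespace Cfsg.Agent.Helper79.Glaub

open Cfsg Cfsg.Agent.Helper81
open scoped ComplexConjugate

universe u

section SolvCorr

variable {Γ : Type u} [Group Γ] [Fintype Γ]

/-- The Glauberman correspondence for a solvable group of operators, as a relation compatible
with conjugation. -/
theorem exists_corr_solvable : ∀ (n : ℕ) (G S : Subgroup Γ) [Fintype G],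
    Nat.card S = n → (∀ s ∈ S, NormAt G s) → (Nat.card G).Coprime (Nat.card S) →
    Group.IsSolvable S → ∀ (C : Subgroup Γ), C = G ⊓ Subgroup.centralizer (S : Set Γ) →
    ∃ R : IrrCharacter G → IrrCharacter C → Prop,
      IsCorr (fun χ : IrrCharacter G => ∀ x ∈ S, InvAt G (χ : G → ℂ) x) R ∧
      ∀ x : Γ, NormAt S x → EquivAt R x := by
  classical
  intro n
  induction n using Nat.strong_induction_on with
  | _ n ih =>
    intro G S _ hn hnorm hcop hS C hC
    haveI : Fintype C := Fintype.ofFinite _
    have hCG : C ≤ G := by rw [hC]; exact inf_le_left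
    by_cases hbot : S = ⊥
    · have hp2 : (2 : ℕ).Prime := Nat.prime_two
      have hS2 : IsPGroup 2 S := by
        rw [hbot]
        exact IsPGroup.of_bot
      have hpkg := pkg_pgroup 2 hp2 (Nat.card S) G S rfl hnorm hcop hS2 C hC hCG
      exact ⟨pRel 2 hCG, pRel_isCorr 2 hCG _ hpkg, fun x _ => pRel_equivAt 2 hCG x⟩
    · obtain ⟨p, T, P, hp, hTS, hPS, hTlt, hPp, hSeq, hTchar⟩ := exists_residual_decomp S hS hbot
      have hSnorm : ∀ y ∈ S, NormAt S y := fun y hy => normAt_of_mem S hy
      have hcopT : (Nat.card G).Coprime (Nat.card T) :=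
        Nat.Coprime.coprime_dvd_right (Subgroup.card_dvd_of_le hTS) hcop
      have hTsolv : Group.IsSolvable T := by
        haveI := hS
        exact Group.isSolvable_of_isSolvable_injective (f := Subgroup.inclusion hTS)
          (Subgroup.inclusion_injective hTS)
      set B : Subgroup Γ := G ⊓ Subgroup.centralizer (T : Set Γ) with hB
      haveI : Fintype B := Fintype.ofFinite _
      obtain ⟨R₁, hR₁, he1⟩ := ih (Nat.card T) (by rw [← hn]; exact hTlt) G T rfl
        (fun t ht => hnorm t (hTS ht)) hcopT hTsolv B hB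
      have hPT : ∀ y ∈ P, NormAt T y := fun y hy => hTchar y (hSnorm y (hPS hy))
      have hPB : ∀ y ∈ P, NormAt B y := fun y hy =>
        normAt_inf_centralizer G T y (hnorm y (hPS hy)) (hPT y hy)
      have hcopB : (Nat.card B).Coprime (Nat.card P) :=
        Nat.Coprime.coprime_dvd_left (Subgroup.card_dvd_of_le (inf_le_left : B ≤ G))
          (Nat.Coprime.coprime_dvd_right (Subgroup.card_dvd_of_le hPS) hcop)
      have hC' : C = B ⊓ Subgroup.centralizer (P : Set Γ) := by
        rw [hC, hB, inf_assoc]
        congr 1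
        rw [hSeq]
        apply le_antisymm
        · apply le_inf
          · exact Subgroup.centralizer_le (le_sup_left : T ≤ T ⊔ P)
          · exact Subgroup.centralizer_le (le_sup_right : P ≤ T ⊔ P)
        · intro c hc
          rw [Subgroup.mem_inf] at hc
          have h3 : c ∈ Subgroup.centralizer ((T : Set Γ) ∪ (P : Set Γ)) := by
            rw [Subgroup.mem_centralizer_iff]
            intro x hx
            rcases hx with hx | hx
            · exact (Subgroup.mem_centralizer_iff.mp hc.1) x hx
            · exact (Subgroup.mem_centralizer_iff.mp hc.2) x hx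
          rw [← Subgroup.centralizer_closure, ← Subgroup.sup_eq_closure] at h3
          exact h3
      have hCB : C ≤ B := by rw [hC']; exact inf_le_left
      have hpkg := pkg_pgroup p hp (Nat.card P) B P rfl hPB hcopB hPp C hC' hCB
      have hR₂ := pRel_isCorr p hCB _ hpkg
      have hcomp := isCorr_comp G T P S B C hB (fun t ht => hnorm t (hTS ht))
        (fun y hy => hnorm y (hPS hy)) hPT hSeq R₁ (pRel p hCB) hR₁ he1 hR₂
      refine ⟨_, hcomp, ?_⟩
      intro x hSx hG hCx χ β hR
      obtain ⟨β', hR1, hR2⟩ := hR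
      have hTx : NormAt T x := hTchar x hSx
      have hBx : NormAt B x := normAt_inf_centralizer G T x hG hTx
      exact ⟨irrComp (conjEquiv B x hBx) β', he1 x hTx hG hBx χ β' hR1,
        pRel_equivAt p hCB x hBx hCx β' β hR2⟩

/-- For a solvable group `S` acting coprimely on `G`, the number of `S`-invariant irreducible
characters of `G` equals the number of `S`-invariant conjugacy classes. -/
theorem card_invariant_irr_eq_classes (G S : Subgroup Γ) [Fintype G]
    (hnorm : ∀ s ∈ S, ∀ g ∈ G, s * g * s⁻¹ ∈ G) (hcop : (Nat.card G).Coprime (Nat.card S))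
    (hsolv : Group.IsSolvable S) :
    Nat.card {χ : IrrCharacter G // (∀ s ∈ S, ∀ g g' : G, (g' : Γ) = s * g * s⁻¹ →
      (χ : G → ℂ) g' = (χ : G → ℂ) g)} =
    Nat.card {K : ConjClasses G // ∀ s ∈ S, ∀ g g' : G, (g' : Γ) = s * g * s⁻¹ →
      ConjClasses.mk g = K → ConjClasses.mk g' = K} := by
  classical
  have hnorm' : ∀ s ∈ S, NormAt G s := by
    intro s hs
    refine ⟨hnorm s hs, fun g hg => ?_⟩
    have := hnorm s⁻¹ (S.inv_mem hs) g hg
    rwa [inv_inv] at this
  set C : Subgroup Γ := G ⊓ Subgroup.centralizer (S : Set Γ) with hC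
  obtain ⟨R, hR, _⟩ := exists_corr_solvable (Nat.card S) G S rfl hnorm' hcop hsolv C hC
  have h1 := hR.card_eq
  have h2 := card_invariant_classes G S hnorm' hcop hsolv C hC inf_le_left
  rw [h2, ← Cfsg.Agent.Helper80.card_irr]
  exact h1

end SolvCorr

end Cfsg.Agent.Helper79.Glaub
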