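import Cfsg.Agent.Lib.Helper79.Glaub.ClassCount

set_option autoImplicit false
set_option linter.unusedSectionVars false
set_option linter.style.haveILetI false

namespace Cfsg.Agent.Helper79.Glaub

open Cfsg

universe u

section ClassReal

variable {Γ : Type u} [Group Γ] [Fintype Γ]

/-- The `S`-invariant classes of `G` correspond to the classes of `C_G(S)`, via the map of
classes induced by the inclusion. -/
theorem exists_class_equiv (G S : Subgroup Γ) (hnorm : ∀ s ∈ S, NormAt G s)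
    (hcop : (Nat.card G).Coprime (Nat.card S)) (hsolv : Group.IsSolvable S)
    (C : Subgroup Γ) (hC : C = G ⊓ Subgroup.centralizer (S : Set Γ)) (hCG : C ≤ G) :
    ∃ e : ConjClasses C ≃ {K : ConjClasses G // ∀ s ∈ S, ∀ g g' : G, (g' : Γ) = s * g * s⁻¹ →
      ConjClasses.mk g = K → ConjClasses.mk g' = K},
      ∀ κ : ConjClasses C, (e κ : ConjClasses G) = ConjClasses.map (Subgroup.inclusion hCG) κ := by
  classical
  subst hC
  have hex := classEx_solvable (Nat.card S) G S rfl hnorm hcop hsolv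
  let incl : (G ⊓ Subgroup.centralizer (S : Set Γ) : Subgroup Γ) →* G := Subgroup.inclusion hCG
  have hincl : ∀ c : (G ⊓ Subgroup.centralizer (S : Set Γ) : Subgroup Γ),
      ((incl c : G) : Γ) = (c : Γ) := fun c => rfl
  -- the class of an element of `C` is invariant
  have hinvc : ∀ c : (G ⊓ Subgroup.centralizer (S : Set Γ) : Subgroup Γ),
      ∀ s ∈ S, ∀ g g' : G, (g' : Γ) = s * g * s⁻¹ →
      ConjClasses.mk g = ConjClasses.mk (incl c) → ConjClasses.mk g' = ConjClasses.mk (incl c) := by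
    intro c s hs g g' hg' hg
    rw [ConjClasses.mk_eq_mk_iff_isConj, isConj_iff] at hg ⊢
    obtain ⟨h, hh⟩ := hg
    have hsh : s * (h : Γ) * s⁻¹ ∈ G := (hnorm s hs).1 h h.2
    refine ⟨⟨s * (h : Γ) * s⁻¹, hsh⟩, ?_⟩
    apply Subtype.ext
    have hh' : (h : Γ) * (g : Γ) * (h : Γ)⁻¹ = (c : Γ) := by
      have := congrArg (fun z : G => (z : Γ)) hh
      rw [← hincl c]
      simpa using this
    have hcs : s * (c : Γ) = (c : Γ) * s := by
      have h1 : (c : Γ) ∈ Subgroup.centralizer (S : Set Γ) := (Subgroup.mem_inf.mp c.2).2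
      exact (Subgroup.mem_centralizer_iff.mp h1) s hs
    simp only [Subgroup.coe_mul, Subgroup.coe_inv, hincl]
    rw [hg']
    calc s * (h : Γ) * s⁻¹ * (s * (g : Γ) * s⁻¹) * (s * (h : Γ) * s⁻¹)⁻¹
        = s * ((h : Γ) * (g : Γ) * (h : Γ)⁻¹) * s⁻¹ := by group
      _ = s * (c : Γ) * s⁻¹ := by rw [hh']
      _ = (c : Γ) * s * s⁻¹ := by rw [hcs]
      _ = (c : Γ) := by group
  let Φ : ConjClasses (G ⊓ Subgroup.centralizer (S : Set Γ) : Subgroup Γ) →
      {K : ConjClasses G // ∀ s ∈ S, ∀ g g' : G, (g' : Γ) = s * g * s⁻¹ →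
        ConjClasses.mk g = K → ConjClasses.mk g' = K} := fun κ =>
    ⟨ConjClasses.map incl κ, by
      obtain ⟨c, rfl⟩ := ConjClasses.exists_rep κ
      exact hinvc c⟩
  refine ⟨Equiv.ofBijective Φ ⟨?_, ?_⟩, fun κ => rfl⟩
  · intro κ κ' hκ
    obtain ⟨c, rfl⟩ := ConjClasses.exists_rep κ
    obtain ⟨c', rfl⟩ := ConjClasses.exists_rep κ'
    have h1 : ConjClasses.mk (incl c) = ConjClasses.mk (incl c') := congrArg Subtype.val hκ
    rw [ConjClasses.mk_eq_mk_iff_isConj, isConj_iff] at h1 ⊢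
    obtain ⟨g, hg⟩ := h1
    have hg' : (g : Γ) * (c : Γ) * (g : Γ)⁻¹ = (c' : Γ) := by
      have := congrArg (fun z : G => (z : Γ)) hg
      rw [← hincl c, ← hincl c']
      simpa using this
    obtain ⟨b, hb, hbc⟩ := conj_in_centralizer G S hnorm hcop hsolv c.2 c'.2 g.2 hg'
    exact ⟨⟨b, hb⟩, Subtype.ext hbc⟩
  · rintro ⟨K, hK⟩
    obtain ⟨k, rfl⟩ := ConjClasses.exists_rep K
    have hinv : ∀ s ∈ S, ∃ h ∈ G, s * (k : Γ) * s⁻¹ = h * (k : Γ) * h⁻¹ := by
      intro s hs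
      have hmem : s * (k : Γ) * s⁻¹ ∈ G := (hnorm s hs).1 k k.2
      have h1 := hK s hs k ⟨s * (k : Γ) * s⁻¹, hmem⟩ rfl rfl
      rw [ConjClasses.mk_eq_mk_iff_isConj, isConj_iff] at h1
      obtain ⟨h, hh⟩ := h1
      have hh' : (h : Γ) * (s * (k : Γ) * s⁻¹) * (h : Γ)⁻¹ = (k : Γ) := by
        have := congrArg (fun z : G => (z : Γ)) hh
        simpa using this
      refine ⟨(h : Γ)⁻¹, G.inv_mem h.2, ?_⟩
      calc s * (k : Γ) * s⁻¹ = (h : Γ)⁻¹ * ((h : Γ) * (s * (k : Γ) * s⁻¹) * (h : Γ)⁻¹) * (h : Γ) := by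
            group
        _ = (h : Γ)⁻¹ * (k : Γ) * ((h : Γ)⁻¹)⁻¹ := by rw [hh', inv_inv]
    obtain ⟨γ, hγ, hγc⟩ := hex (k : Γ) k.2 hinv
    have hmemG : γ * (k : Γ) * γ⁻¹ ∈ G := G.mul_mem (G.mul_mem hγ k.2) (G.inv_mem hγ)
    refine ⟨ConjClasses.mk ⟨γ * (k : Γ) * γ⁻¹, Subgroup.mem_inf.mpr ⟨hmemG, hγc⟩⟩, ?_⟩
    apply Subtype.ext
    show ConjClasses.mk (incl ⟨γ * (k : Γ) * γ⁻¹, _⟩) = ConjClasses.mk k
    rw [ConjClasses.mk_eq_mk_iff_isConj, isConj_iff]
    refine ⟨⟨γ, hγ⟩⁻¹, ?_⟩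
    apply Subtype.ext
    simp only [Subgroup.coe_mul, Subgroup.coe_inv, hincl]
    group

/-- reality of a class of `C_G(S)` is the same as reality of the class of `G` containing it -/
theorem real_class_iff (G S : Subgroup Γ) (hnorm : ∀ s ∈ S, NormAt G s)
    (hcop : (Nat.card G).Coprime (Nat.card S)) (hsolv : Group.IsSolvable S)
    (C : Subgroup Γ) (hC : C = G ⊓ Subgroup.centralizer (S : Set Γ)) (hCG : C ≤ G)
    (κ : ConjClasses C) :
    (∀ c : C, ConjClasses.mk c = κ → IsConj c c⁻¹) ↔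
      (∀ k : G, ConjClasses.mk k = ConjClasses.map (Subgroup.inclusion hCG) κ → IsConj k k⁻¹) := by
  subst hC
  obtain ⟨c, rfl⟩ := ConjClasses.exists_rep κ
  constructor
  · intro h k hk
    have h1 : IsConj c c⁻¹ := h c rfl
    have h2 : IsConj (Subgroup.inclusion hCG c) (Subgroup.inclusion hCG c)⁻¹ := by
      rw [← map_inv]
      exact (Subgroup.inclusion hCG).map_isConj h1
    have hk' : IsConj k (Subgroup.inclusion hCG c) := by
      rw [← ConjClasses.mk_eq_mk_iff_isConj]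
      exact hk
    have h3 : IsConj k⁻¹ (Subgroup.inclusion hCG c)⁻¹ := by
      rw [isConj_iff] at hk' ⊢
      obtain ⟨g, hg⟩ := hk'
      exact ⟨g, by rw [← hg]; group⟩
    exact (hk'.trans h2).trans h3.symm
  · intro h c' hc'
    have h1 : IsConj (Subgroup.inclusion hCG c) (Subgroup.inclusion hCG c)⁻¹ := h _ rfl
    rw [isConj_iff] at h1
    obtain ⟨g, hg⟩ := h1
    have hg' : (g : Γ) * (c : Γ) * (g : Γ)⁻¹ = ((c⁻¹ : (G ⊓ Subgroup.centralizer (S : Set Γ) :
        Subgroup Γ)) : Γ) := by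
      have := congrArg (fun z : G => (z : Γ)) hg
      simpa using this
    obtain ⟨b, hb, hbc⟩ := conj_in_centralizer G S hnorm hcop hsolv c.2 (c⁻¹).2 g.2 hg'
    have h2 : IsConj c c⁻¹ := by
      rw [isConj_iff]
      exact ⟨⟨b, hb⟩, Subtype.ext hbc⟩
    have hc'' : IsConj c' c := by
      rw [← ConjClasses.mk_eq_mk_iff_isConj]
      exact hc'
    have h3 : IsConj c'⁻¹ c⁻¹ := by
      rw [isConj_iff] at hc'' ⊢
      obtain ⟨g, hg⟩ := hc''
      exact ⟨g, by rw [← hg]; group⟩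
    exact (hc''.trans h2).trans h3.symm

/-- The `S`-invariant real classes of `G` correspond to the real classes of `C_G(S)`. -/
theorem card_invariant_real_classes (G S : Subgroup Γ) (hnorm : ∀ s ∈ S, NormAt G s)
    (hcop : (Nat.card G).Coprime (Nat.card S)) (hsolv : Group.IsSolvable S)
    (C : Subgroup Γ) (hC : C = G ⊓ Subgroup.centralizer (S : Set Γ)) (hCG : C ≤ G) :
    Nat.card {K : ConjClasses G // (∀ k : G, ConjClasses.mk k = K → IsConj k k⁻¹) ∧
      ∀ s ∈ S, ∀ g g' : G, (g' : Γ) = s * g * s⁻¹ →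
        ConjClasses.mk g = K → ConjClasses.mk g' = K} =
    Nat.card {κ : ConjClasses C // ∀ c : C, ConjClasses.mk c = κ → IsConj c c⁻¹} := by
  obtain ⟨e, he⟩ := exists_class_equiv G S hnorm hcop hsolv C hC hCG
  symm
  have e1 : {κ : ConjClasses C // ∀ c : C, ConjClasses.mk c = κ → IsConj c c⁻¹} ≃
      {K' : {K : ConjClasses G // ∀ s ∈ S, ∀ g g' : G, (g' : Γ) = s * g * s⁻¹ →
        ConjClasses.mk g = K → ConjClasses.mk g' = K} //
        ∀ k : G, ConjClasses.mk k = K'.1 → IsConj k k⁻¹} :=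
    e.subtypeEquiv (fun κ => by
      rw [he κ]
      exact real_class_iff G S hnorm hcop hsolv C hC hCG κ)
  have e2 : {K' : {K : ConjClasses G // ∀ s ∈ S, ∀ g g' : G, (g' : Γ) = s * g * s⁻¹ →
        ConjClasses.mk g = K → ConjClasses.mk g' = K} //
        ∀ k : G, ConjClasses.mk k = K'.1 → IsConj k k⁻¹} ≃
      {K : ConjClasses G // (∀ s ∈ S, ∀ g g' : G, (g' : Γ) = s * g * s⁻¹ →
        ConjClasses.mk g = K → ConjClasses.mk g' = K) ∧
        ∀ k : G, ConjClasses.mk k = K → IsConj k k⁻¹} :=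
    Equiv.subtypeSubtypeEquivSubtypeInter
      (fun K : ConjClasses G => ∀ s ∈ S, ∀ g g' : G, (g' : Γ) = s * g * s⁻¹ →
        ConjClasses.mk g = K → ConjClasses.mk g' = K)
      (fun K : ConjClasses G => ∀ k : G, ConjClasses.mk k = K → IsConj k k⁻¹)
  exact Nat.card_congr (e1.trans (e2.trans (Equiv.subtypeEquivRight (fun K => and_comm))))

end ClassReal

end Cfsg.Agent.Helper79.Glaub
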