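import Cfsg.Agent.Lib.Helper79.Glaub.Corr
import Cfsg.Agent.Lib.Helper79.Glaub.ClassReal
import Cfsg.Agent.Lib.Helper80.ConjIrr

set_option autoImplicit false
set_option linter.unusedSectionVars false
set_option linter.style.haveILetI false

namespace Cfsg.Agent.Helper79.Glaub

open Cfsg Cfsg.Agent.Helper81 Cfsg.Agent.Helper80
open scoped ComplexConjugate

universe u

section RealCorr

variable {Γ : Type u} [Group Γ] [Fintype Γ]

/-- a correspondence respecting two predicates gives equal cardinalities of the subsets cut out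
by the predicates -/
theorem IsCorr.card_eq_of_iff {G C : Subgroup Γ} {Inv : IrrCharacter G → Prop}
    {R : IrrCharacter G → IrrCharacter C → Prop} (h : IsCorr Inv R)
    (Q : IrrCharacter G → Prop) (Q' : IrrCharacter C → Prop)
    (hQ : ∀ χ β, Inv χ → R χ β → (Q χ ↔ Q' β)) :
    Nat.card {χ : IrrCharacter G // Q χ ∧ Inv χ} = Nat.card {β : IrrCharacter C // Q' β} := by
  classical
  obtain ⟨h1, h2, h3⟩ := h
  let F : {χ : IrrCharacter G // Q χ ∧ Inv χ} → {β : IrrCharacter C // Q' β} := fun χ =>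
    ⟨(h1 χ.1 χ.2.2).choose, (hQ _ _ χ.2.2 (h1 χ.1 χ.2.2).choose_spec.1).mp χ.2.1⟩
  have hF : ∀ χ : {χ : IrrCharacter G // Q χ ∧ Inv χ}, R χ.1 (F χ).1 :=
    fun χ => (h1 χ.1 χ.2.2).choose_spec.1
  apply Nat.card_congr
  refine Equiv.ofBijective F ⟨?_, ?_⟩
  · intro χ χ' hχ
    apply Subtype.ext
    apply h2 χ.1 χ'.1 (F χ).1 χ.2.2 χ'.2.2 (hF χ)
    rw [hχ]
    exact hF χ'
  · intro β
    obtain ⟨χ, hχ, hR⟩ := h3 β.1
    refine ⟨⟨χ, (hQ χ β.1 hχ hR).mpr β.2, hχ⟩, ?_⟩
    apply Subtype.ext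
    exact ((h1 χ hχ).choose_spec.2 β.1 hR).symm

omit [Fintype Γ] in
theorem classInner_cconj {K : Type u} [Group K] [Fintype K] (f g : K → ℂ) :
    classInner (fun x => conj (f x)) (fun x => conj (g x)) = conj (classInner f g) := by
  unfold classInner
  rw [map_mul, map_inv₀, map_natCast, map_sum]
  congr 1
  apply Finset.sum_congr rfl
  intro x _
  rw [map_mul]

theorem pRel_cconj (p : ℕ) {G C : Subgroup Γ} [Fintype C] (hCG : C ≤ G) (χ : IrrCharacter G)
    (β : IrrCharacter C) (h : pRel p hCG χ β) : pRel p hCG (cconjIrr χ) (cconjIrr β) := by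
  obtain ⟨m, hm, hpm⟩ := h
  refine ⟨m, ?_, hpm⟩
  show classInner (fun c : C => conj ((χ : G → ℂ) (Subgroup.inclusion hCG c)))
    (fun c : C => conj ((β : C → ℂ) c)) = (m : ℂ)
  rw [classInner_cconj, hm, map_natCast]

/-- For a `p`-group `P` acting coprimely on `G`, the number of real-valued `P`-invariant
irreducible characters of `G` equals the number of real-valued irreducible characters of
`C_G(P)`. -/
theorem card_real_invariant_irr (p : ℕ) (hp : p.Prime) (G P : Subgroup Γ) [Fintype G]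
    (hnorm : ∀ s ∈ P, NormAt G s) (hcop : (Nat.card G).Coprime (Nat.card P))
    (hP : IsPGroup p P) (C : Subgroup Γ) [Fintype C]
    (hC : C = G ⊓ Subgroup.centralizer (P : Set Γ)) (hCG : C ≤ G) :
    Nat.card {θ : IrrCharacter G // (∀ k : G, ((θ : G → ℂ) k).im = 0) ∧
      ∀ x ∈ P, InvAt G (θ : G → ℂ) x} =
    Nat.card {β : IrrCharacter C // ∀ c : C, ((β : C → ℂ) c).im = 0} := by
  have hpkg := pkg_pgroup p hp (Nat.card P) G P rfl hnorm hcop hP C hC hCG
  have hcorr := pRel_isCorr p hCG _ hpkg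
  apply hcorr.card_eq_of_iff
  intro χ β hχ hR
  rw [← cconjIrr_eq_self_iff, ← cconjIrr_eq_self_iff]
  constructor
  · intro h
    have h1 := pRel_cconj p hCG χ β hR
    rw [h] at h1
    obtain ⟨β₀, _, huniq⟩ := hcorr.1 χ hχ
    rw [huniq _ h1, huniq _ hR]
  · intro h
    have h1 := pRel_cconj p hCG χ β hR
    rw [h] at h1
    have hinv : ∀ x ∈ P, InvAt G (cconjIrr χ : G → ℂ) x := by
      intro x hx g g' hg'
      show conj ((χ : G → ℂ) g') = conj ((χ : G → ℂ) g)
      rw [hχ x hx g g' hg']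
    exact hcorr.2.1 (cconjIrr χ) χ β hinv hχ h1 hR

end RealCorr

end Cfsg.Agent.Helper79.Glaub
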