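import Cfsg.Agent.Lib.Helper81.CharCorr

set_option autoImplicit false
set_option linter.unusedSectionVars false
set_option linter.style.haveILetI false

namespace Cfsg.Agent.Helper79.Glaub

open Cfsg Cfsg.Agent.Helper81
open scoped ComplexConjugate

universe u v u' v'

/-- The Glauberman package for a prime `p`: a bijection between a set `Inv` of irreducible
characters of `G` and the irreducible characters of `C`, characterised by multiplicities in the
restriction (along `res`) not divisible by `p`. -/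
def Pkg (p : ℕ) {G : Type u} {C : Type v} [Group G] [Group C] [Fintype C] (res : C →* G)
    (Inv : IrrCharacter G → Prop) : Prop :=
  (∀ χ : IrrCharacter G, Inv χ → ∃! β : IrrCharacter C, ∃ m : ℕ,
    classInner (fun c : C => (χ : G → ℂ) (res c)) (β : C → ℂ) = (m : ℂ) ∧ ¬ p ∣ m) ∧
  (∀ χ : IrrCharacter G, Inv χ → ∀ β : IrrCharacter C, ∀ m : ℕ,
    classInner (fun c : C => (χ : G → ℂ) (res c)) (β : C → ℂ) = (m : ℂ) → ¬ p ∣ m →
      ((m : ℤ) ≡ 1 [ZMOD p] ∨ (m : ℤ) ≡ -1 [ZMOD p])) ∧
  (∀ χ χ' : IrrCharacter G, Inv χ → Inv χ' → ∀ β : IrrCharacter C, ∀ m m' : ℕ,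
    classInner (fun c : C => (χ : G → ℂ) (res c)) (β : C → ℂ) = (m : ℂ) → ¬ p ∣ m →
    classInner (fun c : C => (χ' : G → ℂ) (res c)) (β : C → ℂ) = (m' : ℂ) → ¬ p ∣ m' →
      χ = χ') ∧
  (∀ β : IrrCharacter C, ∃ χ : IrrCharacter G, Inv χ ∧ ∃ m : ℕ,
    classInner (fun c : C => (χ : G → ℂ) (res c)) (β : C → ℂ) = (m : ℂ) ∧ ¬ p ∣ m)

/-- pulling back an irreducible character along an isomorphism -/
def irrComp {K : Type u} {K' : Type v} [Group K] [Group K'] (e : K' ≃* K)
    (θ : IrrCharacter K) : IrrCharacter K' :=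
  ⟨fun x => (θ : K → ℂ) (e x), isIrrCharacter_comp_equiv e θ.2⟩

theorem irrComp_apply {K : Type u} {K' : Type v} [Group K] [Group K'] (e : K' ≃* K)
    (θ : IrrCharacter K) (x : K') : (irrComp e θ : K' → ℂ) x = (θ : K → ℂ) (e x) := rfl

theorem irrComp_symm {K : Type u} {K' : Type v} [Group K] [Group K'] (e : K' ≃* K)
    (θ : IrrCharacter K') : irrComp e (irrComp e.symm θ) = θ := by
  apply Subtype.ext
  funext x
  simp [irrComp_apply]

theorem irrComp_symm' {K : Type u} {K' : Type v} [Group K] [Group K'] (e : K' ≃* K)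
    (θ : IrrCharacter K) : irrComp e.symm (irrComp e θ) = θ := by
  apply Subtype.ext
  funext x
  simp [irrComp_apply]

theorem irrComp_injective {K : Type u} {K' : Type v} [Group K] [Group K'] (e : K' ≃* K)
    {θ θ' : IrrCharacter K} (h : irrComp e θ = irrComp e θ') : θ = θ' := by
  rw [← irrComp_symm' e θ, ← irrComp_symm' e θ', h]

/-- restriction inner products are compatible with isomorphisms -/
theorem classInner_res_comp {G : Type u} {C : Type v} {G' : Type u'} {C' : Type v'}
    [Group G] [Group C] [Fintype C] [Group G'] [Group C'] [Fintype C']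
    (eG : G' ≃* G) (eC : C' ≃* C) (res : C →* G) (res' : C' →* G')
    (hcomm : ∀ c' : C', eG (res' c') = res (eC c')) (χ : IrrCharacter G) (β : IrrCharacter C) :
    classInner (fun c' : C' => (irrComp eG χ : G' → ℂ) (res' c')) (irrComp eC β : C' → ℂ) =
      classInner (fun c : C => (χ : G → ℂ) (res c)) (β : C → ℂ) := by
  rw [← classInner_comp_equiv eC]
  congr 1
  funext c'
  rw [irrComp_apply, hcomm]

/-- transport of the package along isomorphisms -/
theorem Pkg.transport (p : ℕ) {G : Type u} {C : Type v} {G' : Type u'} {C' : Type v'}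
    [Group G] [Group C] [Fintype C] [Group G'] [Group C'] [Fintype C']
    (eG : G' ≃* G) (eC : C' ≃* C) (res : C →* G) (res' : C' →* G')
    (hcomm : ∀ c' : C', eG (res' c') = res (eC c'))
    (Inv : IrrCharacter G → Prop) (Inv' : IrrCharacter G' → Prop)
    (hInv : ∀ χ : IrrCharacter G, Inv χ ↔ Inv' (irrComp eG χ))
    (h : Pkg p res' Inv') : Pkg p res Inv := by
  obtain ⟨h1, h2, h3, h4⟩ := h
  have key := classInner_res_comp eG eC res res' hcomm
  refine ⟨?_, ?_, ?_, ?_⟩
  · intro χ hχ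
    obtain ⟨β', ⟨m, hm, hpm⟩, huniq⟩ := h1 (irrComp eG χ) ((hInv χ).mp hχ)
    refine ⟨irrComp eC.symm β', ⟨m, ?_, hpm⟩, ?_⟩
    · rw [← key χ, irrComp_symm]
      exact hm
    · rintro β ⟨m', hm', hpm'⟩
      have := huniq (irrComp eC β) ⟨m', by rw [key χ β]; exact hm', hpm'⟩
      rw [← this, irrComp_symm']
  · intro χ hχ β m hm hpm
    exact h2 (irrComp eG χ) ((hInv χ).mp hχ) (irrComp eC β) m (by rw [key χ β]; exact hm) hpm
  · intro χ χ' hχ hχ' β m m' hm hpm hm' hpm'
    have := h3 (irrComp eG χ) (irrComp eG χ') ((hInv χ).mp hχ) ((hInv χ').mp hχ')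
      (irrComp eC β) m m' (by rw [key χ β]; exact hm) hpm (by rw [key χ' β]; exact hm') hpm'
    exact irrComp_injective eG this
  · intro β
    obtain ⟨χ', hχ', m, hm, hpm⟩ := h4 (irrComp eC β)
    refine ⟨irrComp eG.symm χ', ?_, m, ?_, hpm⟩
    · rw [hInv, irrComp_symm]
      exact hχ'
    · rw [← key, irrComp_symm]
      exact hm

end Cfsg.Agent.Helper79.Glaub
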