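import Cfsg.Agent.Lib.Helper79.Glaub.Comp

set_option autoImplicit false
set_option linter.unusedSectionVars false
set_option linter.style.haveILetI false

namespace Cfsg.Agent.Helper79.Glaub

open Cfsg Cfsg.Agent.Helper81
open scoped ComplexConjugate

universe u

/-- a nontrivial `p`-subgroup has a proper subgroup, normalized by it, generating it together
with one more element -/
theorem exists_maximal_normal {Γ : Type u} [Group Γ] [Finite Γ] (p : ℕ) (hp : p.Prime)
    (S : Subgroup Γ) (hS : IsPGroup p S) (hne : S ≠ ⊥) :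
    ∃ (T : Subgroup Γ) (s : Γ), T ≤ S ∧ Nat.card T < Nat.card S ∧ s ∈ S ∧
      (∀ x ∈ S, ∀ t ∈ T, x * t * x⁻¹ ∈ T) ∧ S ≤ Subgroup.closure ((T : Set Γ) ∪ {s}) := by
  classical
  haveI : Fact p.Prime := ⟨hp⟩
  obtain ⟨n, hn⟩ := IsPGroup.iff_card.mp hS
  have hn0 : n ≠ 0 := by
    rintro rfl
    rw [pow_zero] at hn
    exact hne (Subgroup.card_eq_one.mp hn)
  obtain ⟨k, rfl⟩ := Nat.exists_eq_succ_of_ne_zero hn0
  obtain ⟨T₀, hT₀⟩ := Sylow.exists_subgroup_card_pow_prime (G := S) p (n := k)
    (by rw [hn]; exact pow_dvd_pow p (Nat.le_succ k))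
  have hidx : T₀.index = p := by
    have h1 := Subgroup.card_mul_index T₀
    rw [hT₀, hn, pow_succ] at h1
    exact Nat.eq_of_mul_eq_mul_left (pow_pos hp.pos k) h1
  have hT₀n : T₀.Normal := by
    apply Subgroup.normal_of_index_eq_minFac_card
    rw [hidx, hn, Nat.Prime.pow_minFac hp (Nat.succ_ne_zero k)]
  have hT₀top : T₀ ≠ ⊤ := by
    intro h
    rw [h, Subgroup.index_top] at hidx
    exact hp.one_lt.ne hidx
  obtain ⟨s₀, hs₀⟩ : ∃ s₀ : S, s₀ ∉ T₀ := by
    by_contra hcon
    push Not at hcon
    exact hT₀top (eq_top_iff.mpr (fun x _ => hcon x))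
  have hK : T₀ ⊔ Subgroup.zpowers s₀ = ⊤ := by
    by_contra hKtop
    have h1 : (T₀ ⊔ Subgroup.zpowers s₀).index ∣ p := by
      rw [← hidx]
      exact Subgroup.index_dvd_of_le le_sup_left
    have h2 : (T₀ ⊔ Subgroup.zpowers s₀).index ≠ 1 := fun h => hKtop (Subgroup.index_eq_one.mp h)
    have h3 : (T₀ ⊔ Subgroup.zpowers s₀).index = p := by
      rcases (Nat.dvd_prime hp).mp h1 with h | h
      · exact absurd h h2
      · exact h
    have h4 : Nat.card (T₀ ⊔ Subgroup.zpowers s₀ : Subgroup S) = Nat.card T₀ := by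
      have h5 := Subgroup.card_mul_index (T₀ ⊔ Subgroup.zpowers s₀)
      have h6 := Subgroup.card_mul_index T₀
      rw [h3] at h5
      rw [hidx] at h6
      exact Nat.eq_of_mul_eq_mul_right hp.pos (h5.trans h6.symm)
    have h7 : T₀ = T₀ ⊔ Subgroup.zpowers s₀ :=
      Subgroup.eq_of_le_of_card_ge le_sup_left h4.le
    apply hs₀
    rw [h7]
    exact (le_sup_right : Subgroup.zpowers s₀ ≤ T₀ ⊔ Subgroup.zpowers s₀)
      (Subgroup.mem_zpowers s₀)
  refine ⟨T₀.map S.subtype, (s₀ : Γ), ?_, ?_, s₀.2, ?_, ?_⟩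
  · intro x hx
    obtain ⟨y, _, rfl⟩ := Subgroup.mem_map.mp hx
    exact y.2
  · rw [Subgroup.card_map_of_injective S.subtype_injective, hT₀, hn]
    exact Nat.pow_lt_pow_right hp.one_lt (Nat.lt_succ_self k)
  · intro x hx t ht
    obtain ⟨t₀, ht₀, rfl⟩ := Subgroup.mem_map.mp ht
    refine Subgroup.mem_map.mpr ⟨⟨x, hx⟩ * t₀ * ⟨x, hx⟩⁻¹, hT₀n.conj_mem t₀ ht₀ _, rfl⟩
  · intro x hx
    have h1 : (⟨x, hx⟩ : S) ∈ T₀ ⊔ Subgroup.zpowers s₀ := by rw [hK]; exact Subgroup.mem_top _
    have h2 : x ∈ (T₀ ⊔ Subgroup.zpowers s₀).map S.subtype :=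
      Subgroup.mem_map.mpr ⟨⟨x, hx⟩, h1, rfl⟩
    rw [Subgroup.map_sup, MonoidHom.map_zpowers] at h2
    have h3 : T₀.map S.subtype ⊔ Subgroup.zpowers (S.subtype s₀) ≤
        Subgroup.closure (((T₀.map S.subtype : Subgroup Γ) : Set Γ) ∪ {(s₀ : Γ)}) := by
      apply sup_le
      · intro y hy
        exact Subgroup.subset_closure (Or.inl hy)
      · rw [Subgroup.zpowers_le]
        exact Subgroup.subset_closure (Or.inr rfl)
    exact h3 h2

/-- changing the invariance predicate of a package -/
theorem Pkg.of_inv_iff (p : ℕ) {G C : Type u} [Group G] [Group C] [Fintype C] (res : C →* G)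
    (Inv Inv' : IrrCharacter G → Prop) (h : ∀ χ, Inv χ ↔ Inv' χ) (hP : Pkg p res Inv') :
    Pkg p res Inv := by
  have : Inv = Inv' := funext (fun χ => propext (h χ))
  rw [this]
  exact hP

section PGroup

variable {Γ : Type u} [Group Γ] [Fintype Γ]

/-- `s` normalizing `G` and `T` normalizes `G ⊓ C(T)` -/
theorem normAt_inf_centralizer (G T : Subgroup Γ) (s : Γ) (hG : NormAt G s) (hT : NormAt T s) :
    NormAt (G ⊓ Subgroup.centralizer (T : Set Γ)) s := by
  have key : ∀ x : Γ, NormAt G x → NormAt T x →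
      ∀ b ∈ G ⊓ Subgroup.centralizer (T : Set Γ), x * b * x⁻¹ ∈ G ⊓ Subgroup.centralizer (T : Set Γ) := by
    intro x hxG hxT b hb
    rw [Subgroup.mem_inf] at hb ⊢
    refine ⟨hxG.1 b hb.1, ?_⟩
    rw [Subgroup.mem_centralizer_iff]
    intro t ht
    have ht' : x⁻¹ * t * x ∈ T := hxT.2 t ht
    have hcomm := (Subgroup.mem_centralizer_iff.mp hb.2) _ ht'
    calc t * (x * b * x⁻¹) = x * ((x⁻¹ * t * x) * b) * x⁻¹ := by group
      _ = x * (b * (x⁻¹ * t * x)) * x⁻¹ := by rw [hcomm]
      _ = x * b * x⁻¹ * t := by group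
  refine ⟨key s hG hT, ?_⟩
  intro b hb
  have := key s⁻¹ hG.inv hT.inv b hb
  rwa [inv_inv] at this

/-- The Glauberman package for a `p`-group normalizing `G`. -/
theorem pkg_pgroup (p : ℕ) (hp : p.Prime) : ∀ (n : ℕ) (G S : Subgroup Γ) [Fintype G],
    Nat.card S = n → (∀ s ∈ S, NormAt G s) → (Nat.card G).Coprime (Nat.card S) →
    IsPGroup p S → ∀ (C : Subgroup Γ) [Fintype C],
    C = G ⊓ Subgroup.centralizer (S : Set Γ) → ∀ hCG : C ≤ G,
    Pkg p (Subgroup.inclusion hCG)
      (fun χ : IrrCharacter G => ∀ x ∈ S, InvAt G (χ : G → ℂ) x) := by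
  classical
  intro n
  induction n using Nat.strong_induction_on with
  | _ n ih =>
    intro G S _ hn hnorm hcop hS C _ hC hCG
    by_cases hbot : S = ⊥
    · -- trivial group of operators
      subst hbot
      have hC' : C = G ⊓ Subgroup.centralizer {(1 : Γ)} := by
        rw [hC, Subgroup.coe_bot]
      have h1 := pkg_cyclic_ambient G (1 : Γ) (normAt_of_mem G G.one_mem) p 0 hp (by simp)
        (by simp) C hC' hCG
      refine Pkg.of_inv_iff p _ _ _ ?_ h1
      intro χ
      constructor
      · intro h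
        exact h 1 (Subgroup.mem_bot.mpr rfl)
      · intro h x hx
        rw [Subgroup.mem_bot.mp hx]
        exact h
    · obtain ⟨T, s, hTS, hTlt, hsS, hTnorm, hgen⟩ := exists_maximal_normal p hp S hS hbot
      -- the fixed points of `T`
      set B : Subgroup Γ := G ⊓ Subgroup.centralizer (T : Set Γ) with hB
      haveI : Fintype B := Fintype.ofFinite _
      have hBG : B ≤ G := inf_le_left
      have hsG : NormAt G s := hnorm s hsS
      have hsT : NormAt T s := by
        refine ⟨fun t ht => hTnorm s hsS t ht, fun t ht => ?_⟩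
        have := hTnorm s⁻¹ (S.inv_mem hsS) t ht
        rwa [inv_inv] at this
      have hsB : NormAt B s := normAt_inf_centralizer G T s hsG hsT
      -- centralizer of `S`
      have hcent : Subgroup.centralizer (S : Set Γ) =
          Subgroup.centralizer (T : Set Γ) ⊓ Subgroup.centralizer {s} := by
        apply le_antisymm
        · apply le_inf
          · exact Subgroup.centralizer_le hTS
          · apply Subgroup.centralizer_le
            intro x hx
            rw [Set.mem_singleton_iff] at hx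
            rw [hx]
            exact hsS
        · intro c hc
          rw [Subgroup.mem_inf] at hc
          have h1 : c ∈ Subgroup.centralizer ((T : Set Γ) ∪ {s}) := by
            rw [Subgroup.mem_centralizer_iff]
            intro x hx
            rcases hx with hx | hx
            · exact (Subgroup.mem_centralizer_iff.mp hc.1) x hx
            · exact (Subgroup.mem_centralizer_iff.mp hc.2) x hx
          rw [← Subgroup.centralizer_closure] at h1
          exact Subgroup.centralizer_le hgen h1
      have hC' : C = B ⊓ Subgroup.centralizer {s} := by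
        rw [hC, hcent, hB, inf_assoc]
      have hCB : C ≤ B := by rw [hC']; exact inf_le_left
      -- order of `s`
      obtain ⟨k, hk⟩ := hS ⟨s, hsS⟩
      have hk' : s ^ p ^ k = 1 := by
        have := congrArg Subtype.val hk
        simpa using this
      obtain ⟨j, _, hj⟩ := (Nat.dvd_prime_pow hp).mp (orderOf_dvd_of_pow_eq_one hk')
      have hsdvd : orderOf s ∣ Nat.card S := by
        have := Subgroup.orderOf_dvd_natCard S hsS
        exact this
      have hcopB : (Nat.card B).Coprime (p ^ j) := by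
        rw [← hj]
        exact Nat.Coprime.coprime_dvd_left (Subgroup.card_dvd_of_le hBG)
          (Nat.Coprime.coprime_dvd_right hsdvd hcop)
      -- the two packages
      have hP1 := ih (Nat.card T) (by rw [← hn]; exact hTlt) G T rfl
        (fun t ht => hnorm t (hTS ht))
        (Nat.Coprime.coprime_dvd_right (Subgroup.card_dvd_of_le hTS) hcop)
        (hS.to_le hTS) B hB hBG
      have hP2 := pkg_cyclic_ambient B s hsB p j hp hj hcopB C hC' hCB
      have hP := pkg_comp p hp G B C hBG hCB (T : Set Γ) s hsG hsB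
        (fun x hx => hTnorm s hsS x hx) hP1 hP2
      refine Pkg.of_inv_iff p _ _ _ ?_ hP
      intro χ
      constructor
      · intro h
        exact ⟨fun x hx => h x (hTS hx), h s hsS⟩
      · rintro ⟨h1, h2⟩ x hx
        have hall := normInv_closure G (χ : G → ℂ) ((T : Set Γ) ∪ {s}) (by
          intro y hy
          rcases hy with hy | hy
          · exact ⟨hnorm y (hTS hy), h1 y hy⟩
          · rw [Set.mem_singleton_iff] at hy
            rw [hy]
            exact ⟨hsG, h2⟩) x (hgen hx)
        exact hall.2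

end PGroup

end Cfsg.Agent.Helper79.Glaub
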