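import Cfsg.Agent.Lib.Helper75.CharGalois

set_option autoImplicit false
set_option linter.unusedSectionVars false
set_option linter.style.haveILetI false

namespace Cfsg.Agent.Helper79.Glaub

open Polynomial

/-- The sum of the values of an integer polynomial at all primitive `N`-th roots of unity is a
rational integer (it is a trace from the cyclotomic field). -/
theorem sum_aeval_primitiveRoots_int (N : ℕ) (hN : 0 < N) (P : ℤ[X]) :
    ∃ z : ℤ, (z : ℂ) = ∑ η ∈ primitiveRoots N ℂ, aeval η P := by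
  have : NeZero N := ⟨hN.ne'⟩
  have hcyc : IsCyclotomicExtension {N} ℚ (CyclotomicField N ℚ) :=
    CyclotomicField.isCyclotomicExtension N ℚ
  have hζK : IsPrimitiveRoot (IsCyclotomicExtension.zeta N ℚ (CyclotomicField N ℚ)) N :=
    IsCyclotomicExtension.zeta_spec N ℚ (CyclotomicField N ℚ)
  set ζK := IsCyclotomicExtension.zeta N ℚ (CyclotomicField N ℚ) with hζKdef
  set x : CyclotomicField N ℚ := aeval ζK P with hx
  have hxint : IsIntegral ℤ x := by
    have h1 : IsIntegral ℤ ζK := hζK.isIntegral hN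
    rw [hx, aeval_eq_sum_range]
    apply IsIntegral.sum
    intro i _
    exact (h1.pow i).smul _
  have htr : IsIntegral ℤ (Algebra.trace ℚ (CyclotomicField N ℚ) x) :=
    Algebra.isIntegral_trace hxint
  obtain ⟨z, hz⟩ := IsIntegrallyClosed.isIntegral_iff.mp htr
  refine ⟨z, ?_⟩
  have h1 := trace_eq_sum_embeddings (K := ℚ) (L := CyclotomicField N ℚ) ℂ (x := x)
  have hirr : Irreducible (cyclotomic N ℚ) := cyclotomic.irreducible_rat hN
  rw [← hz] at h1
  simp only [algebraMap_int_eq, eq_intCast, eq_ratCast, Rat.cast_intCast] at h1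
  rw [h1]
  rw [← Finset.sum_coe_sort (primitiveRoots N ℂ)]
  apply Fintype.sum_equiv (hζK.embeddingsEquivPrimitiveRoots ℂ hirr)
  intro σ
  rw [IsPrimitiveRoot.embeddingsEquivPrimitiveRoots_apply_coe, hx]
  exact (aeval_algHom_apply (σ : CyclotomicField N ℚ →+* ℂ).toIntAlgHom ζK P).symm

/-- A nonnegative integer combination of `n`-th roots of unity that is unchanged when all the
roots are raised to any power prime to `n` is a rational integer. -/
theorem int_of_galois_stable {ι : Type*} [Fintype ι] (n : ℕ) (hn : 0 < n) (z : ι → ℂ)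
    (m : ι → ℕ) (hz : ∀ i, z i ^ n = 1)
    (hstab : ∀ k : ℕ, k.Coprime n → ∑ i, (m i : ℂ) * z i ^ k = ∑ i, (m i : ℂ) * z i) :
    ∃ w : ℤ, ∑ i, (m i : ℂ) * z i = w := by
  classical
  haveI : NeZero n := ⟨hn.ne'⟩
  obtain ⟨ω, hω⟩ : ∃ ω : ℂ, IsPrimitiveRoot ω n := ⟨_, Complex.isPrimitiveRoot_exp n hn.ne'⟩
  have hj : ∀ i, ∃ j : ℕ, ω ^ j = z i := by
    intro i
    obtain ⟨j, _, hj⟩ := hω.eq_pow_of_pow_eq_one (hz i)
    exact ⟨j, hj⟩
  choose j hj using hj
  set a : ℂ := ∑ i, (m i : ℂ) * z i with ha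
  let P : ℤ[X] := ∑ i, C (m i : ℤ) * X ^ j i
  have hP : ∀ η ∈ primitiveRoots n ℂ, aeval η P = a := by
    intro η hη
    rw [mem_primitiveRoots hn] at hη
    obtain ⟨k, _, hk⟩ := hω.eq_pow_of_pow_eq_one (hη.pow_eq_one)
    have hkcop : k.Coprime n := by
      rw [← hk] at hη
      exact (hω.pow_iff_coprime hn k).mp hη
    rw [← hstab k hkcop]
    simp only [P, map_sum, map_mul, aeval_C, map_pow, aeval_X]
    apply Finset.sum_congr rfl
    intro i _
    rw [← hk, ← hj i]
    simp only [algebraMap_int_eq, eq_intCast, Int.cast_natCast]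
    rw [← pow_mul, ← pow_mul, mul_comm k (j i)]
  obtain ⟨w', hw'⟩ := sum_aeval_primitiveRoots_int n hn P
  rw [Finset.sum_congr rfl hP, Finset.sum_const, hω.card_primitiveRoots, nsmul_eq_mul] at hw'
  have hφ : (Nat.totient n : ℂ) ≠ 0 := by
    exact_mod_cast (Nat.totient_pos.mpr hn).ne'
  have hint : IsIntegral ℤ a := by
    rw [ha]
    apply IsIntegral.sum
    intro i _
    apply IsIntegral.mul
    · exact isIntegral_algebraMap (R := ℤ) (A := ℂ) (x := (m i : ℤ)) |> fun h => by simpa using h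
    · apply IsIntegral.of_pow hn
      rw [hz i]
      exact isIntegral_one
  have h1 : a = (((w' : ℚ) / (Nat.totient n : ℚ) : ℚ) : ℂ) := by
    push_cast
    rw [eq_div_iff hφ, hw']
    ring
  rw [h1] at hint
  have h2 : IsIntegral ℤ ((w' : ℚ) / (Nat.totient n : ℚ) : ℚ) :=
    (isIntegral_algebraMap_iff (algebraMap ℚ ℂ).injective).1 hint
  obtain ⟨w, hw⟩ := IsIntegrallyClosed.isIntegral_iff.1 h2
  refine ⟨w, ?_⟩
  rw [h1, ← hw]
  simp

end Cfsg.Agent.Helper79.Glaub
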