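import Cfsg.Agent.Lib.Helper79.Glaub.EigenDet
import Cfsg.Agent.Lib.Helper81.CharCanon
import Cfsg.Agent.Lib.Helper79.Integrality

set_option autoImplicit false
set_option linter.unusedSectionVars false
set_option linter.style.haveILetI false

namespace Cfsg.Agent.Helper79.Glaub

open Cfsg Cfsg.Agent.Helper81 Cfsg.Agent.Helper75

universe u

variable {Γ : Type u} [Group Γ] [Fintype Γ]

/-- the determinantal order of an irreducible character divides the group order -/
theorem detOrder_dvd_card {K : Type u} [Group K] [Finite K] {θ : K → ℂ}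
    (hθ : IsIrrCharacter K θ) : detOrder θ ∣ Nat.card K := by
  obtain ⟨ν, hν⟩ := exists_detHom hθ
  unfold detOrder
  apply orderOf_dvd_of_pow_eq_one
  funext x
  rw [Pi.pow_apply, Pi.one_apply, ← hν x, ← Units.val_pow_eq_pow_val, ← map_pow,
    pow_card_eq_one', map_one, Units.val_one]

/-- the hypothesis of the canonical extension theorem in the coprime situation -/
theorem coprime_index_detOrder_mul (G : Subgroup Γ) (hcop : (Nat.card G).Coprime G.index)
    {χ : G → ℂ} (hχ : IsIrrCharacter G χ) :
    Nat.Coprime G.index (detOrder χ * charDegree χ) := by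
  apply Nat.Coprime.mul_right
  · exact (Nat.Coprime.coprime_dvd_left (detOrder_dvd_card hχ) hcop).symm
  · exact (Nat.Coprime.coprime_dvd_left
      (Cfsg.Agent.Helper79.irr_degree_dvd_card ⟨χ, hχ⟩) hcop).symm

/-- Two extensions with determinantal order prime to the index agree. -/
theorem canonical_unique (G : Subgroup Γ) (hG : G.Normal)
    (hcop : (Nat.card G).Coprime G.index)
    {χ : G → ℂ} (hχ : IsIrrCharacter G χ) {χh χh' : Γ → ℂ} (hχh : IsIrrCharacter Γ χh)
    (hχh' : IsIrrCharacter Γ χh')
    (hres : ∀ g : G, χh g = χ g) (hres' : ∀ g : G, χh' g = χ g)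
    (hdet : (detOrder χh).Coprime G.index) (hdet' : (detOrder χh').Coprime G.index) :
    χh' = χh := by
  have hinv : ∀ (γ : Γ) (g : G), χ ⟨γ * g * γ⁻¹, hG.conj_mem g g.2 γ⟩ = χ g := by
    intro γ g
    rw [← hres, ← hres]
    exact isClassFunction_of_isCharacter (IsIrrCharacter.isCharacter hχh) _ _
  have hd := (Cfsg.Agent.Helper79.irr_one_eq ⟨χ, hχ⟩).1
  obtain ⟨χ₀, _, huniq⟩ := exists_canonical_extension G hG hχ hinv (charDegree χ) hd
    (coprime_index_detOrder_mul G hcop hχ)
  rw [huniq χh hχh hres hdet.symm, huniq χh' hχh' hres' hdet'.symm]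

/-- (T) The canonical extension is invariant under power maps `x ↦ x ^ k` with `k ≡ 1` modulo
`|G|` and `k` prime to the index. -/
theorem canonical_twist_invariant (G : Subgroup Γ) (hG : G.Normal)
    (hcop : (Nat.card G).Coprime G.index)
    {χ : G → ℂ} (hχ : IsIrrCharacter G χ) {χh : Γ → ℂ} (hχh : IsIrrCharacter Γ χh)
    (hres : ∀ g : G, χh g = χ g) (hdet : (detOrder χh).Coprime G.index)
    (k : ℕ) (hk1 : k ≡ 1 [MOD Nat.card G]) (hk2 : k.Coprime G.index) (x : Γ) :
    χh (x ^ k) = χh x := by
  have hkG : k.Coprime (Nat.card G) := by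
    have := hk1.gcd_eq
    rw [Nat.Coprime, this]
    simp
  have hkΓ : k.Coprime (Nat.card Γ) := by
    rw [← Subgroup.index_mul_card G]
    exact Nat.Coprime.mul_right hk2 hkG
  have hirr' : IsIrrCharacter Γ (fun y => χh (y ^ k)) :=
    galois_twist_irr ⟨χh, hχh⟩ k hkΓ
  have hres' : ∀ g : G, (fun y => χh (y ^ k)) (g : Γ) = χ g := by
    intro g
    show χh ((g : Γ) ^ k) = χ g
    have h1 : (g : Γ) ^ k = (g : Γ) := by
      have h2 : g ^ k = g ^ 1 := by
        rw [pow_eq_pow_iff_modEq]
        exact hk1.of_dvd (orderOf_dvd_natCard g)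
      rw [pow_one] at h2
      rw [← Subgroup.coe_pow, h2]
    rw [h1, hres]
  have hdet' : (detOrder (fun y => χh (y ^ k))).Coprime G.index :=
    Nat.Coprime.coprime_dvd_left (detOrder_twist_dvd hχh hirr' k (fun _ => rfl)) hdet
  have := canonical_unique G hG hcop hχ hχh hirr' hres hres' hdet hdet'
  exact congrFun this x

end Cfsg.Agent.Helper79.Glaub
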