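import Mathlib

set_option autoImplicit false
set_option linter.unusedSectionVars false
set_option linter.style.haveILetI false

namespace Cfsg.Agent.Helper79.Glaub

universe u v

/-- Weighted orbit counting for a `p`-group: an invariant weight summed over a finite set is
congruent mod `p` to its sum over the fixed points. -/
theorem sum_modEq_fixed {P : Type u} {X : Type v} [Group P] [MulAction P X] [Fintype X]
    (p : ℕ) [hp : Fact p.Prime] (hP : IsPGroup p P) (f : X → ℕ)
    (hf : ∀ (g : P) (x : X), f (g • x) = f x) [DecidablePred (fun x : X => ∀ g : P, g • x = x)] :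
    ∑ x, f x ≡ ∑ x, (if ∀ g : P, g • x = x then f x else 0) [MOD p] := by
  classical
  rw [← ZMod.natCast_eq_natCast_iff, Nat.cast_sum, Nat.cast_sum]
  let q : X → Quotient (MulAction.orbitRel P X) := fun x => Quotient.mk'' x
  haveI : Fintype (Quotient (MulAction.orbitRel P X)) := Fintype.ofFinite _
  rw [← Finset.sum_fiberwise Finset.univ q (fun x => (f x : ZMod p)),
    ← Finset.sum_fiberwise Finset.univ q (fun x => ((if ∀ g : P, g • x = x then f x else 0 : ℕ) : ZMod p))]
  apply Finset.sum_congr rfl
  intro b _
  induction b using Quotient.inductionOn' with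
  | h x₀ =>
    have hmem : ∀ a : X, a ∈ Finset.univ.filter (fun a => q a = Quotient.mk'' x₀) ↔
        a ∈ MulAction.orbit P x₀ := by
      intro a
      rw [Finset.mem_filter]
      simp only [Finset.mem_univ, true_and, q]
      rw [Quotient.eq'']
      rfl
    by_cases hfix : ∀ g : P, g • x₀ = x₀
    · -- the fibre is `{x₀}`
      apply Finset.sum_congr rfl
      intro a ha
      rw [hmem] at ha
      obtain ⟨g, rfl⟩ := ha
      have : ∀ g' : P, g' • g • x₀ = g • x₀ := by
        intro g'
        rw [hfix g, hfix g']
      rw [if_pos this]
    · have hnofix : ∀ a ∈ Finset.univ.filter (fun a => q a = Quotient.mk'' x₀),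
          ¬ ∀ g : P, g • a = a := by
        intro a ha hfa
        rw [hmem] at ha
        obtain ⟨g, rfl⟩ := ha
        apply hfix
        intro g'
        have h1 := hfa (g * g' * g⁻¹)
        rw [← mul_smul, inv_mul_cancel_right, mul_smul] at h1
        have h2 := congrArg (fun y => g⁻¹ • y) h1
        simpa using h2
      have hrhs : ∑ a ∈ Finset.univ.filter (fun a => q a = Quotient.mk'' x₀),
          (((if ∀ g : P, g • a = a then f a else 0 : ℕ)) : ZMod p) = 0 := by
        apply Finset.sum_eq_zero
        intro a ha
        rw [if_neg (hnofix a ha)]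
        simp
      rw [hrhs]
      have hconst : ∀ a ∈ Finset.univ.filter (fun a => q a = Quotient.mk'' x₀),
          (f a : ZMod p) = (f x₀ : ZMod p) := by
        intro a ha
        rw [hmem] at ha
        obtain ⟨g, rfl⟩ := ha
        rw [hf]
      rw [Finset.sum_congr rfl hconst, Finset.sum_const, nsmul_eq_mul]
      have hcard : (Finset.univ.filter (fun a => q a = Quotient.mk'' x₀)).card =
          Nat.card (MulAction.orbit P x₀) := by
        rw [Nat.card_eq_fintype_card, ← Set.toFinset_card]
        congr 1
        ext a
        rw [hmem, Set.mem_toFinset]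
      obtain ⟨k, hk⟩ := hP.card_orbit x₀
      have hk0 : k ≠ 0 := by
        rintro rfl
        rw [pow_zero] at hk
        apply hfix
        have h1 : x₀ ∈ MulAction.fixedPoints P X :=
          MulAction.mem_fixedPoints_iff_card_orbit_eq_one.mpr (by
            rw [← Nat.card_eq_fintype_card]; exact hk)
        exact fun g => h1 g
      rw [hcard, hk]
      have : ((p ^ k : ℕ) : ZMod p) = 0 := by
        rw [ZMod.natCast_eq_zero_iff]
        exact dvd_pow_self p hk0
      rw [this, zero_mul]

end Cfsg.Agent.Helper79.Glaub
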