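import Cfsg.Agent.Lib.Helper79.Glaub.Corr
import Cfsg.Agent.Lib.Helper79.Glaub.OrbitSum
import Cfsg.Agent.Lib.Helper79.Integrality

set_option autoImplicit false
set_option linter.unusedSectionVars false
set_option linter.style.haveILetI false

namespace Cfsg.Agent.Helper79.Glaub

open Cfsg Cfsg.Agent.Helper81
open scoped ComplexConjugate

universe u

section Ram

variable {G : Type u} [Group G] [Fintype G]

/-- Clifford: the ramification index divides the degree -/
theorem ram_dvd_degree (N : Subgroup G) [Fintype N] (hN : N.Normal) {χ : G → ℂ}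
    (hχ : IsIrrCharacter G χ) {θ : N → ℂ} (hθ : IsIrrCharacter N θ) (e : ℕ)
    (he : classInner (fun n : N => χ n) θ = (e : ℂ)) (he0 : e ≠ 0) :
    e ∣ charDegree χ := by
  classical
  have hne : classInner (fun n : N => χ n) θ ≠ 0 := by
    rw [he]
    exact_mod_cast he0
  have h := clifford N hN hχ hθ hne
  have hS := conjSet_finite N hN θ
  have h1 := congrFun h 1
  rw [he, finsum_mem_eq_finite_toFinset_sum _ hS] at h1
  simp only [Pi.smul_apply, Finset.sum_apply, smul_eq_mul] at h1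
  have h2 : ∑ ψ ∈ hS.toFinset, ψ 1 =
      ((∑ ψ ∈ hS.toFinset, charDegree ψ : ℕ) : ℂ) := by
    rw [Nat.cast_sum]
    apply Finset.sum_congr rfl
    intro ψ hψ
    obtain ⟨g, rfl⟩ := (Set.Finite.mem_toFinset hS).1 hψ
    exact (Cfsg.Agent.Helper79.irr_one_eq ⟨_, conjFun_isIrrCharacter N hN hθ g⟩).1
  rw [h2] at h1
  have h4 : χ ((1 : N) : G) = (charDegree χ : ℂ) := (Cfsg.Agent.Helper79.irr_one_eq ⟨χ, hχ⟩).1
  rw [h4] at h1
  refine ⟨∑ ψ ∈ hS.toFinset, charDegree ψ, ?_⟩
  exact_mod_cast h1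

end Ram

section Sub

variable {Γ : Type u} [Group Γ] [Fintype Γ]

/-- in a group of order prime to `p` the ramification indices are prime to `p` -/
theorem not_dvd_ram (p : ℕ) (G N : Subgroup Γ) [Fintype G] [Fintype N] (hNG : N ≤ G)
    (hnorm : ∀ g ∈ G, ∀ n ∈ N, g * n * g⁻¹ ∈ N) (hpG : ¬ p ∣ Nat.card G)
    (χ : IrrCharacter G) (θ : IrrCharacter N) (e : ℕ)
    (he : classInner (fun n : N => (χ : G → ℂ) (Subgroup.inclusion hNG n)) (θ : N → ℂ) = (e : ℂ))
    (he0 : e ≠ 0) : ¬ p ∣ e := by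
  classical
  set N' : Subgroup G := N.subgroupOf G with hN'
  haveI : Fintype N' := Fintype.ofFinite _
  have hN'n : N'.Normal := by
    constructor
    intro n hn g
    rw [hN', Subgroup.mem_subgroupOf] at hn ⊢
    exact hnorm g g.2 n hn
  let e' : N' ≃* N := Subgroup.subgroupOfEquivOfLe hNG
  have h1 : classInner (fun n : N' => (χ : G → ℂ) n) (irrComp e' θ : N' → ℂ) = (e : ℂ) := by
    rw [← he, ← classInner_comp_equiv e']
    rfl
  have h2 := ram_dvd_degree N' hN'n χ.2 (irrComp e' θ).2 e h1 he0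
  intro hpe
  exact hpG ((hpe.trans h2).trans (Cfsg.Agent.Helper79.irr_degree_dvd_card χ))

/-- the action of a normalizing subgroup on the irreducible characters -/
@[reducible] noncomputable def irrAction (N P : Subgroup Γ) (hPN : ∀ x ∈ P, NormAt N x) :
    MulAction P (IrrCharacter N) where
  smul x η := irrComp (conjEquiv N ((x : Γ)⁻¹) (hPN _ (P.inv_mem x.2))) η
  one_smul η := by
    apply Subtype.ext
    funext n
    show (η : N → ℂ) (conjEquiv N (((1 : P) : Γ)⁻¹) _ n) = (η : N → ℂ) n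
    apply congrArg
    apply Subtype.ext
    simp [conjEquiv_coe]
  mul_smul x y η := by
    apply Subtype.ext
    funext n
    show (η : N → ℂ) (conjEquiv N (((x * y : P) : Γ)⁻¹) _ n) =
      (η : N → ℂ) (conjEquiv N ((y : Γ)⁻¹) _ (conjEquiv N ((x : Γ)⁻¹) _ n))
    apply congrArg
    apply Subtype.ext
    simp only [conjEquiv_coe, Subgroup.coe_mul]
    group

theorem irrAction_smul (N P : Subgroup Γ) (hPN : ∀ x ∈ P, NormAt N x) (x : P)
    (η : IrrCharacter N) :
    (irrAction N P hPN).smul x η =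
      irrComp (conjEquiv N ((x : Γ)⁻¹) (hPN _ (P.inv_mem x.2))) η := rfl

theorem irrAction_fixed_iff (N P : Subgroup Γ) (hPN : ∀ x ∈ P, NormAt N x)
    (η : IrrCharacter N) :
    (∀ x : P, (irrAction N P hPN).smul x η = η) ↔ ∀ x ∈ P, InvAt N (η : N → ℂ) x := by
  constructor
  · intro h x hx
    have h1 := h ⟨x⁻¹, P.inv_mem hx⟩
    rw [irrAction_smul] at h1
    have h2 := (invAt_iff_irrComp _ _ η).mpr h1
    simpa using h2
  · intro h x
    rw [irrAction_smul]
    exact (invAt_iff_irrComp _ _ η).mp (h _ (P.inv_mem x.2))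

/-- Compatibility of the `p`-group correspondence with invariant normal subgroups
(Isaacs, Theorem 13.29, for `p`-groups). -/
theorem pRel_compat (p : ℕ) (hp : p.Prime) (G N P CG CN : Subgroup Γ) [Fintype G] [Fintype N]
    [Fintype CG] [Fintype CN] (hNG : N ≤ G) (hCG : CG ≤ G) (hCN : CN ≤ N) (hCNG : CN ≤ CG)
    (hGN : ∀ g ∈ G, ∀ n ∈ N, g * n * g⁻¹ ∈ N)
    (hCGN : ∀ g ∈ CG, ∀ n ∈ CN, g * n * g⁻¹ ∈ CN)
    (hPN : ∀ x ∈ P, NormAt N x) (hPp : IsPGroup p P) (hpG : ¬ p ∣ Nat.card G)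
    (hcent : ∀ x ∈ P, ∀ c ∈ CN, x * c * x⁻¹ = c)
    (hpkgG : Pkg p (Subgroup.inclusion hCG)
      (fun χ : IrrCharacter G => ∀ x ∈ P, InvAt G (χ : G → ℂ) x))
    (hpkgN : Pkg p (Subgroup.inclusion hCN)
      (fun θ : IrrCharacter N => ∀ x ∈ P, InvAt N (θ : N → ℂ) x))
    (χ : IrrCharacter G) (hχ : ∀ x ∈ P, InvAt G (χ : G → ℂ) x)
    (θ : IrrCharacter N) (hθ : ∀ x ∈ P, InvAt N (θ : N → ℂ) x)
    (β : IrrCharacter CG) (φ : IrrCharacter CN) (hR : pRel p hCG χ β) (hR' : pRel p hCN θ φ) :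
    classInner (fun n : N => (χ : G → ℂ) (Subgroup.inclusion hNG n)) (θ : N → ℂ) ≠ 0 ↔
      classInner (fun c : CN => (β : CG → ℂ) (Subgroup.inclusion hCNG c)) (φ : CN → ℂ) ≠ 0 := by
  classical
  haveI : Fact p.Prime := ⟨hp⟩
  obtain ⟨a, b, ha, hb, hab⟩ := classInner_res_trans (Subgroup.inclusion hCG)
    (Subgroup.inclusion hCNG) (IsIrrCharacter.isCharacter χ.2) φ
  obtain ⟨c, d, hc, hd, hcd⟩ := classInner_res_trans (Subgroup.inclusion hNG)
    (Subgroup.inclusion hCN) (IsIrrCharacter.isCharacter χ.2) φ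
  have hsum : ∑ ψ, a ψ * b ψ = ∑ η, c η * d η := by
    have h1 : ((∑ ψ, a ψ * b ψ : ℕ) : ℂ) = ((∑ η, c η * d η : ℕ) : ℂ) := by
      rw [← hab, ← hcd]
      rfl
    exact_mod_cast h1
  -- route through `CG`
  obtain ⟨m, hm, hpm⟩ := hR
  have haβ : a β = m := by
    have h1 := ha β
    rw [hm] at h1
    exact_mod_cast h1.symm
  have haψ : ∀ ψ, ψ ≠ β → p ∣ a ψ := by
    intro ψ hψ
    by_contra hnd
    obtain ⟨β₀, _, huniq⟩ := hpkgG.1 χ hχ
    have h1 := huniq ψ ⟨a ψ, ha ψ, hnd⟩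
    have h2 := huniq β ⟨m, hm, hpm⟩
    exact hψ (h1.trans h2.symm)
  have hA : ((∑ ψ, a ψ * b ψ : ℕ) : ZMod p) = (a β : ZMod p) * (b β : ZMod p) := by
    rw [Nat.cast_sum, Finset.sum_eq_single β]
    · rw [Nat.cast_mul]
    · intro ψ _ hψ
      rw [Nat.cast_mul, (ZMod.natCast_eq_zero_iff _ _).mpr (haψ ψ hψ), zero_mul]
    · intro h
      exact absurd (Finset.mem_univ β) h
  -- route through `N`
  letI := irrAction N P hPN
  have hinvf : ∀ (x : P) (η : IrrCharacter N), c (x • η) * d (x • η) = c η * d η := by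
    intro x η
    have hxη : x • η = irrComp (conjEquiv N ((x : Γ)⁻¹) (hPN _ (P.inv_mem x.2))) η := rfl
    have h1 : c (x • η) = c η := by
      have h2 : (c (x • η) : ℂ) = (c η : ℂ) := by
        rw [← hc, ← hc, hxη, ← classInner_comp_equiv (conjEquiv N ((x : Γ)⁻¹)
          (hPN _ (P.inv_mem x.2))) (fun n : N => (χ : G → ℂ) (Subgroup.inclusion hNG n))
          (η : N → ℂ)]
        congr 1
        funext n
        exact (hχ _ (P.inv_mem x.2) (Subgroup.inclusion hNG n) (Subgroup.inclusion hNG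
          (conjEquiv N ((x : Γ)⁻¹) (hPN _ (P.inv_mem x.2)) n)) rfl).symm
      exact_mod_cast h2
    have h3 : d (x • η) = d η := by
      have h4 : (d (x • η) : ℂ) = (d η : ℂ) := by
        rw [← hd, ← hd, hxη]
        congr 1
        funext c₀
        rw [irrComp_apply]
        apply congrArg
        apply Subtype.ext
        rw [conjEquiv_coe]
        exact hcent _ (P.inv_mem x.2) _ c₀.2
      exact_mod_cast h4
    rw [h1, h3]
  have hB0 := sum_modEq_fixed p hPp (fun η => c η * d η) hinvf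
  obtain ⟨m', hm', hpm'⟩ := hR'
  have hdθ : d θ = m' := by
    have h1 := hd θ
    rw [hm'] at h1
    exact_mod_cast h1.symm
  have hfixiff : ∀ η : IrrCharacter N, (∀ x : P, x • η = η) ↔
      ∀ x ∈ P, InvAt N (η : N → ℂ) x := fun η => irrAction_fixed_iff N P hPN η
  have hdη : ∀ η : IrrCharacter N, (∀ x : P, x • η = η) → η ≠ θ → p ∣ d η := by
    intro η hfix hne
    by_contra hnd
    have hηinv := (hfixiff η).mp hfix
    exact hne (hpkgN.2.2.1 η θ hηinv hθ φ (d η) m' (hd η) hnd hm' hpm')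
  have hθfix : ∀ x : P, x • θ = θ := (hfixiff θ).mpr hθ
  have hB : ((∑ η, c η * d η : ℕ) : ZMod p) = (c θ : ZMod p) * (d θ : ZMod p) := by
    rw [(ZMod.natCast_eq_natCast_iff _ _ _).mpr hB0, Nat.cast_sum, Finset.sum_eq_single θ]
    · rw [if_pos hθfix, Nat.cast_mul]
    · intro η _ hη
      by_cases hfix : ∀ x : P, x • η = η
      · rw [if_pos hfix, Nat.cast_mul, (ZMod.natCast_eq_zero_iff _ _).mpr (hdη η hfix hη),
          mul_zero]
      · rw [if_neg hfix, Nat.cast_zero]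
    · intro h
      exact absurd (Finset.mem_univ θ) h
  have key : (a β : ZMod p) * (b β : ZMod p) = (c θ : ZMod p) * (d θ : ZMod p) := by
    rw [← hA, ← hB, hsum]
  have hpa : (a β : ZMod p) ≠ 0 := by
    rw [haβ, Ne, ZMod.natCast_eq_zero_iff]
    exact hpm
  have hpd : (d θ : ZMod p) ≠ 0 := by
    rw [hdθ, Ne, ZMod.natCast_eq_zero_iff]
    exact hpm'
  have hpCG : ¬ p ∣ Nat.card CG := fun h => hpG (h.trans (Subgroup.card_dvd_of_le hCG))
  rw [hc θ, hb β]
  constructor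
  · intro h0
    have hc0 : c θ ≠ 0 := by exact_mod_cast h0
    have h1 := not_dvd_ram p G N hNG hGN hpG χ θ (c θ) (hc θ) hc0
    have h2 : (c θ : ZMod p) ≠ 0 := by
      rw [Ne, ZMod.natCast_eq_zero_iff]
      exact h1
    have h3 : (b β : ZMod p) ≠ 0 := by
      intro hb0
      rw [hb0, mul_zero] at key
      exact mul_ne_zero h2 hpd key.symm
    intro hb0
    apply h3
    have : b β = 0 := by exact_mod_cast hb0
    rw [this, Nat.cast_zero]
  · intro h0
    have hb0 : b β ≠ 0 := by exact_mod_cast h0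
    have h1 := not_dvd_ram p CG CN hCNG hCGN hpCG β φ (b β) (hb β) hb0
    have h2 : (b β : ZMod p) ≠ 0 := by
      rw [Ne, ZMod.natCast_eq_zero_iff]
      exact h1
    have h3 : (c θ : ZMod p) ≠ 0 := by
      intro hc0
      rw [hc0, zero_mul] at key
      exact mul_ne_zero hpa h2 key
    intro hc0
    apply h3
    have : c θ = 0 := by exact_mod_cast hc0
    rw [this, Nat.cast_zero]

end Sub

end Cfsg.Agent.Helper79.Glaub
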