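import Cfsg.Agent.Lib.Helper79.Glaub.PairCorr
import Cfsg.Agent.Lib.Helper81.CharRam

set_option autoImplicit false
set_option linter.unusedSectionVars false
set_option linter.style.haveILetI false

namespace Cfsg.Agent.Helper79.Glaub

open Cfsg Cfsg.Agent.Helper81
open scoped ComplexConjugate

universe u

section Over

variable {G : Type u} [Group G] [Fintype G]

/-- every irreducible character of a subgroup lies under an irreducible character -/
theorem exists_irr_over' (H : Subgroup G) [Fintype H] {θ : H → ℂ} (hθ : IsIrrCharacter H θ) :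
    ∃ χ : G → ℂ, IsIrrCharacter G χ ∧ classInner (fun h : H => χ h) θ ≠ 0 := by
  have hind := isCharacter_indFun H (IsIrrCharacter.isCharacter hθ)
  have h0 : indFun H θ ≠ 0 := by
    intro h
    have h1 := congrFun h 1
    rw [indFun_one] at h1
    simp only [Pi.zero_apply] at h1
    rcases mul_eq_zero.1 h1 with h2 | h2
    · have : H.index ≠ 0 := Subgroup.index_ne_zero_of_finite
      exact this (by exact_mod_cast h2)
    · have h3 := Cfsg.Agent.Helper79.irr_one_eq ⟨θ, hθ⟩
      have h4 : θ 1 = (charDegree θ : ℂ) := h3.1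
      rw [h4] at h2
      have : charDegree θ = 0 := by exact_mod_cast h2
      exact h3.2.ne' this
  obtain ⟨χ, hχ, hne⟩ := exists_irr_constituent hind h0
  refine ⟨χ, hχ, ?_⟩
  rw [frobenius_reciprocity H θ
    (isClassFunction_of_isCharacter (IsIrrCharacter.isCharacter hχ))] at hne
  intro h
  apply hne
  rw [classInner_conj_symm, h, map_zero]

end Over

section Above

variable {Γ : Type u} [Group Γ] [Fintype Γ]

/-- every irreducible character of a subgroup lies under an irreducible character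
(for subgroups of an ambient group) -/
theorem exists_irr_over_sub (G H : Subgroup Γ) [Fintype G] [Fintype H] (hHG : H ≤ G)
    (φ : IrrCharacter H) :
    ∃ ψ : IrrCharacter G,
      classInner (fun h : H => (ψ : G → ℂ) (Subgroup.inclusion hHG h)) (φ : H → ℂ) ≠ 0 := by
  classical
  set H' : Subgroup G := H.subgroupOf G with hH'
  haveI : Fintype H' := Fintype.ofFinite _
  let e' : H' ≃* H := Subgroup.subgroupOfEquivOfLe hHG
  obtain ⟨χ, hχ, hne⟩ := exists_irr_over' H' (irrComp e' φ).2
  refine ⟨⟨χ, hχ⟩, ?_⟩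
  intro h0
  apply hne
  rw [← h0, ← classInner_comp_equiv e']
  rfl

/-- Isaacs, Theorem 13.31 for solvable `S`: an `S`-invariant irreducible character of an
`S`-invariant normal subgroup lies under an `S`-invariant irreducible character. -/
theorem exists_invariant_above (G S N : Subgroup Γ) [Fintype G] [Fintype N]
    (hSG : ∀ s ∈ S, NormAt G s) (hSN : ∀ s ∈ S, NormAt N s) (hNG : N ≤ G)
    (hGN : ∀ g ∈ G, ∀ m ∈ N, g * m * g⁻¹ ∈ N) (hcop : (Nat.card G).Coprime (Nat.card S))
    (hsolv : Group.IsSolvable S) (θ : IrrCharacter N)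
    (hθ : ∀ s ∈ S, InvAt N (θ : N → ℂ) s) :
    ∃ χ : IrrCharacter G,
      classInner (fun n : N => (χ : G → ℂ) (Subgroup.inclusion hNG n)) (θ : N → ℂ) ≠ 0 ∧
      ∀ s ∈ S, InvAt G (χ : G → ℂ) s := by
  classical
  set CG : Subgroup Γ := G ⊓ Subgroup.centralizer (S : Set Γ) with hCG
  set CN : Subgroup Γ := N ⊓ Subgroup.centralizer (S : Set Γ) with hCN
  haveI : Fintype CG := Fintype.ofFinite _
  haveI : Fintype CN := Fintype.ofFinite _
  have hCNG : CN ≤ CG := inf_le_inf_right _ hNG
  obtain ⟨RG, RN, hRG, hRN, _, _, hcompat⟩ := exists_corr_pair (Nat.card S) G N S rfl hSG hSN hNG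
    hGN hcop hsolv CG CN hCG hCN hCNG
  obtain ⟨φ, hφ, _⟩ := hRN.1 θ hθ
  obtain ⟨ψ, hψ⟩ := exists_irr_over_sub CG CN hCNG φ
  obtain ⟨χ, hχ, hR⟩ := hRG.2.2 ψ
  exact ⟨χ, (hcompat χ θ ψ φ hχ hθ hR hφ).mpr hψ, hχ⟩

end Above

end Cfsg.Agent.Helper79.Glaub
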