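import Cfsg.Agent.Lib.Helper79.Glaub.CycP

set_option autoImplicit false
set_option linter.unusedSectionVars false
set_option linter.style.haveILetI false

namespace Cfsg.Agent.Helper79.Glaub

open Cfsg Cfsg.Agent.Helper81
open scoped ComplexConjugate Pointwise

universe u

section Inv

variable {Γ : Type u} [Group Γ]

/-- `x` normalizes `G` (both directions) -/
def NormAt (G : Subgroup Γ) (x : Γ) : Prop :=
  (∀ g ∈ G, x * g * x⁻¹ ∈ G) ∧ (∀ g ∈ G, x⁻¹ * g * x ∈ G)

/-- `χ` is invariant under conjugation by `x` -/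
def InvAt (G : Subgroup Γ) (χ : G → ℂ) (x : Γ) : Prop :=
  ∀ g g' : G, (g' : Γ) = x * g * x⁻¹ → χ g' = χ g

theorem normAt_iff_mem_normalizer (G : Subgroup Γ) (x : Γ) :
    NormAt G x ↔ x ∈ Subgroup.normalizer (G : Set Γ) := by
  rw [Subgroup.mem_normalizer_iff]
  constructor
  · intro h g
    constructor
    · exact h.1 g
    · intro hg
      have := h.2 _ hg
      have h2 : x⁻¹ * (x * g * x⁻¹) * x = g := by group
      rwa [h2] at this
  · intro h
    constructor
    · intro g hg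
      exact (h g).mp hg
    · intro g hg
      apply (h _).mpr
      have h2 : x * (x⁻¹ * g * x) * x⁻¹ = g := by group
      rwa [h2]

theorem NormAt.inv {G : Subgroup Γ} {x : Γ} (h : NormAt G x) : NormAt G x⁻¹ := by
  rw [normAt_iff_mem_normalizer] at h ⊢
  exact (Subgroup.normalizer (G : Set Γ)).inv_mem h

theorem NormAt.mul {G : Subgroup Γ} {x y : Γ} (hx : NormAt G x) (hy : NormAt G y) :
    NormAt G (x * y) := by
  rw [normAt_iff_mem_normalizer] at hx hy ⊢
  exact (Subgroup.normalizer (G : Set Γ)).mul_mem hx hy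

theorem normAt_of_mem (G : Subgroup Γ) {x : Γ} (hx : x ∈ G) : NormAt G x := by
  rw [normAt_iff_mem_normalizer]
  exact Subgroup.le_normalizer hx

theorem InvAt.inv {G : Subgroup Γ} {χ : G → ℂ} {x : Γ} (h : InvAt G χ x) :
    InvAt G χ x⁻¹ := by
  intro g g' hg'
  have h1 : (g : Γ) = x * g' * x⁻¹ := by rw [hg']; group
  exact (h g' g h1).symm

theorem InvAt.mul {G : Subgroup Γ} {χ : G → ℂ} {x y : Γ} (hny : NormAt G y)
    (hx : InvAt G χ x) (hy : InvAt G χ y) : InvAt G χ (x * y) := by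
  intro g g' hg'
  have h1 : y * g * y⁻¹ ∈ G := hny.1 g g.2
  have h2 : (g' : Γ) = x * ((⟨y * g * y⁻¹, h1⟩ : G) : Γ) * x⁻¹ := by rw [hg']; group
  rw [hx ⟨y * g * y⁻¹, h1⟩ g' h2]
  exact hy g ⟨y * g * y⁻¹, h1⟩ rfl

theorem invAt_one (G : Subgroup Γ) (χ : G → ℂ) : InvAt G χ 1 := by
  intro g g' hg'
  have : g' = g := Subtype.ext (by rw [hg']; group)
  rw [this]

/-- normalizing and fixing `χ` pass to the generated subgroup -/
theorem normInv_closure (G : Subgroup Γ) (χ : G → ℂ) (X : Set Γ)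
    (hX : ∀ x ∈ X, NormAt G x ∧ InvAt G χ x) :
    ∀ γ ∈ Subgroup.closure X, NormAt G γ ∧ InvAt G χ γ := by
  intro γ hγ
  induction hγ using Subgroup.closure_induction with
  | mem x hx => exact hX x hx
  | one => exact ⟨normAt_of_mem G G.one_mem, invAt_one G χ⟩
  | mul x y _ _ hx hy => exact ⟨hx.1.mul hy.1, InvAt.mul hy.1 hx.2 hy.2⟩
  | inv x _ hx => exact ⟨hx.1.inv, InvAt.inv hx.2⟩

/-- a class function is invariant under inner automorphisms -/
theorem invAt_of_mem [Finite Γ] (G : Subgroup Γ) {χ : G → ℂ} (hχ : IsCharacter G χ) {x : Γ}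
    (hx : x ∈ G) : InvAt G χ x := by
  intro g g' hg'
  have h1 : g' = (⟨x, hx⟩ : G) * g * (⟨x, hx⟩ : G)⁻¹ := Subtype.ext (by rw [hg']; rfl)
  rw [h1]
  exact isClassFunction_of_isCharacter hχ _ _

end Inv

section CPA

variable {Γ : Type u} [Group Γ] [Fintype Γ]

/-- The Glauberman package for a cyclic `p`-group `⟨s⟩` normalizing `G`, inside an ambient
group. -/
theorem pkg_cyclic_ambient (G : Subgroup Γ) [Fintype G] (s : Γ) (hnorm : NormAt G s)
    (p j : ℕ) (hp : p.Prime) (hs : orderOf s = p ^ j) (hcop : (Nat.card G).Coprime (p ^ j))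
    (C : Subgroup Γ) [Fintype C] (hC : C = G ⊓ Subgroup.centralizer {s}) (hCG : C ≤ G) :
    Pkg p (Subgroup.inclusion hCG) (fun χ : IrrCharacter G => InvAt G (χ : G → ℂ) s) := by
  classical
  set Γ₁ : Subgroup Γ := G ⊔ Subgroup.zpowers s with hΓ₁
  haveI : Fintype Γ₁ := Fintype.ofFinite _
  have hGΓ₁ : G ≤ Γ₁ := le_sup_left
  have hSΓ₁ : Subgroup.zpowers s ≤ Γ₁ := le_sup_right
  have hsΓ₁ : s ∈ Γ₁ := hSΓ₁ (Subgroup.mem_zpowers s)
  have hsnorm : s ∈ Subgroup.normalizer (G : Set Γ) := (normAt_iff_mem_normalizer G s).mp hnorm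
  have hΓ₁norm : Γ₁ ≤ Subgroup.normalizer (G : Set Γ) :=
    sup_le Subgroup.le_normalizer (Subgroup.zpowers_le.mpr hsnorm)
  set G₁ : Subgroup Γ₁ := G.subgroupOf Γ₁ with hG₁
  haveI : Fintype G₁ := Fintype.ofFinite _
  have hG₁n : G₁.Normal := (Subgroup.normal_subgroupOf_iff_le_normalizer hGΓ₁).mpr hΓ₁norm
  haveI := hG₁n
  let s₁ : Γ₁ := ⟨s, hsΓ₁⟩
  let eG : G₁ ≃* G := Subgroup.subgroupOfEquivOfLe hGΓ₁
  have hcardG₁ : Nat.card G₁ = Nat.card G := Nat.card_congr eG.toEquiv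
  have hords₁ : orderOf s₁ = p ^ j := by
    rw [← hs, ← Subgroup.orderOf_coe s₁]
  -- the quotient
  let π₀ : Γ₁ →* Γ₁ ⧸ G₁ := QuotientGroup.mk' G₁
  have hgen₀ : ∀ b : Γ₁ ⧸ G₁, b ∈ Subgroup.zpowers (π₀ s₁) := by
    intro b
    obtain ⟨x, rfl⟩ := QuotientGroup.mk'_surjective G₁ b
    have hx : (x : Γ) ∈ G ⊔ Subgroup.zpowers s := x.2
    haveI hGn' : (G.subgroupOf (Subgroup.normalizer (G : Set Γ))).Normal :=
      Subgroup.normal_in_normalizer
    -- write `x = g * s ^ i`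
    have hdecomp : ∃ g ∈ G, ∃ i : ℤ, (x : Γ) = g * s ^ i := by
      have hmem : ∀ y ∈ G ⊔ Subgroup.zpowers s, ∃ g ∈ G, ∃ i : ℤ, y = g * s ^ i := by
        intro y hy
        rw [Subgroup.sup_eq_closure] at hy
        induction hy using Subgroup.closure_induction with
        | mem y hy =>
          rcases hy with hy | hy
          · exact ⟨y, hy, 0, by simp⟩
          · obtain ⟨i, hi⟩ := Subgroup.mem_zpowers_iff.mp hy
            exact ⟨1, G.one_mem, i, by rw [one_mul, hi]⟩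
        | one => exact ⟨1, G.one_mem, 0, by simp⟩
        | mul y z _ _ hy hz =>
          obtain ⟨g, hg, i, rfl⟩ := hy
          obtain ⟨g', hg', i', rfl⟩ := hz
          have hsi : NormAt G (s ^ i) := by
            rw [normAt_iff_mem_normalizer]
            exact (Subgroup.normalizer (G : Set Γ)).zpow_mem hsnorm i
          refine ⟨g * (s ^ i * g' * (s ^ i)⁻¹), G.mul_mem hg (hsi.1 g' hg'), i + i', ?_⟩
          rw [zpow_add]
          group
        | inv y _ hy =>
          obtain ⟨g, hg, i, rfl⟩ := hy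
          have hsi : NormAt G (s ^ i) := by
            rw [normAt_iff_mem_normalizer]
            exact (Subgroup.normalizer (G : Set Γ)).zpow_mem hsnorm i
          refine ⟨(s ^ i)⁻¹ * g⁻¹ * s ^ i, hsi.2 _ (G.inv_mem hg), -i, ?_⟩
          rw [zpow_neg]
          group
      exact hmem _ hx
    obtain ⟨g, hg, i, hxi⟩ := hdecomp
    rw [Subgroup.mem_zpowers_iff]
    refine ⟨i, ?_⟩
    rw [← map_zpow]
    have hg₁ : (⟨g, hGΓ₁ hg⟩ : Γ₁) ∈ G₁ := by
      rw [hG₁, Subgroup.mem_subgroupOf]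
      exact hg
    have hx' : x = (⟨g, hGΓ₁ hg⟩ : Γ₁) * s₁ ^ i := by
      apply Subtype.ext
      rw [hxi]
      simp [s₁]
    rw [hx', map_mul]
    have : π₀ (⟨g, hGΓ₁ hg⟩ : Γ₁) = 1 := (QuotientGroup.eq_one_iff _).mpr hg₁
    rw [this, one_mul]
  haveI hcycQ : IsCyclic (Γ₁ ⧸ G₁) := ⟨⟨π₀ s₁, hgen₀⟩⟩
  letI : CommGroup (Γ₁ ⧸ G₁) := IsCyclic.commGroup
  have hπ : Function.Surjective π₀ := QuotientGroup.mk'_surjective G₁
  have hker : ∀ x : Γ₁, π₀ x = 1 ↔ x ∈ G₁ := fun x => QuotientGroup.eq_one_iff x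
  -- the order of the quotient
  have hcop₁ : (Nat.card G₁).Coprime (orderOf s₁) := by
    rw [hcardG₁, hords₁]; exact hcop
  have hdisj : Disjoint G₁ (Subgroup.zpowers s₁) := by
    apply Subgroup.disjoint_of_coprime_natCard
    rw [Nat.card_zpowers]
    exact hcop₁
  have hmul : (G₁ : Set Γ₁) * (Subgroup.zpowers s₁ : Set Γ₁) = Set.univ := by
    rw [Set.eq_univ_iff_forall]
    intro x
    have h1 := hgen₀ (π₀ x)
    obtain ⟨i, hi⟩ := Subgroup.mem_zpowers_iff.mp h1
    rw [← map_zpow] at hi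
    refine ⟨x * (s₁ ^ i)⁻¹, ?_, s₁ ^ i, Subgroup.zpow_mem_zpowers s₁ i, by group⟩
    rw [SetLike.mem_coe, ← hker, map_mul, map_inv, hi, mul_inv_cancel]
  have hcompl : Subgroup.IsComplement' G₁ (Subgroup.zpowers s₁) :=
    Subgroup.isComplement'_of_disjoint_and_mul_eq_univ hdisj hmul
  have hidx : G₁.index = Nat.card (Subgroup.zpowers s₁) := hcompl.symm.index_eq_card
  have hcardA : Nat.card (Γ₁ ⧸ G₁) = p ^ j := by
    rw [← Subgroup.index_eq_card, hidx, Nat.card_zpowers, hords₁]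
  have hs₀ : orderOf s₁ = Nat.card (Γ₁ ⧸ G₁) := by rw [hcardA, hords₁]
  have hcop' : (Nat.card G₁).Coprime (Nat.card (Γ₁ ⧸ G₁)) := by
    rw [hcardA, hcardG₁]; exact hcop
  haveI : Fintype (fixC G₁ s₁) := Fintype.ofFinite _
  have hpkg := pkg_intrinsic π₀ G₁ hπ hker s₁ hs₀ hcop' hgen₀ p j hp hcardA
  -- transport
  have hfix : ∀ x : Γ₁, x ∈ fixC G₁ s₁ ↔ (x : Γ) ∈ C := by
    intro x
    rw [hC, fixC, Subgroup.mem_inf, Subgroup.mem_inf, Subgroup.mem_centralizer_singleton_iff,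
      Subgroup.mem_centralizer_singleton_iff, hG₁, Subgroup.mem_subgroupOf]
    constructor
    · rintro ⟨h1, h2⟩
      refine ⟨h1, ?_⟩
      have := congrArg Subtype.val h2
      simpa [s₁] using this
    · rintro ⟨h1, h2⟩
      refine ⟨h1, ?_⟩
      apply Subtype.ext
      simpa [s₁] using h2
  let eC : fixC G₁ s₁ ≃* C :=
    { toFun := fun c => ⟨((c : Γ₁) : Γ), (hfix c).mp c.2⟩
      invFun := fun c => ⟨⟨(c : Γ), hGΓ₁ (hCG c.2)⟩, (hfix _).mpr c.2⟩
      left_inv := fun c => rfl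
      right_inv := fun c => rfl
      map_mul' := fun c c' => rfl }
  refine Pkg.transport p eG eC (Subgroup.inclusion hCG) (Subgroup.inclusion (fixC_le' G₁ s₁))
    (fun c' => rfl) _ _ ?_ hpkg
  intro χ
  constructor
  · intro hinv γ g g' hg'
    show (χ : G → ℂ) (eG g') = (χ : G → ℂ) (eG g)
    -- `γ` lies in the subgroup generated by `G` and `s`
    have hγ : (γ : Γ) ∈ Subgroup.closure ((G : Set Γ) ∪ {s}) := by
      have : (γ : Γ) ∈ G ⊔ Subgroup.zpowers s := γ.2
      rw [Subgroup.sup_eq_closure] at this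
      refine (Subgroup.closure_le _).mpr ?_ this
      intro y hy
      rcases hy with hy | hy
      · exact Subgroup.subset_closure (Or.inl hy)
      · obtain ⟨i, rfl⟩ := Subgroup.mem_zpowers_iff.mp hy
        exact (Subgroup.closure ((G : Set Γ) ∪ {s})).zpow_mem
          (Subgroup.subset_closure (Or.inr rfl)) i
    have hall := normInv_closure G (χ : G → ℂ) ((G : Set Γ) ∪ {s}) (by
      intro x hx
      rcases hx with hx | hx
      · exact ⟨normAt_of_mem G hx, invAt_of_mem G (IsIrrCharacter.isCharacter χ.2) hx⟩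
      · rw [Set.mem_singleton_iff] at hx
        rw [hx]
        exact ⟨hnorm, hinv⟩) (γ : Γ) hγ
    apply hall.2
    have := congrArg (fun y : Γ₁ => (y : Γ)) hg'
    have h3 : ((eG g' : G) : Γ) = ((g' : Γ₁) : Γ) := rfl
    have h4 : ((eG g : G) : Γ) = ((g : Γ₁) : Γ) := rfl
    rw [h3, h4]
    simpa using this
  · intro hinv g g' hg'
    have h1 := hinv s₁ (eG.symm g) (eG.symm g') (by
      apply Subtype.ext
      simp only [Subgroup.coe_mul, Subgroup.coe_inv, s₁]
      exact hg')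
    simp only [irrComp_apply, MulEquiv.apply_symm_apply] at h1
    exact h1

end CPA

end Cfsg.Agent.Helper79.Glaub
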