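import Cfsg.Agent.Lib.Helper79.Glaub.Ambient
import Cfsg.Agent.Lib.Helper47.PRes

set_option autoImplicit false
set_option linter.unusedSectionVars false
set_option linter.style.haveILetI false

namespace Cfsg.Agent.Helper79.Glaub

open Cfsg

universe u

/-- a nontrivial finite solvable group has a proper `p`-residual for some prime `p` -/
theorem exists_pResidual_ne_top (S : Type u) [Group S] [Finite S] [Group.IsSolvable S] [Nontrivial S] :
    ∃ p : ℕ, p.Prime ∧ pResidual p S ≠ ⊤ := by
  classical
  have hlt : commutator S < ⊤ := Group.IsSolvable.commutator_lt_top_of_nontrivial S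
  have hcard : 1 < Nat.card (Abelianization S) := by
    have h1 : (commutator S).index ≠ 1 := fun h => hlt.ne (Subgroup.index_eq_one.mp h)
    have h2 : Nat.card (Abelianization S) = (commutator S).index :=
      (Subgroup.index_eq_card (commutator S)).symm
    have h3 : 0 < Nat.card (Abelianization S) := Nat.card_pos
    omega
  obtain ⟨p, hp, hpdvd⟩ := Nat.exists_prime_and_dvd (by omega : Nat.card (Abelianization S) ≠ 1)
  haveI : Fact p.Prime := ⟨hp⟩
  obtain ⟨a, ha⟩ := exists_prime_orderOf_dvd_card' p hpdvd
  obtain ⟨e, m, hm, hem⟩ := Nat.exists_eq_pow_mul_and_not_dvd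
    (Nat.card_pos (α := Abelianization S)).ne' p hp.ne_one
  let f : S →* Abelianization S := (powMonoidHom m).comp Abelianization.of
  have hf : ∀ g : S, f g = (Abelianization.of g) ^ m := fun g => rfl
  refine ⟨p, hp, ?_⟩
  have hle : pResidual p S ≤ f.ker := by
    apply Cfsg.Agent.Helper47.pResidual_le_of_forall_pow_mem
    intro g
    refine ⟨e, ?_⟩
    rw [MonoidHom.mem_ker, hf, map_pow, ← pow_mul, ← hem, pow_card_eq_one']
  intro htop
  rw [htop, top_le_iff] at hle
  obtain ⟨g, hg⟩ := QuotientGroup.mk_surjective a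
  have hgker : g ∈ f.ker := by rw [hle]; exact Subgroup.mem_top g
  rw [MonoidHom.mem_ker, hf] at hgker
  have hg' : Abelianization.of g = a := hg
  rw [hg'] at hgker
  have := orderOf_dvd_of_pow_eq_one hgker
  rw [ha] at this
  exact hm this

section Ambient

variable {Γ : Type u} [Group Γ] [Finite Γ]

/-- Decomposition of a nontrivial solvable subgroup `S = T P` with `T = O^p(S)` proper and
characteristic, and `P` a `p`-subgroup. -/
theorem exists_residual_decomp (S : Subgroup Γ) (hsolv : Group.IsSolvable S) (hne : S ≠ ⊥) :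
    ∃ (p : ℕ) (T P : Subgroup Γ), p.Prime ∧ T ≤ S ∧ P ≤ S ∧ Nat.card T < Nat.card S ∧
      IsPGroup p P ∧ S = T ⊔ P ∧
      (∀ x : Γ, NormAt S x → NormAt T x) := by
  classical
  haveI : Nontrivial S := by
    rw [Subgroup.nontrivial_iff_ne_bot]
    exact hne
  obtain ⟨p, hp, hres⟩ := exists_pResidual_ne_top S
  haveI : Fact p.Prime := ⟨hp⟩
  obtain ⟨P₀⟩ : Nonempty (Sylow p S) := inferInstance
  have hsup := Cfsg.Agent.Helper47.sylow_sup_pResidual_eq_top P₀
  set T : Subgroup Γ := (pResidual p S).map S.subtype with hT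
  set P : Subgroup Γ := (P₀ : Subgroup S).map S.subtype with hP
  have hTS : T ≤ S := Subgroup.map_subtype_le _
  have hPS : P ≤ S := Subgroup.map_subtype_le _
  refine ⟨p, T, P, hp, hTS, hPS, ?_, ?_, ?_, ?_⟩
  · -- proper
    rw [hT, Subgroup.card_map_of_injective S.subtype_injective]
    have h1 : Nat.card (pResidual p S) ≤ Nat.card S := Subgroup.card_le_card_group _
    rcases h1.lt_or_eq with h | h
    · exact h
    · exact absurd (Subgroup.card_eq_iff_eq_top _ |>.mp h) hres
  · -- `P` is a `p`-group
    exact P₀.isPGroup'.map S.subtype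
  · -- generation
    have h1 : (pResidual p S ⊔ (P₀ : Subgroup S)).map S.subtype = (⊤ : Subgroup S).map S.subtype := by
      rw [sup_comm, hsup]
    rw [Subgroup.map_sup, ← hT, ← hP] at h1
    rw [h1, ← MonoidHom.range_eq_map, Subgroup.range_subtype]
  · -- characteristic
    have key : ∀ x : Γ, NormAt S x → ∀ t ∈ T, x * t * x⁻¹ ∈ T := by
      intro x hx t ht
      rw [hT, Cfsg.Agent.Helper47.map_pResidual_eq_closure] at ht ⊢
      induction ht using Subgroup.closure_induction with
      | mem c hc =>
        apply Subgroup.subset_closure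
        refine ⟨hx.1 c hc.1, ?_⟩
        have : x * c * x⁻¹ = MulAut.conj x c := by simp
        rw [this, MulEquiv.orderOf_eq]
        exact hc.2
      | one => simp
      | mul a b _ _ iha ihb =>
        have : x * (a * b) * x⁻¹ = (x * a * x⁻¹) * (x * b * x⁻¹) := by group
        rw [this]; exact mul_mem iha ihb
      | inv a _ iha =>
        have : x * a⁻¹ * x⁻¹ = (x * a * x⁻¹)⁻¹ := by group
        rw [this]; exact inv_mem iha
    intro x hx
    refine ⟨key x hx, fun t ht => ?_⟩
    have := key x⁻¹ hx.inv t ht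
    rwa [inv_inv] at this

end Ambient

end Cfsg.Agent.Helper79.Glaub
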