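import Cfsg.Agent.Lib.Helper79.Glaub.ClassFix
import Cfsg.Agent.Lib.Helper79.Glaub.SolvChain
import Cfsg.Agent.Lib.Helper79.Glaub.PGroup

set_option autoImplicit false
set_option linter.unusedSectionVars false
set_option linter.style.haveILetI false

namespace Cfsg.Agent.Helper79.Glaub

open Cfsg

universe u

section ClassEx

variable {Γ : Type u} [Group Γ] [Fintype Γ]

/-- every `S`-invariant class of `G` contains an element centralized by `S` -/
def ClassEx (G S : Subgroup Γ) : Prop :=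
  ∀ k ∈ G, (∀ s ∈ S, ∃ h ∈ G, s * k * s⁻¹ = h * k * h⁻¹) →
    ∃ γ ∈ G, γ * k * γ⁻¹ ∈ Subgroup.centralizer (S : Set Γ)

theorem classEx_zpowers (G : Subgroup Γ) (y : Γ) (hy : NormAt G y)
    (hcop : (Nat.card G).Coprime (orderOf y)) : ClassEx G (Subgroup.zpowers y) := by
  intro k hk hinv
  obtain ⟨h, hh, hconj⟩ := hinv y (Subgroup.mem_zpowers y)
  obtain ⟨γ, hγ, hfix⟩ := exists_conj_fixed_cyclic G y hy hcop hk hh hconj
  refine ⟨γ, hγ, ?_⟩
  rw [Subgroup.mem_centralizer_iff]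
  intro t ht
  obtain ⟨i, rfl⟩ := Subgroup.mem_zpowers_iff.mp ht
  have hcomm : Commute y (γ * k * γ⁻¹) := by
    have : y * (γ * k * γ⁻¹) = (γ * k * γ⁻¹) * y := by
      calc y * (γ * k * γ⁻¹) = y * (γ * k * γ⁻¹) * y⁻¹ * y := by group
        _ = (γ * k * γ⁻¹) * y := by rw [hfix]
    exact this
  exact (hcomm.zpow_left i).eq

/-- composition of two steps -/
theorem classEx_comp (G T Y S : Subgroup Γ) (hT : ∀ t ∈ T, NormAt G t) (hY : ∀ y ∈ Y, NormAt G y)
    (hYT : ∀ y ∈ Y, NormAt T y) (hTS : T ≤ S) (hYS : Y ≤ S) (hS : S ≤ T ⊔ Y)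
    (hcopT : (Nat.card G).Coprime (Nat.card T)) (hsolvT : Group.IsSolvable T)
    (h1 : ClassEx G T) (h2 : ClassEx (G ⊓ Subgroup.centralizer (T : Set Γ)) Y) :
    ClassEx G S := by
  intro k hk hinv
  set B : Subgroup Γ := G ⊓ Subgroup.centralizer (T : Set Γ) with hB
  obtain ⟨γ₁, hγ₁, hk₁T⟩ := h1 k hk (fun t ht => hinv t (hTS ht))
  set k₁ := γ₁ * k * γ₁⁻¹ with hk₁
  have hk₁G : k₁ ∈ G := G.mul_mem (G.mul_mem hγ₁ hk) (G.inv_mem hγ₁)
  have hk₁B : k₁ ∈ B := Subgroup.mem_inf.mpr ⟨hk₁G, hk₁T⟩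
  have hYB : ∀ y ∈ Y, NormAt B y := fun y hy =>
    normAt_inf_centralizer G T y (hY y hy) (hYT y hy)
  have hinvB : ∀ y ∈ Y, ∃ b ∈ B, y * k₁ * y⁻¹ = b * k₁ * b⁻¹ := by
    intro y hy
    obtain ⟨h, hh, hconj⟩ := hinv y (hYS hy)
    have hyk₁B : y * k₁ * y⁻¹ ∈ B := (hYB y hy).1 k₁ hk₁B
    set g' := (y * γ₁ * y⁻¹) * h * γ₁⁻¹ with hg'
    have hg'G : g' ∈ G :=
      G.mul_mem (G.mul_mem ((hY y hy).1 γ₁ hγ₁) hh) (G.inv_mem hγ₁)
    have hconj' : g' * k₁ * g'⁻¹ = y * k₁ * y⁻¹ := by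
      rw [hg', hk₁]
      calc (y * γ₁ * y⁻¹) * h * γ₁⁻¹ * (γ₁ * k * γ₁⁻¹) * ((y * γ₁ * y⁻¹) * h * γ₁⁻¹)⁻¹
          = (y * γ₁ * y⁻¹) * (h * k * h⁻¹) * (y * γ₁ * y⁻¹)⁻¹ := by group
        _ = (y * γ₁ * y⁻¹) * (y * k * y⁻¹) * (y * γ₁ * y⁻¹)⁻¹ := by rw [hconj]
        _ = y * (γ₁ * k * γ₁⁻¹) * y⁻¹ := by group
    obtain ⟨b, hb, hbk⟩ := conj_in_centralizer G T hT hcopT hsolvT hk₁B hyk₁B hg'G hconj'
    exact ⟨b, hb, hbk.symm⟩
  obtain ⟨β, hβ, hβY⟩ := h2 k₁ hk₁B hinvB
  have hβG : β ∈ G := (Subgroup.mem_inf.mp hβ).1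
  refine ⟨β * γ₁, G.mul_mem hβG hγ₁, ?_⟩
  have heq : β * γ₁ * k * (β * γ₁)⁻¹ = β * k₁ * β⁻¹ := by rw [hk₁]; group
  rw [heq]
  have hmemB : β * k₁ * β⁻¹ ∈ B := B.mul_mem (B.mul_mem hβ hk₁B) (B.inv_mem hβ)
  have hcT : β * k₁ * β⁻¹ ∈ Subgroup.centralizer (T : Set Γ) := (Subgroup.mem_inf.mp hmemB).2
  have h3 : β * k₁ * β⁻¹ ∈ Subgroup.centralizer ((T : Set Γ) ∪ (Y : Set Γ)) := by
    rw [Subgroup.mem_centralizer_iff]
    intro x hx
    rcases hx with hx | hx
    · exact (Subgroup.mem_centralizer_iff.mp hcT) x hx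
    · exact (Subgroup.mem_centralizer_iff.mp hβY) x hx
  rw [← Subgroup.centralizer_closure, ← Subgroup.sup_eq_closure] at h3
  exact Subgroup.centralizer_le hS h3

/-- Glauberman's lemma for classes, `p`-groups of operators -/
theorem classEx_pgroup (p : ℕ) (hp : p.Prime) : ∀ (n : ℕ) (G S : Subgroup Γ),
    Nat.card S = n → (∀ s ∈ S, NormAt G s) → (Nat.card G).Coprime (Nat.card S) →
    IsPGroup p S → ClassEx G S := by
  intro n
  induction n using Nat.strong_induction_on with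
  | _ n ih =>
    intro G S hn hnorm hcop hS
    by_cases hbot : S = ⊥
    · subst hbot
      intro k hk _
      refine ⟨1, G.one_mem, ?_⟩
      rw [Subgroup.coe_bot, Subgroup.mem_centralizer_iff]
      intro x hx
      rw [Set.mem_singleton_iff.mp hx]
      simp
    · obtain ⟨T, s, hTS, hTlt, hsS, hTnorm, hgen⟩ := exists_maximal_normal p hp S hS hbot
      have hsT : NormAt T s := by
        refine ⟨fun t ht => hTnorm s hsS t ht, fun t ht => ?_⟩
        have := hTnorm s⁻¹ (S.inv_mem hsS) t ht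
        rwa [inv_inv] at this
      have hcopT : (Nat.card G).Coprime (Nat.card T) :=
        Nat.Coprime.coprime_dvd_right (Subgroup.card_dvd_of_le hTS) hcop
      have hTp : IsPGroup p T := hS.to_le hTS
      haveI : Fact p.Prime := ⟨hp⟩
      haveI : Group.IsNilpotent T := hTp.isNilpotent
      have hTsolv : Group.IsSolvable T := inferInstance
      have h1 := ih (Nat.card T) (by rw [← hn]; exact hTlt) G T rfl
        (fun t ht => hnorm t (hTS ht)) hcopT hTp
      set B : Subgroup Γ := G ⊓ Subgroup.centralizer (T : Set Γ) with hB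
      have hsB : NormAt B s := normAt_inf_centralizer G T s (hnorm s hsS) hsT
      have hcopB : (Nat.card B).Coprime (orderOf s) :=
        Nat.Coprime.coprime_dvd_left (Subgroup.card_dvd_of_le (inf_le_left : B ≤ G))
          (Nat.Coprime.coprime_dvd_right (Subgroup.orderOf_dvd_natCard S hsS) hcop)
      have h2 := classEx_zpowers B s hsB hcopB
      have hYT : ∀ y ∈ Subgroup.zpowers s, NormAt T y := by
        intro y hy
        rw [normAt_iff_mem_normalizer]
        exact (Subgroup.zpowers_le.mpr ((normAt_iff_mem_normalizer T s).mp hsT)) hy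
      have hYG : ∀ y ∈ Subgroup.zpowers s, NormAt G y := by
        intro y hy
        exact hnorm y ((Subgroup.zpowers_le.mpr hsS) hy)
      refine classEx_comp G T (Subgroup.zpowers s) S (fun t ht => hnorm t (hTS ht)) hYG hYT hTS
        (Subgroup.zpowers_le.mpr hsS) ?_ hcopT hTsolv h1 h2
      refine hgen.trans ?_
      rw [Subgroup.closure_le]
      intro x hx
      rcases hx with hx | hx
      · exact (le_sup_left : T ≤ T ⊔ Subgroup.zpowers s) hx
      · rw [Set.mem_singleton_iff.mp hx]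
        exact (le_sup_right : Subgroup.zpowers s ≤ T ⊔ Subgroup.zpowers s)
          (Subgroup.mem_zpowers s)

/-- Glauberman's lemma for classes, solvable groups of operators -/
theorem classEx_solvable : ∀ (n : ℕ) (G S : Subgroup Γ),
    Nat.card S = n → (∀ s ∈ S, NormAt G s) → (Nat.card G).Coprime (Nat.card S) →
    Group.IsSolvable S → ClassEx G S := by
  intro n
  induction n using Nat.strong_induction_on with
  | _ n ih =>
    intro G S hn hnorm hcop hS
    by_cases hbot : S = ⊥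
    · subst hbot
      intro k hk _
      refine ⟨1, G.one_mem, ?_⟩
      rw [Subgroup.coe_bot, Subgroup.mem_centralizer_iff]
      intro x hx
      rw [Set.mem_singleton_iff.mp hx]
      simp
    · obtain ⟨p, T, P, hp, hTS, hPS, hTlt, hPp, hSeq, hTchar⟩ := exists_residual_decomp S hS hbot
      have hSnorm : ∀ y ∈ S, NormAt S y := fun y hy => normAt_of_mem S hy
      have hcopT : (Nat.card G).Coprime (Nat.card T) :=
        Nat.Coprime.coprime_dvd_right (Subgroup.card_dvd_of_le hTS) hcop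
      have hTsolv : Group.IsSolvable T := by
        haveI := hS
        exact Group.isSolvable_of_isSolvable_injective (f := Subgroup.inclusion hTS)
          (Subgroup.inclusion_injective hTS)
      have h1 := ih (Nat.card T) (by rw [← hn]; exact hTlt) G T rfl
        (fun t ht => hnorm t (hTS ht)) hcopT hTsolv
      set B : Subgroup Γ := G ⊓ Subgroup.centralizer (T : Set Γ) with hB
      have hPB : ∀ y ∈ P, NormAt B y := fun y hy =>
        normAt_inf_centralizer G T y (hnorm y (hPS hy)) (hTchar y (hSnorm y (hPS hy)))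
      have hcopB : (Nat.card B).Coprime (Nat.card P) :=
        Nat.Coprime.coprime_dvd_left (Subgroup.card_dvd_of_le (inf_le_left : B ≤ G))
          (Nat.Coprime.coprime_dvd_right (Subgroup.card_dvd_of_le hPS) hcop)
      have h2 := classEx_pgroup p hp (Nat.card P) B P rfl hPB hcopB hPp
      exact classEx_comp G T P S (fun t ht => hnorm t (hTS ht)) (fun y hy => hnorm y (hPS hy))
        (fun y hy => hTchar y (hSnorm y (hPS hy))) hTS hPS hSeq.le hcopT hTsolv h1 h2

end ClassEx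

end Cfsg.Agent.Helper79.Glaub
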