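import Cfsg.Agent.Lib.Helper79.Glaub.Ambient
import Cfsg.Agent.Lib.Helper1.Coprime

set_option autoImplicit false
set_option linter.unusedSectionVars false
set_option linter.style.haveILetI false

namespace Cfsg.Agent.Helper79.Glaub

open Cfsg
open scoped Pointwise

universe u

section Fusion

variable {Γ : Type u} [Group Γ] [Finite Γ]

/-- Control of fusion: elements of `C_G(S)` conjugate in `G` are conjugate in `C_G(S)`
(`S` solvable, acting coprimely). -/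
theorem conj_in_centralizer (G S : Subgroup Γ) (hnorm : ∀ s ∈ S, NormAt G s)
    (hcop : (Nat.card G).Coprime (Nat.card S)) (hsolv : Group.IsSolvable S)
    {c c' g : Γ} (hc : c ∈ G ⊓ Subgroup.centralizer (S : Set Γ))
    (hc' : c' ∈ G ⊓ Subgroup.centralizer (S : Set Γ)) (hg : g ∈ G) (h : g * c * g⁻¹ = c') :
    ∃ b ∈ G ⊓ Subgroup.centralizer (S : Set Γ), b * c * b⁻¹ = c' := by
  rw [Subgroup.mem_inf] at hc hc'
  have hcS : ∀ s ∈ S, s * c = c * s := fun s hs => Subgroup.mem_centralizer_iff.mp hc.2 s hs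
  have hc'S : ∀ s ∈ S, s * c' = c' * s := fun s hs => Subgroup.mem_centralizer_iff.mp hc'.2 s hs
  set N : Subgroup Γ := G ⊓ Subgroup.centralizer {c} with hN
  have hmemN : ∀ x : Γ, x ∈ N ↔ x ∈ G ∧ c * x = x * c := by
    intro x
    rw [hN, Subgroup.mem_inf, Subgroup.mem_centralizer_singleton_iff]
    constructor
    · rintro ⟨h1, h2⟩
      exact ⟨h1, h2.symm⟩
    · rintro ⟨h1, h2⟩
      exact ⟨h1, h2.symm⟩
  have hSN : S ≤ Subgroup.normalizer (N : Set Γ) := by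
    intro s hs
    rw [← normAt_iff_mem_normalizer]
    have key : ∀ t ∈ S, ∀ n ∈ N, t * n * t⁻¹ ∈ N := by
      intro t ht n hn
      rw [hmemN] at hn ⊢
      refine ⟨(hnorm t ht).1 n hn.1, ?_⟩
      have h1 : t * c = c * t := hcS t ht
      have h2 : c * t⁻¹ = t⁻¹ * c := by
        calc c * t⁻¹ = t⁻¹ * (t * c) * t⁻¹ := by group
          _ = t⁻¹ * (c * t) * t⁻¹ := by rw [h1]
          _ = t⁻¹ * c := by group
      calc c * (t * n * t⁻¹) = (c * t) * n * t⁻¹ := by group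
        _ = t * (c * n) * t⁻¹ := by rw [← h1]; group
        _ = t * (n * c) * t⁻¹ := by rw [hn.2]
        _ = t * n * (c * t⁻¹) := by group
        _ = t * n * (t⁻¹ * c) := by rw [h2]
        _ = t * n * t⁻¹ * c := by group
    refine ⟨key s hs, fun n hn => ?_⟩
    have := key s⁻¹ (S.inv_mem hs) n hn
    rwa [inv_inv] at this
  have hcopN : (Nat.card S).Coprime (Nat.card N) :=
    (Nat.Coprime.coprime_dvd_left (Subgroup.card_dvd_of_le (inf_le_left : N ≤ G)) hcop).symm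
  have hfix : ∀ a ∈ S, g⁻¹ * a * g * a⁻¹ ∈ N := by
    intro a ha
    rw [hmemN]
    constructor
    · have h1 : g⁻¹ * a * g * a⁻¹ = g⁻¹ * (a * g * a⁻¹) := by group
      rw [h1]
      exact G.mul_mem (G.inv_mem hg) ((hnorm a ha).1 g hg)
    · have h1 : a * c = c * a := hcS a ha
      have h2 : a * c' = c' * a := hc'S a ha
      have h3 : c' = g * c * g⁻¹ := h.symm
      have h4 : c * a⁻¹ = a⁻¹ * c := by
        calc c * a⁻¹ = a⁻¹ * (a * c) * a⁻¹ := by group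
          _ = a⁻¹ * (c * a) * a⁻¹ := by rw [h1]
          _ = a⁻¹ * c := by group
      have h5 : c' * a⁻¹ = a⁻¹ * c' := by
        calc c' * a⁻¹ = a⁻¹ * (a * c') * a⁻¹ := by group
          _ = a⁻¹ * (c' * a) * a⁻¹ := by rw [h2]
          _ = a⁻¹ * c' := by group
      calc c * (g⁻¹ * a * g * a⁻¹) = g⁻¹ * (g * c * g⁻¹) * a * g * a⁻¹ := by group
        _ = g⁻¹ * (c' * a) * g * a⁻¹ := by rw [← h3]; group
        _ = g⁻¹ * (a * c') * g * a⁻¹ := by rw [h2]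
        _ = g⁻¹ * a * (g * c * g⁻¹) * g * a⁻¹ := by rw [h3]; group
        _ = g⁻¹ * a * g * (c * a⁻¹) := by group
        _ = g⁻¹ * a * g * (a⁻¹ * c) := by rw [h4]
        _ = g⁻¹ * a * g * a⁻¹ * c := by group
  obtain ⟨b, hb, hbN⟩ := Cfsg.Agent.Helper1.exists_mem_centralizer_of_coset_fixed S N hSN hcopN
    (Or.inl hsolv) g hfix
  rw [hmemN] at hbN
  have hbG : b ∈ G := by
    have : b = g * (g⁻¹ * b) := by group
    rw [this]
    exact G.mul_mem hg hbN.1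
  refine ⟨b, Subgroup.mem_inf.mpr ⟨hbG, hb⟩, ?_⟩
  have h1 : c * (g⁻¹ * b) = (g⁻¹ * b) * c := hbN.2
  calc b * c * b⁻¹ = g * ((g⁻¹ * b) * c) * (g⁻¹ * b)⁻¹ * g⁻¹ := by group
    _ = g * (c * (g⁻¹ * b)) * (g⁻¹ * b)⁻¹ * g⁻¹ := by rw [h1]
    _ = g * c * g⁻¹ := by group
    _ = c' := h

end Fusion

section Cyclic

variable {Γ : Type u} [Group Γ] [Fintype Γ]

/-- Glauberman's lemma for a single element: a class of `G` fixed by `y` (of order prime to
`|G|`) contains an element centralized by `y`. -/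
theorem exists_conj_fixed_cyclic (G : Subgroup Γ) (y : Γ) (hy : NormAt G y)
    (hcop : (Nat.card G).Coprime (orderOf y)) {k h : Γ} (hk : k ∈ G) (hh : h ∈ G)
    (hconj : y * k * y⁻¹ = h * k * h⁻¹) :
    ∃ γ ∈ G, y * (γ * k * γ⁻¹) * y⁻¹ = γ * k * γ⁻¹ := by
  classical
  set L : Subgroup Γ := G ⊔ Subgroup.zpowers y with hL
  haveI : Fintype L := Fintype.ofFinite _
  have hGL : G ≤ L := le_sup_left
  have hyL : y ∈ L := (le_sup_right : Subgroup.zpowers y ≤ L) (Subgroup.mem_zpowers y)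
  have hynorm : y ∈ Subgroup.normalizer (G : Set Γ) := (normAt_iff_mem_normalizer G y).mp hy
  have hZn : Subgroup.zpowers y ≤ Subgroup.normalizer (G : Set Γ) :=
    Subgroup.zpowers_le.mpr hynorm
  have hLn : L ≤ Subgroup.normalizer (G : Set Γ) := sup_le Subgroup.le_normalizer hZn
  set G₁ : Subgroup L := G.subgroupOf L with hG₁
  haveI hG₁n : G₁.Normal := (Subgroup.normal_subgroupOf_iff_le_normalizer hGL).mpr hLn
  let s₁ : L := ⟨y, hyL⟩
  have hdisj : Disjoint G (Subgroup.zpowers y) := by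
    apply Subgroup.disjoint_of_coprime_natCard
    rw [Nat.card_zpowers]
    exact hcop
  have hcompl := Cfsg.Agent.Helper1.isComplement'_subgroupOf_sup_of_le_normalizer hZn hdisj hL
  have hcardG₁ : Nat.card G₁ = Nat.card G := Cfsg.Agent.Helper1.card_subgroupOf_of_le hGL
  have hords₁ : orderOf s₁ = orderOf y := by rw [← Subgroup.orderOf_coe s₁]
  have hcop₁ : (Nat.card G₁).Coprime (orderOf s₁) := by rw [hcardG₁, hords₁]; exact hcop
  have hcard : Nat.card L = Nat.card G₁ * orderOf s₁ := by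
    rw [← hcompl.card_mul_card, Cfsg.Agent.Helper1.card_subgroupOf_of_le
      (le_sup_right : Subgroup.zpowers y ≤ L), Nat.card_zpowers, hords₁]
  -- the element `h⁻¹ y` centralizes `k`
  have hx : (h⁻¹ * y) * k * (h⁻¹ * y)⁻¹ = k := by
    calc (h⁻¹ * y) * k * (h⁻¹ * y)⁻¹ = h⁻¹ * (y * k * y⁻¹) * h := by group
      _ = h⁻¹ * (h * k * h⁻¹) * h := by rw [hconj]
      _ = k := by group
  have hg₁ : (⟨h⁻¹, hGL (G.inv_mem hh)⟩ : L) ∈ G₁ := by
    rw [hG₁, Subgroup.mem_subgroupOf]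
    exact G.inv_mem hh
  obtain ⟨γ₁, hγ₁, c₁, hc₁, heq⟩ := exists_conj_mem_fixC_mul G₁ s₁ hcop₁ hcard _ hg₁
  have heq' : (γ₁ : Γ) * ((c₁ : Γ) * y) * (γ₁ : Γ)⁻¹ = h⁻¹ * y := by
    have := congrArg (fun z : L => (z : Γ)) heq
    simpa [s₁] using this
  have hγG : (γ₁ : Γ) ∈ G := Subgroup.mem_subgroupOf.mp hγ₁
  rw [mem_fixC] at hc₁
  have hcG : (c₁ : Γ) ∈ G := Subgroup.mem_subgroupOf.mp hc₁.1
  have hcy : Commute (c₁ : Γ) y := by
    have := congrArg (fun z : L => (z : Γ)) hc₁.2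
    have h2 : (c₁ : Γ) * y = y * (c₁ : Γ) := by simpa [s₁] using this
    exact h2
  -- `c₁ y` centralizes `γ₁⁻¹ k γ₁`
  set k' : Γ := (γ₁ : Γ)⁻¹ * k * (γ₁ : Γ) with hk'
  have hcent : ((c₁ : Γ) * y) * k' * ((c₁ : Γ) * y)⁻¹ = k' := by
    have h1 : (c₁ : Γ) * y = (γ₁ : Γ)⁻¹ * (h⁻¹ * y) * (γ₁ : Γ) := by rw [← heq']; group
    rw [h1, hk']
    calc (γ₁ : Γ)⁻¹ * (h⁻¹ * y) * (γ₁ : Γ) * ((γ₁ : Γ)⁻¹ * k * (γ₁ : Γ)) *
          ((γ₁ : Γ)⁻¹ * (h⁻¹ * y) * (γ₁ : Γ))⁻¹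
        = (γ₁ : Γ)⁻¹ * ((h⁻¹ * y) * k * (h⁻¹ * y)⁻¹) * (γ₁ : Γ) := by group
      _ = (γ₁ : Γ)⁻¹ * k * (γ₁ : Γ) := by rw [hx]
  -- `y` is a power of `c₁ y`
  obtain ⟨a, ha1, ha0⟩ := Nat.chineseRemainder hcop.symm 1 0
  have hya : y ^ a = y := by
    have : y ^ a = y ^ 1 := pow_eq_pow_iff_modEq.mpr ha1
    rwa [pow_one] at this
  have hca : (c₁ : Γ) ^ a = 1 := by
    have h1 : orderOf (c₁ : Γ) ∣ a :=
      (G.orderOf_dvd_natCard hcG).trans (Nat.modEq_zero_iff_dvd.mp ha0)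
    exact orderOf_dvd_iff_pow_eq_one.mp h1
  have hpow : ((c₁ : Γ) * y) ^ a = y := by rw [hcy.mul_pow, hca, hya, one_mul]
  have hcomm : Commute ((c₁ : Γ) * y) k' := by
    have : (c₁ : Γ) * y * k' = k' * ((c₁ : Γ) * y) := by
      calc (c₁ : Γ) * y * k' = ((c₁ : Γ) * y) * k' * ((c₁ : Γ) * y)⁻¹ * ((c₁ : Γ) * y) := by group
        _ = k' * ((c₁ : Γ) * y) := by rw [hcent]
    exact this
  have hyk' : Commute y k' := by
    rw [← hpow]
    exact hcomm.pow_left a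
  refine ⟨(γ₁ : Γ)⁻¹, G.inv_mem hγG, ?_⟩
  rw [inv_inv]
  calc y * k' * y⁻¹ = k' * y * y⁻¹ := by rw [hyk'.eq]
    _ = k' := by group

end Cyclic

end Cfsg.Agent.Helper79.Glaub
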