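import Cfsg.Agent.Lib.Helper79.Glaub.Ambient

set_option autoImplicit false
set_option linter.unusedSectionVars false
set_option linter.style.haveILetI false

namespace Cfsg.Agent.Helper79.Glaub

open Cfsg Cfsg.Agent.Helper81
open scoped ComplexConjugate

universe u

section ConjEquiv

variable {Γ : Type u} [Group Γ]

/-- conjugation by a normalizing element as an automorphism of the subgroup -/
def conjEquiv (H : Subgroup Γ) (x : Γ) (hx : NormAt H x) : H ≃* H where
  toFun h := ⟨x * h * x⁻¹, hx.1 h h.2⟩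
  invFun h := ⟨x⁻¹ * h * x, hx.2 h h.2⟩
  left_inv h := Subtype.ext (by simp only; group)
  right_inv h := Subtype.ext (by simp only; group)
  map_mul' a b := Subtype.ext (by simp only [Subgroup.coe_mul]; group)

theorem conjEquiv_coe (H : Subgroup Γ) (x : Γ) (hx : NormAt H x) (h : H) :
    ((conjEquiv H x hx h : H) : Γ) = x * h * x⁻¹ := rfl

theorem invAt_iff_conjEquiv (H : Subgroup Γ) (x : Γ) (hx : NormAt H x) (θ : H → ℂ) :
    InvAt H θ x ↔ ∀ h : H, θ (conjEquiv H x hx h) = θ h := by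
  constructor
  · intro hinv h
    exact hinv h _ rfl
  · intro hall g g' hg'
    have : g' = conjEquiv H x hx g := Subtype.ext (by rw [hg']; rfl)
    rw [this]
    exact hall g

end ConjEquiv

section Comp

variable {Γ : Type u} [Group Γ] [Fintype Γ]

/-- restriction in stages: multiplicities multiply and add up -/
theorem classInner_res_trans {G B C : Type u} [Group G] [Group B] [Group C] [Fintype B]
    [Fintype C] (resBG : B →* G) (resCB : C →* B) {χ : G → ℂ} (hχ : IsCharacter G χ)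
    (β₁ : IrrCharacter C) :
    ∃ (a b : IrrCharacter B → ℕ),
      (∀ β'' : IrrCharacter B,
        classInner (fun x : B => χ (resBG x)) (β'' : B → ℂ) = (a β'' : ℂ)) ∧
      (∀ β'' : IrrCharacter B,
        classInner (fun c : C => (β'' : B → ℂ) (resCB c)) (β₁ : C → ℂ) = (b β'' : ℂ)) ∧
      classInner (fun c : C => χ (resBG (resCB c))) (β₁ : C → ℂ) =
        ((∑ β'' : IrrCharacter B, a β'' * b β'' : ℕ) : ℂ) := by
  classical
  have hχB : IsCharacter B (fun x : B => χ (resBG x)) := isCharacter_comp_hom resBG hχ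
  have ha : ∀ β'' : IrrCharacter B, ∃ k : ℕ,
      classInner (fun x : B => χ (resBG x)) (β'' : B → ℂ) = (k : ℂ) :=
    fun β'' => exists_nat_classInner hχB β''.2
  choose a ha using ha
  have hb : ∀ β'' : IrrCharacter B, ∃ k : ℕ,
      classInner (fun c : C => (β'' : B → ℂ) (resCB c)) (β₁ : C → ℂ) = (k : ℂ) :=
    fun β'' => exists_nat_classInner
      (isCharacter_comp_hom resCB (IsIrrCharacter.isCharacter β''.2)) β₁.2
  choose b hb using hb
  refine ⟨a, b, ha, hb, ?_⟩
  have hexp := class_function_expansion (isClassFunction_of_isCharacter hχB)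
  simp only [ha] at hexp
  have h1 : (fun c : C => χ (resBG (resCB c))) =
      ∑ β'' : IrrCharacter B, (a β'' : ℂ) • (fun c : C => (β'' : B → ℂ) (resCB c)) := by
    funext c
    have := congrFun hexp (resCB c)
    rw [this]
    simp only [Finset.sum_apply, Pi.smul_apply]
  rw [h1, classInner_sum_left]
  simp only [classInner_smul_left, hb]
  push_cast
  rfl

/-- Composition of two Glauberman packages. -/
theorem pkg_comp (p : ℕ) (hp : p.Prime) (G B C : Subgroup Γ) [Fintype G] [Fintype B] [Fintype C]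
    (hBG : B ≤ G) (hCB : C ≤ B) (X : Set Γ) (s : Γ) (hsG : NormAt G s) (hsB : NormAt B s)
    (hsX : ∀ x ∈ X, s * x * s⁻¹ ∈ X)
    (h1 : Pkg p (Subgroup.inclusion hBG)
      (fun χ : IrrCharacter G => ∀ x ∈ X, InvAt G (χ : G → ℂ) x))
    (h2 : Pkg p (Subgroup.inclusion hCB) (fun β : IrrCharacter B => InvAt B (β : B → ℂ) s)) :
    Pkg p (Subgroup.inclusion (hCB.trans hBG))
      (fun χ : IrrCharacter G => (∀ x ∈ X, InvAt G (χ : G → ℂ) x) ∧ InvAt G (χ : G → ℂ) s) := by
  classical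
  obtain ⟨h1a, h1b, h1c, h1d⟩ := h1
  obtain ⟨h2a, h2b, h2c, h2d⟩ := h2
  let eG : G ≃* G := conjEquiv G s hsG
  let eB : B ≃* B := conjEquiv B s hsB
  have hcompat : ∀ b : B, eG (Subgroup.inclusion hBG b) = Subgroup.inclusion hBG (eB b) :=
    fun b => rfl
  have hres : ∀ (χ : IrrCharacter G) (c : C),
      (χ : G → ℂ) (Subgroup.inclusion (hCB.trans hBG) c) =
        (χ : G → ℂ) (Subgroup.inclusion hBG (Subgroup.inclusion hCB c)) := fun χ c => rfl
  -- the conjugate of a character of `B` has the conjugate multiplicity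
  have hconj : ∀ (χ : IrrCharacter G) (β' : IrrCharacter B),
      classInner (fun b : B => (irrComp eG χ : G → ℂ) (Subgroup.inclusion hBG b))
        (irrComp eB β' : B → ℂ) =
      classInner (fun b : B => (χ : G → ℂ) (Subgroup.inclusion hBG b)) (β' : B → ℂ) := by
    intro χ β'
    rw [← classInner_comp_equiv eB (fun b : B => (χ : G → ℂ) (Subgroup.inclusion hBG b))
      (β' : B → ℂ)]
    rfl
  -- an `s`-invariant character is its own conjugate
  have hfixG : ∀ χ : IrrCharacter G, InvAt G (χ : G → ℂ) s ↔ irrComp eG χ = χ := by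
    intro χ
    rw [invAt_iff_conjEquiv G s hsG]
    constructor
    · intro h
      exact Subtype.ext (funext h)
    · intro h g
      exact congrFun (congrArg Subtype.val h) g
  have hfixB : ∀ β : IrrCharacter B, InvAt B (β : B → ℂ) s ↔ irrComp eB β = β := by
    intro β
    rw [invAt_iff_conjEquiv B s hsB]
    constructor
    · intro h
      exact Subtype.ext (funext h)
    · intro h g
      exact congrFun (congrArg Subtype.val h) g
  -- the conjugate of an `X`-invariant character is `X`-invariant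
  have hXconj : ∀ χ : IrrCharacter G, (∀ x ∈ X, InvAt G (χ : G → ℂ) x) →
      ∀ x ∈ X, InvAt G (irrComp eG χ : G → ℂ) x := by
    intro χ hχ x hx g g' hg'
    show (χ : G → ℂ) (eG g') = (χ : G → ℂ) (eG g)
    apply hχ (s * x * s⁻¹) (hsX x hx)
    rw [conjEquiv_coe, conjEquiv_coe, hg']
    group
  -- step (a): the first correspondent of an invariant character is `s`-invariant
  have stepa : ∀ χ : IrrCharacter G, (∀ x ∈ X, InvAt G (χ : G → ℂ) x) →
      InvAt G (χ : G → ℂ) s → ∀ β' : IrrCharacter B, ∀ m' : ℕ,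
      classInner (fun b : B => (χ : G → ℂ) (Subgroup.inclusion hBG b)) (β' : B → ℂ) = (m' : ℂ) →
      ¬ p ∣ m' → InvAt B (β' : B → ℂ) s := by
    intro χ hχX hχs β' m' hm' hpm'
    rw [hfixB]
    have h3 := hconj χ β'
    rw [(hfixG χ).mp hχs, hm'] at h3
    obtain ⟨β₀, _, huniq⟩ := h1a χ hχX
    rw [huniq (irrComp eB β') ⟨m', h3, hpm'⟩, huniq β' ⟨m', hm', hpm'⟩]
  -- the multiplicities of the composite
  have data : ∀ (χ : IrrCharacter G) (β' : IrrCharacter B) (β : IrrCharacter C),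
      (∀ x ∈ X, InvAt G (χ : G → ℂ) x) → InvAt B (β' : B → ℂ) s →
      (∃ m' : ℕ, classInner (fun b : B => (χ : G → ℂ) (Subgroup.inclusion hBG b))
        (β' : B → ℂ) = (m' : ℂ) ∧ ¬ p ∣ m') →
      (∃ m'' : ℕ, classInner (fun c : C => (β' : B → ℂ) (Subgroup.inclusion hCB c))
        (β : C → ℂ) = (m'' : ℂ) ∧ ¬ p ∣ m'') →
      ∀ β₁ : IrrCharacter C, ∃ m : ℕ,
        classInner (fun c : C => (χ : G → ℂ) (Subgroup.inclusion (hCB.trans hBG) c))
          (β₁ : C → ℂ) = (m : ℂ) ∧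
        (β₁ = β → ((m : ℤ) ≡ 1 [ZMOD p] ∨ (m : ℤ) ≡ -1 [ZMOD p])) ∧ (β₁ ≠ β → p ∣ m) := by
    intro χ β' β hχX hβ's hm' hm'' β₁
    obtain ⟨a, b, ha, hb, hab⟩ := classInner_res_trans (Subgroup.inclusion hBG)
      (Subgroup.inclusion hCB) (IsIrrCharacter.isCharacter χ.2) β₁
    obtain ⟨β₀, _, huniq⟩ := h1a χ hχX
    obtain ⟨β₀', _, huniq'⟩ := h2a β' hβ's
    have hβ'₀ : β' = β₀ := huniq β' hm'
    have hβ₀' : β = β₀' := huniq' β hm''
    refine ⟨∑ β'' : IrrCharacter B, a β'' * b β'', hab, ?_, ?_⟩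
    · intro hβ₁
      -- split off the term `β'`
      have hsplit : ∑ β'' : IrrCharacter B, a β'' * b β'' =
          a β' * b β' + ∑ β'' ∈ Finset.univ.erase β', a β'' * b β'' :=
        (Finset.add_sum_erase Finset.univ (fun β'' => a β'' * b β'') (Finset.mem_univ β')).symm
      have hdvd : p ∣ ∑ β'' ∈ Finset.univ.erase β', a β'' * b β'' := by
        apply Finset.dvd_sum
        intro β'' hβ''
        have hne : β'' ≠ β' := (Finset.mem_erase.mp hβ'').1
        have : p ∣ a β'' := by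
          by_contra hnd
          apply hne
          rw [hβ'₀]
          exact huniq β'' ⟨a β'', ha β'', hnd⟩
        exact Dvd.dvd.mul_right this _
      obtain ⟨m', hm'1, hm'2⟩ := hm'
      obtain ⟨m'', hm''1, hm''2⟩ := hm''
      have ha' : a β' = m' := by
        have := (ha β').symm.trans hm'1
        exact_mod_cast this
      have hb' : b β' = m'' := by
        have h5 : classInner (fun c : C => (β' : B → ℂ) (Subgroup.inclusion hCB c))
            (β₁ : C → ℂ) = (m'' : ℂ) := by rw [hβ₁]; exact hm''1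
        have := (hb β').symm.trans h5
        exact_mod_cast this
      have hc1 := h1b χ hχX β' m' hm'1 hm'2
      have hc2 := h2b β' hβ's β m'' hm''1 hm''2
      have hmod : ((∑ β'' : IrrCharacter B, a β'' * b β'' : ℕ) : ℤ) ≡ (m' : ℤ) * (m'' : ℤ)
          [ZMOD p] := by
        rw [hsplit, ha', hb']
        push_cast
        obtain ⟨k, hk⟩ := hdvd
        have : ((∑ β'' ∈ Finset.univ.erase β', a β'' * b β'' : ℕ) : ℤ) = (p : ℤ) * k := by
          exact_mod_cast hk
        push_cast at this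
        rw [this]
        exact Int.modEq_iff_dvd.mpr ⟨-k, by ring⟩
      rcases hc1 with hc1 | hc1 <;> rcases hc2 with hc2 | hc2
      · left; exact hmod.trans (by simpa using hc1.mul hc2)
      · right; exact hmod.trans (by simpa using hc1.mul hc2)
      · right; exact hmod.trans (by simpa using hc1.mul hc2)
      · left; exact hmod.trans (by simpa using hc1.mul hc2)
    · intro hβ₁
      apply Finset.dvd_sum
      intro β'' _
      by_cases hβ'' : β'' = β'
      · have : p ∣ b β'' := by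
          by_contra hnd
          apply hβ₁
          rw [hβ₀']
          exact huniq' β₁ ⟨b β'', by rw [← hβ'']; exact hb β'', hnd⟩
        exact Dvd.dvd.mul_left this _
      · have : p ∣ a β'' := by
          by_contra hnd
          apply hβ''
          rw [hβ'₀]
          exact huniq β'' ⟨a β'', ha β'', hnd⟩
        exact Dvd.dvd.mul_right this _
  -- existence of the two correspondents
  have exist : ∀ χ : IrrCharacter G, (∀ x ∈ X, InvAt G (χ : G → ℂ) x) →
      InvAt G (χ : G → ℂ) s → ∃ (β' : IrrCharacter B) (β : IrrCharacter C),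
      InvAt B (β' : B → ℂ) s ∧
      (∃ m' : ℕ, classInner (fun b : B => (χ : G → ℂ) (Subgroup.inclusion hBG b))
        (β' : B → ℂ) = (m' : ℂ) ∧ ¬ p ∣ m') ∧
      (∃ m'' : ℕ, classInner (fun c : C => (β' : B → ℂ) (Subgroup.inclusion hCB c))
        (β : C → ℂ) = (m'' : ℂ) ∧ ¬ p ∣ m'') := by
    intro χ hχX hχs
    obtain ⟨β', ⟨m', hm', hpm'⟩, _⟩ := h1a χ hχX
    have hβ's := stepa χ hχX hχs β' m' hm' hpm'
    obtain ⟨β, hβ, _⟩ := h2a β' hβ's
    exact ⟨β', β, hβ's, ⟨m', hm', hpm'⟩, hβ⟩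
  have hsign : ∀ m : ℕ, ((m : ℤ) ≡ 1 [ZMOD p] ∨ (m : ℤ) ≡ -1 [ZMOD p]) → ¬ p ∣ m := by
    intro m hm
    rcases hm with hm | hm
    · exact not_dvd_of_congr_sign hp m 1 (Or.inl rfl) hm
    · exact not_dvd_of_congr_sign hp m (-1) (Or.inr rfl) hm
  refine ⟨?_, ?_, ?_, ?_⟩
  · rintro χ ⟨hχX, hχs⟩
    obtain ⟨β', β, hβ's, hm', hm''⟩ := exist χ hχX hχs
    have hd := data χ β' β hχX hβ's hm' hm''
    obtain ⟨m, hm, hmc, _⟩ := hd β
    refine ⟨β, ⟨m, hm, hsign m (hmc rfl)⟩, ?_⟩
    rintro β₁ ⟨m₁, hm₁, hpm₁⟩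
    by_contra hne
    obtain ⟨m₂, hm₂, _, hdvd⟩ := hd β₁
    have : m₁ = m₂ := by
      have := hm₁.symm.trans hm₂
      exact_mod_cast this
    rw [this] at hpm₁
    exact hpm₁ (hdvd hne)
  · rintro χ ⟨hχX, hχs⟩ β₁ m₁ hm₁ hpm₁
    obtain ⟨β', β, hβ's, hm', hm''⟩ := exist χ hχX hχs
    obtain ⟨m₂, hm₂, hmc, hdvd⟩ := data χ β' β hχX hβ's hm' hm'' β₁
    have : m₁ = m₂ := by
      have := hm₁.symm.trans hm₂
      exact_mod_cast this
    rw [this] at hpm₁ ⊢
    by_cases hβ₁ : β₁ = β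
    · exact hmc hβ₁
    · exact absurd (hdvd hβ₁) hpm₁
  · rintro χ χ' ⟨hχX, hχs⟩ ⟨hχ'X, hχ's⟩ β₁ m m' hm hpm hm' hpm'
    obtain ⟨β', β, hβ's, hmβ', hmβ⟩ := exist χ hχX hχs
    obtain ⟨γ', γ, hγ's, hmγ', hmγ⟩ := exist χ' hχ'X hχ's
    have hβ₁ : β₁ = β := by
      by_contra hne
      obtain ⟨m₂, hm₂, _, hdvd⟩ := data χ β' β hχX hβ's hmβ' hmβ β₁
      have : m = m₂ := by
        have := hm.symm.trans hm₂
        exact_mod_cast this
      rw [this] at hpm
      exact hpm (hdvd hne)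
    have hγ₁ : β₁ = γ := by
      by_contra hne
      obtain ⟨m₂, hm₂, _, hdvd⟩ := data χ' γ' γ hχ'X hγ's hmγ' hmγ β₁
      have : m' = m₂ := by
        have := hm'.symm.trans hm₂
        exact_mod_cast this
      rw [this] at hpm'
      exact hpm' (hdvd hne)
    obtain ⟨k, hk, hpk⟩ := hmβ
    obtain ⟨k', hk', hpk'⟩ := hmγ
    rw [← hβ₁] at hk
    rw [← hγ₁] at hk'
    have hβ'γ' : β' = γ' := h2c β' γ' hβ's hγ's β₁ k k' hk hpk hk' hpk'
    obtain ⟨l, hl, hpl⟩ := hmβ'
    obtain ⟨l', hl', hpl'⟩ := hmγ'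
    rw [← hβ'γ'] at hl'
    exact h1c χ χ' hχX hχ'X β' l l' hl hpl hl' hpl'
  · intro β₁
    obtain ⟨β', hβ's, k, hk, hpk⟩ := h2d β₁
    obtain ⟨χ, hχX, l, hl, hpl⟩ := h1d β'
    -- `χ` is `s`-invariant
    have hχs : InvAt G (χ : G → ℂ) s := by
      rw [hfixG]
      have h3 := hconj χ β'
      rw [(hfixB β').mp hβ's, hl] at h3
      exact h1c (irrComp eG χ) χ (hXconj χ hχX) hχX β' l l h3 hpl hl hpl
    refine ⟨χ, ⟨hχX, hχs⟩, ?_⟩
    obtain ⟨m, hm, hmc, _⟩ := data χ β' β₁ hχX hβ's ⟨l, hl, hpl⟩ ⟨k, hk, hpk⟩ β₁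
    exact ⟨m, hm, hsign m (hmc rfl)⟩

end Comp

end Cfsg.Agent.Helper79.Glaub
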