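import Cfsg.Agent.Lib.Helper79.Glaub.Surj

set_option autoImplicit false
set_option linter.unusedSectionVars false
set_option linter.style.haveILetI false

namespace Cfsg.Agent.Helper79.Glaub

open Cfsg Cfsg.Agent.Helper81
open scoped ComplexConjugate

universe u v

/-- a generator of a finite cyclic group is a power, with exponent prime to the order, of any
other generator -/
theorem generator_eq_pow {Γ : Type u} [Group Γ] [Finite Γ] {s s₀ : Γ}
    (h : Subgroup.zpowers s = Subgroup.zpowers s₀) :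
    ∃ k : ℕ, k.Coprime (orderOf s₀) ∧ s = s₀ ^ k := by
  have hmem : s ∈ Subgroup.zpowers s₀ := by rw [← h]; exact Subgroup.mem_zpowers s
  rw [← mem_powers_iff_mem_zpowers] at hmem
  obtain ⟨k, hk⟩ := hmem
  refine ⟨k, ?_, hk.symm⟩
  have hord : orderOf s = orderOf s₀ := by
    rw [← Nat.card_zpowers, ← Nat.card_zpowers, h]
  rw [← hk, orderOf_pow] at hord
  have hpos : 0 < orderOf s₀ := orderOf_pos s₀
  have hg : orderOf s₀ / Nat.gcd (orderOf s₀) k * Nat.gcd (orderOf s₀) k = orderOf s₀ :=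
    Nat.div_mul_cancel (Nat.gcd_dvd_left _ _)
  rw [hord] at hg
  have h2 : Nat.gcd (orderOf s₀) k = 1 :=
    Nat.eq_of_mul_eq_mul_left hpos (hg.trans (mul_one _).symm)
  rw [Nat.Coprime, Nat.gcd_comm]
  exact h2

section Core

variable {Γ : Type u} [Group Γ] [Fintype Γ] {A : Type v} [CommGroup A] [Finite A] (π : Γ →* A)
  (G : Subgroup Γ) [Fintype G] (hπ : Function.Surjective π) (hker : ∀ x : Γ, π x = 1 ↔ x ∈ G)
  (s₀ : Γ) (hs₀ : orderOf s₀ = Nat.card A)
  (hcop : (Nat.card G).Coprime (Nat.card A))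

include hπ hker hs₀ hcop in
theorem glaub_core (hgen : ∀ b : A, b ∈ Subgroup.zpowers (π s₀))
    (S : Subgroup Γ) (hS : S = Subgroup.zpowers s₀) (C : Subgroup Γ) [Fintype C]
    (hCeq : C = fixC G s₀) (hCG : C ≤ G) :
    (∀ (χ : IrrCharacter G) (χh : IrrCharacter Γ), (∀ s ∈ S, ∀ g g' : G, (g' : Γ) = s * g * s⁻¹ → (χ : G → ℂ) g' = (χ : G → ℂ) g) → (∀ g : G, (χh : Γ → ℂ) g = (χ : G → ℂ) g) → (detOrder (χh : Γ → ℂ)).Coprime (Nat.card S) → (∃! βε : IrrCharacter C × ℤ, (βε.2 = 1 ∨ βε.2 = -1) ∧ ∀ c : C, ∀ s : Γ, Subgroup.zpowers s = S → (χh : Γ → ℂ) ((c : Γ) * s) = (βε.2 : ℂ) * (βε.1 : C → ℂ) c) ∧ ∀ β : IrrCharacter C, ∀ ε : ℤ, (ε = 1 ∨ ε = -1) → (∀ c : C, ∀ s : Γ, Subgroup.zpowers s = S → (χh : Γ → ℂ) ((c : Γ) * s) = (ε : ℂ) * (β : C → ℂ) c) → classInner (fun c : C => (χ : G → ℂ) ⟨c, hCG c.2⟩) (β : C → ℂ) ≠ 0) ∧ (∀ (χ χ' : IrrCharacter G) (χh χh' : IrrCharacter Γ), (∀ s ∈ S, ∀ g g' : G, (g' : Γ) = s * g * s⁻¹ →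 (χ : G → ℂ) g' = (χ : G → ℂ) g) → (∀ s ∈ S, ∀ g g' : G, (g' : Γ) = s * g * s⁻¹ → (χ' : G → ℂ) g' = (χ' : G → ℂ) g) → (∀ g : G, (χh : Γ → ℂ) g = (χ : G → ℂ) g) → (∀ g : G, (χh' : Γ → ℂ) g = (χ' : G → ℂ) g) → (detOrder (χh : Γ → ℂ)).Coprime (Nat.card S) → (detOrder (χh' : Γ → ℂ)).Coprime (Nat.card S) → ∀ β : IrrCharacter C, ∀ ε ε' : ℤ, (ε = 1 ∨ ε = -1) → (ε' = 1 ∨ ε' = -1) → (∀ c : C, ∀ s : Γ, Subgroup.zpowers s = S → (χh : Γ → ℂ) ((c : Γ) * s) = (ε : ℂ) * (β : C → ℂ) c) → (∀ c : C, ∀ s : Γ, Subgroup.zpowers s = S → (χh' : Γ → ℂ) ((c : Γ) * s) = (ε' : ℂ) * (β : C → ℂ) c) → χ = χ') ∧ (∀ β : IrrCharacter C, ∃ (χ : IrrCharacter G) (χh : IrrCharacter Γ) (ε : ℤ), (∀ s ∈ S, ∀ g g' : G, (g' : Γ) = s * g * s⁻¹ → (χ : G → ℂ) g' = (χ : G → ℂ) g) ∧ (∀ g : G, (χh : Γ → ℂ) g = (χ : G → ℂ) g) ∧ (detOrder (χh : Γ → ℂ)).Coprime (Nat.card S) ∧ (ε = 1 ∨ ε = -1) ∧ ∀ c : C, ∀ s : Γ, Subgroup.zpowers s = S → (χh : Γ → ℂ) ((c : Γ)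 * s) = (ε : ℂ) * (β : C → ℂ) c) := by
  classical
  subst hS
  subst hCeq
  have hG := normal_of_hker π G hker
  have hcardS : Nat.card (Subgroup.zpowers s₀) = Nat.card A := by rw [Nat.card_zpowers, hs₀]
  rw [hcardS]
  -- values at all generators from the values at `s₀`
  have key : ∀ (χh : IrrCharacter Γ), IsIrrCharacter G (fun g : G => (χh : Γ → ℂ) g) →
      (detOrder (χh : Γ → ℂ)).Coprime (Nat.card A) → ∀ (β : fixC G s₀ → ℂ) (ε : ℂ),
      (∀ c : fixC G s₀, (χh : Γ → ℂ) (c * s₀) = ε * β c) →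
      ∀ c : fixC G s₀, ∀ s : Γ, Subgroup.zpowers s = Subgroup.zpowers s₀ →
        (χh : Γ → ℂ) ((c : Γ) * s) = ε * β c := by
    intro χh hres hdet β ε h c s hs
    obtain ⟨k, hk, rfl⟩ := generator_eq_pow hs
    rw [hs₀] at hk
    rw [twist_coset π G hπ hker s₀ hs₀ hcop χh.2 hres hdet k hk c c.2]
    exact h c
  have hres_of : ∀ (χ : IrrCharacter G) (χh : IrrCharacter Γ),
      (∀ g : G, (χh : Γ → ℂ) g = (χ : G → ℂ) g) →
      IsIrrCharacter G (fun g : G => (χh : Γ → ℂ) g) := by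
    intro χ χh hext
    have : (fun g : G => (χh : Γ → ℂ) g) = (χ : G → ℂ) := funext hext
    rw [this]
    exact χ.2
  have hone : ∀ β : IrrCharacter (fixC G s₀),
      classInner (β : fixC G s₀ → ℂ) (β : fixC G s₀ → ℂ) = 1 := by
    intro β
    rw [Cfsg.Agent.Helper81.irr_orthonormal β.2 β.2, if_pos rfl]
  have hεne : ∀ ε : ℤ, (ε = 1 ∨ ε = -1) → (ε : ℂ) ≠ 0 := by
    rintro ε (rfl | rfl) <;> simp
  refine ⟨?_, ?_, ?_⟩
  · -- part 1 and 2
    intro χ χh hinv hext hdet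
    have hres := hres_of χ χh hext
    refine ⟨?_, ?_⟩
    · obtain ⟨β, ε, hε, hβ⟩ := exists_beta π G hπ hker s₀ hs₀ hcop χh.2 hres hdet
      refine ⟨(β, ε), ⟨hε, key χh hres hdet _ _ hβ⟩, ?_⟩
      rintro ⟨β', ε'⟩ ⟨hε', hβ'⟩
      simp only at hε' hβ'
      have h1 : ∀ c : fixC G s₀, (ε' : ℂ) * (β' : fixC G s₀ → ℂ) c =
          (ε : ℂ) * (β : fixC G s₀ → ℂ) c := by
        intro c
        rw [← hβ' c s₀ rfl, hβ c]
      have hd := Cfsg.Agent.Helper79.irr_one_eq β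
      have hd' := Cfsg.Agent.Helper79.irr_one_eq β'
      have h2 := h1 1
      rw [hd.1, hd'.1] at h2
      have hεε' : ε' = ε := by
        rcases hε with rfl | rfl <;> rcases hε' with rfl | rfl
        · rfl
        · exfalso
          push_cast at h2
          have h3 : ((charDegree (β : fixC G s₀ → ℂ) + charDegree (β' : fixC G s₀ → ℂ) : ℕ) : ℂ)
              = 0 := by
            push_cast
            linear_combination -h2
          have h4 : charDegree (β : fixC G s₀ → ℂ) + charDegree (β' : fixC G s₀ → ℂ) = 0 := by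
            exact_mod_cast h3
          have := hd.2
          omega
        · exfalso
          push_cast at h2
          have h3 : ((charDegree (β : fixC G s₀ → ℂ) + charDegree (β' : fixC G s₀ → ℂ) : ℕ) : ℂ)
              = 0 := by
            push_cast
            linear_combination h2
          have h4 : charDegree (β : fixC G s₀ → ℂ) + charDegree (β' : fixC G s₀ → ℂ) = 0 := by
            exact_mod_cast h3
          have := hd.2
          omega
        · rfl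
      subst hεε'
      have hββ' : β' = β := by
        apply Subtype.ext
        funext c
        exact mul_left_cancel₀ (hεne ε' hε') (h1 c)
      rw [hββ']
    · intro β ε hε hβ
      have h1 : classInner (fun c : fixC G s₀ => (χh : Γ → ℂ) (c * s₀)) (β : fixC G s₀ → ℂ) ≠ 0 := by
        have : (fun c : fixC G s₀ => (χh : Γ → ℂ) (c * s₀)) =
            (ε : ℂ) • (β : fixC G s₀ → ℂ) := by
          funext c
          rw [hβ c s₀ rfl]
          rfl
        rw [this, classInner_smul_left, hone β, mul_one]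
        exact hεne ε hε
      have h2 := constituent_of_inner_ne π G hker s₀ hs₀ hcop
        (IsIrrCharacter.isCharacter χh.2) β.2 h1
      have h3 : (fun c : fixC G s₀ => (χh : Γ → ℂ) c) =
          (fun c : fixC G s₀ => (χ : G → ℂ) ⟨c, hCG c.2⟩) := by
        funext c
        exact hext ⟨c, hCG c.2⟩
      rw [← h3]
      exact h2
  · -- part 3
    intro χ χ' χh χh' hinv hinv' hext hext' hdet hdet' β ε ε' hε hε' hβ hβ'
    have h1 := restrict_eq_of_same_beta π G hπ hker s₀ hs₀ hcop χh.2 χh'.2 β.2 (ε : ℂ) (ε' : ℂ)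
      (hεne ε hε) (hεne ε' hε') (fun c => hβ c s₀ rfl) (fun c => hβ' c s₀ rfl)
    apply Subtype.ext
    funext g
    rw [← hext g, ← hext' g]
    exact congrFun h1 g
  · -- part 4
    intro β
    obtain ⟨χh, ε, hχh, hres, hdet, hε, hβ⟩ :=
      exists_canonical_with_beta π G hπ hker s₀ hs₀ hcop hgen β
    refine ⟨⟨fun g : G => χh g, hres⟩, ⟨χh, hχh⟩, ε, ?_, fun _ => rfl, hdet, hε, ?_⟩
    · intro s _ g g' hg'
      show χh (g' : Γ) = χh (g : Γ)
      rw [hg']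
      exact isClassFunction_of_isCharacter (IsIrrCharacter.isCharacter hχh) _ _
    · exact key ⟨χh, hχh⟩ hres hdet _ _ hβ

end Core

end Cfsg.Agent.Helper79.Glaub
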