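import Cfsg.Agent.Lib.Helper79.Glaub.PGroup
import Cfsg.Agent.Lib.Helper79.Glaub.SolvChain

set_option autoImplicit false
set_option linter.unusedSectionVars false
set_option linter.style.haveILetI false

namespace Cfsg.Agent.Helper79.Glaub

open Cfsg Cfsg.Agent.Helper81
open scoped ComplexConjugate

universe u

section Corr

variable {Γ : Type u} [Group Γ] [Fintype Γ]

/-- `R` is a bijective correspondence between the characters of `G` satisfying `Inv` and the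
irreducible characters of `C` -/
def IsCorr {G C : Subgroup Γ} (Inv : IrrCharacter G → Prop)
    (R : IrrCharacter G → IrrCharacter C → Prop) : Prop :=
  (∀ χ, Inv χ → ∃! β, R χ β) ∧
  (∀ χ χ' β, Inv χ → Inv χ' → R χ β → R χ' β → χ = χ') ∧
  (∀ β, ∃ χ, Inv χ ∧ R χ β)

/-- `R` is compatible with conjugation by `x` -/
def EquivAt {G C : Subgroup Γ} (R : IrrCharacter G → IrrCharacter C → Prop) (x : Γ) : Prop :=
  ∀ (hG : NormAt G x) (hC : NormAt C x) (χ : IrrCharacter G) (β : IrrCharacter C),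
    R χ β → R (irrComp (conjEquiv G x hG) χ) (irrComp (conjEquiv C x hC) β)

/-- a correspondence gives equal cardinalities -/
theorem IsCorr.card_eq {G C : Subgroup Γ} {Inv : IrrCharacter G → Prop}
    {R : IrrCharacter G → IrrCharacter C → Prop} (h : IsCorr Inv R) :
    Nat.card {χ : IrrCharacter G // Inv χ} = Nat.card (IrrCharacter C) := by
  classical
  obtain ⟨h1, h2, h3⟩ := h
  let F : {χ : IrrCharacter G // Inv χ} → IrrCharacter C := fun χ => (h1 χ.1 χ.2).choose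
  have hF : ∀ χ : {χ : IrrCharacter G // Inv χ}, R χ.1 (F χ) := fun χ => (h1 χ.1 χ.2).choose_spec.1
  apply Nat.card_congr
  refine Equiv.ofBijective F ⟨?_, ?_⟩
  · intro χ χ' hχ
    apply Subtype.ext
    apply h2 χ.1 χ'.1 (F χ) χ.2 χ'.2 (hF χ)
    rw [hχ]
    exact hF χ'
  · intro β
    obtain ⟨χ, hχ, hR⟩ := h3 β
    refine ⟨⟨χ, hχ⟩, ?_⟩
    exact ((h1 χ hχ).choose_spec.2 β hR).symm

/-- invariance under `x` in terms of the conjugate character -/
theorem invAt_iff_irrComp {G : Subgroup Γ} (x : Γ) (hG : NormAt G x) (χ : IrrCharacter G) :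
    InvAt G (χ : G → ℂ) x ↔ irrComp (conjEquiv G x hG) χ = χ := by
  rw [invAt_iff_conjEquiv G x hG]
  constructor
  · intro h
    exact Subtype.ext (funext h)
  · intro h g
    exact congrFun (congrArg Subtype.val h) g

/-- the conjugate of a character invariant under a set normalized by `x` is invariant -/
theorem invAt_irrComp {G : Subgroup Γ} (x : Γ) (hG : NormAt G x) (χ : IrrCharacter G)
    (X : Set Γ) (hX : ∀ t ∈ X, x * t * x⁻¹ ∈ X) (hχ : ∀ t ∈ X, InvAt G (χ : G → ℂ) t) :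
    ∀ t ∈ X, InvAt G (irrComp (conjEquiv G x hG) χ : G → ℂ) t := by
  intro t ht g g' hg'
  show (χ : G → ℂ) (conjEquiv G x hG g') = (χ : G → ℂ) (conjEquiv G x hG g)
  apply hχ (x * t * x⁻¹) (hX t ht)
  rw [conjEquiv_coe, conjEquiv_coe, hg']
  group

/-- the `p`-group correspondence as a relation -/
def pRel (p : ℕ) {G C : Subgroup Γ} [Fintype C] (hCG : C ≤ G) :
    IrrCharacter G → IrrCharacter C → Prop :=
  fun χ β => ∃ m : ℕ, classInner (fun c : C => (χ : G → ℂ) (Subgroup.inclusion hCG c))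
    (β : C → ℂ) = (m : ℂ) ∧ ¬ p ∣ m

theorem pRel_isCorr (p : ℕ) {G C : Subgroup Γ} [Fintype C] (hCG : C ≤ G)
    (Inv : IrrCharacter G → Prop) (h : Pkg p (Subgroup.inclusion hCG) Inv) :
    IsCorr Inv (pRel p hCG) := by
  obtain ⟨h1, _, h3, h4⟩ := h
  refine ⟨h1, ?_, h4⟩
  rintro χ χ' β hχ hχ' ⟨m, hm, hpm⟩ ⟨m', hm', hpm'⟩
  exact h3 χ χ' hχ hχ' β m m' hm hpm hm' hpm'

theorem pRel_equivAt (p : ℕ) {G C : Subgroup Γ} [Fintype C] (hCG : C ≤ G) (x : Γ) :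
    EquivAt (pRel p hCG) x := by
  rintro hG hC χ β ⟨m, hm, hpm⟩
  refine ⟨m, ?_, hpm⟩
  rw [← hm, ← classInner_comp_equiv (conjEquiv C x hC)
    (fun c : C => (χ : G → ℂ) (Subgroup.inclusion hCG c)) (β : C → ℂ)]
  rfl

/-- Composition of correspondences. -/
theorem isCorr_comp (G T P S B C : Subgroup Γ) [Fintype G]
    (hB : B = G ⊓ Subgroup.centralizer (T : Set Γ))
    (hT : ∀ t ∈ T, NormAt G t) (hP : ∀ y ∈ P, NormAt G y) (hPT : ∀ y ∈ P, NormAt T y)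
    (hS : S = T ⊔ P)
    (R₁ : IrrCharacter G → IrrCharacter B → Prop) (R₂ : IrrCharacter B → IrrCharacter C → Prop)
    (h1 : IsCorr (fun χ : IrrCharacter G => ∀ t ∈ T, InvAt G (χ : G → ℂ) t) R₁)
    (he1 : ∀ x : Γ, NormAt T x → EquivAt R₁ x)
    (h2 : IsCorr (fun β : IrrCharacter B => ∀ y ∈ P, InvAt B (β : B → ℂ) y) R₂) :
    IsCorr (fun χ : IrrCharacter G => ∀ x ∈ S, InvAt G (χ : G → ℂ) x)
      (fun χ β => ∃ β', R₁ χ β' ∧ R₂ β' β) := by
  obtain ⟨h1a, h1b, h1c⟩ := h1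
  obtain ⟨h2a, h2b, h2c⟩ := h2
  have hPB : ∀ y ∈ P, NormAt B y := fun y hy => by
    rw [hB]; exact normAt_inf_centralizer G T y (hP y hy) (hPT y hy)
  have hTS : T ≤ S := by rw [hS]; exact le_sup_left
  have hPS : P ≤ S := by rw [hS]; exact le_sup_right
  have hPTset : ∀ y ∈ P, ∀ t ∈ (T : Set Γ), y * t * y⁻¹ ∈ (T : Set Γ) := fun y hy t ht =>
    (hPT y hy).1 t ht
  -- the first correspondent of an `S`-invariant character is `P`-invariant
  have stepa : ∀ χ : IrrCharacter G, (∀ t ∈ T, InvAt G (χ : G → ℂ) t) →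
      (∀ y ∈ P, InvAt G (χ : G → ℂ) y) → ∀ β' : IrrCharacter B, R₁ χ β' →
      ∀ y ∈ P, InvAt B (β' : B → ℂ) y := by
    intro χ hχT hχP β' hR y hy
    rw [invAt_iff_irrComp y (hPB y hy)]
    have h3 := he1 y (hPT y hy) (hP y hy) (hPB y hy) χ β' hR
    rw [(invAt_iff_irrComp y (hP y hy) χ).mp (hχP y hy)] at h3
    obtain ⟨β₀, _, huniq⟩ := h1a χ hχT
    rw [huniq _ h3, huniq _ hR]
  refine ⟨?_, ?_, ?_⟩
  · intro χ hχ
    have hχT : ∀ t ∈ T, InvAt G (χ : G → ℂ) t := fun t ht => hχ t (hTS ht)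
    have hχP : ∀ y ∈ P, InvAt G (χ : G → ℂ) y := fun y hy => hχ y (hPS hy)
    obtain ⟨β', hβ', huniq'⟩ := h1a χ hχT
    have hβ'P := stepa χ hχT hχP β' hβ'
    obtain ⟨β, hβ, huniq⟩ := h2a β' hβ'P
    refine ⟨β, ⟨β', hβ', hβ⟩, ?_⟩
    rintro β₁ ⟨β'₁, hR1, hR2⟩
    have : β'₁ = β' := huniq' β'₁ hR1
    rw [this] at hR2
    exact huniq β₁ hR2
  · rintro χ χ' β hχ hχ' ⟨β'₁, hR1, hR2⟩ ⟨β'₂, hR1', hR2'⟩
    have hχT : ∀ t ∈ T, InvAt G (χ : G → ℂ) t := fun t ht => hχ t (hTS ht)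
    have hχP : ∀ y ∈ P, InvAt G (χ : G → ℂ) y := fun y hy => hχ y (hPS hy)
    have hχ'T : ∀ t ∈ T, InvAt G (χ' : G → ℂ) t := fun t ht => hχ' t (hTS ht)
    have hχ'P : ∀ y ∈ P, InvAt G (χ' : G → ℂ) y := fun y hy => hχ' y (hPS hy)
    have hinv1 := stepa χ hχT hχP β'₁ hR1
    have hinv2 := stepa χ' hχ'T hχ'P β'₂ hR1'
    have heq : β'₁ = β'₂ := h2b β'₁ β'₂ β hinv1 hinv2 hR2 hR2'
    rw [← heq] at hR1'
    exact h1b χ χ' β'₁ hχT hχ'T hR1 hR1'
  · intro β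
    obtain ⟨β', hβ'P, hR2⟩ := h2c β
    obtain ⟨χ, hχT, hR1⟩ := h1c β'
    have hχP : ∀ y ∈ P, InvAt G (χ : G → ℂ) y := by
      intro y hy
      rw [invAt_iff_irrComp y (hP y hy)]
      have h3 := he1 y (hPT y hy) (hP y hy) (hPB y hy) χ β' hR1
      rw [(invAt_iff_irrComp y (hPB y hy) β').mp (hβ'P y hy)] at h3
      exact h1b _ χ β' (invAt_irrComp y (hP y hy) χ (T : Set Γ) (hPTset y hy) hχT) hχT h3 hR1
    refine ⟨χ, ?_, β', hR1, hR2⟩
    intro x hx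
    have hall := normInv_closure G (χ : G → ℂ) ((T : Set Γ) ∪ (P : Set Γ)) (by
      intro z hz
      rcases hz with hz | hz
      · exact ⟨hT z hz, hχT z hz⟩
      · exact ⟨hP z hz, hχP z hz⟩) x (by
        rw [← Subgroup.sup_eq_closure, ← hS]; exact hx)
    exact hall.2

end Corr

end Cfsg.Agent.Helper79.Glaub
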