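import Cfsg.Agent.Lib.Helper1.SZ

set_option autoImplicit false
set_option linter.unusedSectionVars false
set_option linter.style.haveILetI false

namespace Cfsg.Agent.Helper79.Glaub

open Pointwise

universe u

section CosetConj

variable {Γ : Type u} [Group Γ] [Finite Γ] (G : Subgroup Γ) [hG : G.Normal] (s₀ : Γ)

/-- the fixed points of `s₀` in `G` -/
def fixC : Subgroup Γ := G ⊓ Subgroup.centralizer {s₀}

theorem mem_fixC (c : Γ) : c ∈ fixC G s₀ ↔ c ∈ G ∧ c * s₀ = s₀ * c := by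
  rw [fixC, Subgroup.mem_inf, Subgroup.mem_centralizer_singleton_iff]

theorem fixC_le : fixC G s₀ ≤ G := inf_le_left

variable (hcop : (Nat.card G).Coprime (orderOf s₀))

include hcop in
/-- `G` meets the cyclic group generated by `s₀` trivially -/
theorem eq_one_of_mem_zpowers {u : Γ} (hu : u ∈ Subgroup.zpowers s₀) (huG : u ∈ G) : u = 1 := by
  have h1 : orderOf u ∣ Nat.card G := G.orderOf_dvd_natCard huG
  have h2 : orderOf u ∣ orderOf s₀ := by
    have := (Subgroup.zpowers s₀).orderOf_dvd_natCard hu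
    rwa [Nat.card_zpowers] at this
  have h3 : orderOf u ∣ 1 := by
    have := Nat.dvd_gcd h1 h2
    rwa [hcop] at this
  exact orderOf_eq_one_iff.mp (Nat.dvd_one.mp h3)

variable (hcard : Nat.card Γ = Nat.card G * orderOf s₀)

include hcop hcard in
theorem isComplement'_zpowers : Subgroup.IsComplement' G (Subgroup.zpowers s₀) := by
  apply Subgroup.isComplement'_of_coprime
  · rw [Nat.card_zpowers, hcard]
  · rw [Nat.card_zpowers]; exact hcop

include hcop hcard in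
/-- every element of the coset `G s₀` is `G`-conjugate to an element of `C s₀` -/
theorem exists_conj_mem_fixC_mul (g : Γ) (hg : g ∈ G) :
    ∃ γ ∈ G, ∃ c ∈ fixC G s₀, γ * (c * s₀) * γ⁻¹ = g * s₀ := by
  classical
  set n := orderOf s₀ with hn
  set m := Nat.card G with hm
  have hnpos : 0 < n := orderOf_pos s₀
  obtain ⟨a, ha1, ha0⟩ := Nat.chineseRemainder hcop.symm 1 0
  -- `a ≡ 1 [MOD n]`, `a ≡ 0 [MOD m]`
  set x := g * s₀ with hx
  let π := QuotientGroup.mk' G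
  have hπ : ∀ u : Γ, π u = 1 ↔ u ∈ G := fun u => QuotientGroup.eq_one_iff u
  have hπx : π x = π s₀ := by
    rw [hx, map_mul, (hπ g).mpr hg, one_mul]
  have hxn : x ^ n ∈ G := by
    rw [← hπ, map_pow, hπx, ← map_pow, hn, pow_orderOf_eq_one, map_one]
  have hxnm : x ^ (n * m) = 1 := by
    rw [pow_mul]
    have := G.orderOf_dvd_natCard hxn
    exact orderOf_dvd_iff_pow_eq_one.mp this
  set y := x ^ a with hy
  have hyn : y ^ n = 1 := by
    rw [hy, ← pow_mul]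
    obtain ⟨q, hq⟩ := (Nat.modEq_zero_iff_dvd.mp ha0)
    rw [hq, mul_assoc, mul_comm q n, ← mul_assoc, mul_comm m n, pow_mul, hxnm, one_pow]
  have hsa : s₀ ^ a = s₀ := by
    have : s₀ ^ a = s₀ ^ 1 := pow_eq_pow_iff_modEq.mpr ha1
    rwa [pow_one] at this
  have hπy : π y = π s₀ := by
    rw [hy, map_pow, hπx, ← map_pow, hsa]
  have hord : orderOf y = n := by
    apply Nat.dvd_antisymm (orderOf_dvd_iff_pow_eq_one.mpr hyn)
    rw [hn, orderOf_dvd_iff_pow_eq_one]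
    have h1 : s₀ ^ orderOf y ∈ G := by
      rw [← hπ, map_pow, ← hπy, ← map_pow, pow_orderOf_eq_one, map_one]
    exact eq_one_of_mem_zpowers G s₀ hcop (Subgroup.pow_mem _ (Subgroup.mem_zpowers s₀) _) h1
  have hS := isComplement'_zpowers G s₀ hcop hcard
  have hS' : Subgroup.IsComplement' G (Subgroup.zpowers y) := by
    apply Subgroup.isComplement'_of_coprime
    · rw [Nat.card_zpowers, hord, hcard]
    · rw [Nat.card_zpowers, hord]; exact hcop
  haveI : Group.IsSolvable (Subgroup.zpowers s₀) := by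
    haveI : IsCyclic (Subgroup.zpowers s₀) := Subgroup.isCyclic_zpowers s₀
    letI : CommGroup (Subgroup.zpowers s₀) := IsCyclic.commGroup
    exact Group.isSolvable_of_comm (fun a b => mul_comm a b)
  obtain ⟨γ₀, hγ₀⟩ := Cfsg.Agent.Helper1.sz_conj G (Subgroup.zpowers s₀) (Subgroup.zpowers y)
    (by rw [Nat.card_zpowers]; exact hcop) (Or.inr inferInstance) hS hS'
  have hymem : y ∈ MulAut.conj γ₀ • Subgroup.zpowers s₀ := by
    rw [hγ₀]; exact Subgroup.mem_zpowers y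
  rw [Subgroup.mem_pointwise_smul_iff_inv_smul_mem] at hymem
  set t := (MulAut.conj γ₀)⁻¹ • y with ht
  have hty : y = γ₀ * t * γ₀⁻¹ := by
    rw [ht]
    simp [MulAut.smul_def]
    group
  -- decompose `γ₀ = γ * t₀`
  obtain ⟨⟨⟨γ, hγ⟩, ⟨t₀, ht₀⟩⟩, hγt, -⟩ := hS.existsUnique γ₀
  simp only at hγt
  have hcomm : t₀ * t = t * t₀ := by
    obtain ⟨i, hi⟩ := Subgroup.mem_zpowers_iff.mp ht₀
    obtain ⟨j, hj⟩ := Subgroup.mem_zpowers_iff.mp hymem
    rw [← hi, ← hj, ← zpow_add, ← zpow_add, add_comm]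
  have hy2 : y = γ * t * γ⁻¹ := by
    rw [hty, ← hγt]
    have : γ * t₀ * t * (γ * t₀)⁻¹ = γ * (t₀ * t * t₀⁻¹) * γ⁻¹ := by group
    rw [this, hcomm, mul_assoc t, mul_inv_cancel, mul_one]
  have hts : t = s₀ := by
    have h1 : π t = π s₀ := by
      rw [← hπy, hy2, map_mul, map_mul, map_inv, (hπ γ).mpr hγ, one_mul, inv_one, mul_one]
    have h2 : t⁻¹ * s₀ ∈ G := by
      rw [← hπ, map_mul, map_inv, h1, inv_mul_cancel]
    have h3 : t⁻¹ * s₀ ∈ Subgroup.zpowers s₀ :=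
      Subgroup.mul_mem _ (Subgroup.inv_mem _ hymem) (Subgroup.mem_zpowers s₀)
    have h4 := eq_one_of_mem_zpowers G s₀ hcop h3 h2
    exact (inv_mul_eq_one.mp h4)
  rw [hts] at hy2
  -- the `G`-part
  set z := y⁻¹ * x with hz
  have hzG : z ∈ G := by
    rw [← hπ, hz, map_mul, map_inv, hπy, hπx, inv_mul_cancel]
  have hzy : z * y = y * z := by
    rw [hz, hy]
    have h1 : Commute x (x ^ a) := Commute.pow_right (Commute.refl x) a
    have h2 : Commute (x ^ a)⁻¹ (x ^ a) := (Commute.refl (x ^ a)).inv_left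
    exact (h2.mul_left h1)
  refine ⟨γ, hγ, γ⁻¹ * z * γ, ?_, ?_⟩
  · rw [mem_fixC]
    refine ⟨?_, ?_⟩
    · have := hG.conj_mem z hzG γ⁻¹
      simpa using this
    · have h1 : s₀ = γ⁻¹ * y * γ := by rw [hy2]; group
      calc γ⁻¹ * z * γ * s₀ = γ⁻¹ * (z * y) * γ := by rw [h1]; group
        _ = γ⁻¹ * (y * z) * γ := by rw [hzy]
        _ = s₀ * (γ⁻¹ * z * γ) := by rw [h1]; group
  · calc γ * (γ⁻¹ * z * γ * s₀) * γ⁻¹ = z * (γ * s₀ * γ⁻¹) := by group
      _ = z * y := by rw [← hy2]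
      _ = y * z := hzy
      _ = x := by rw [hz]; group

include hcop in
/-- control of fusion on the coset -/
theorem conj_fix_of_conj_eq {γ c c' : Γ} (hc : c ∈ fixC G s₀) (hc' : c' ∈ fixC G s₀)
    (h : γ * (c * s₀) * γ⁻¹ = c' * s₀) : γ * s₀ = s₀ * γ ∧ γ * c * γ⁻¹ = c' := by
  obtain ⟨a, ha1, ha0⟩ := Nat.chineseRemainder hcop.symm 1 0
  have hsa : s₀ ^ a = s₀ := by
    have : s₀ ^ a = s₀ ^ 1 := pow_eq_pow_iff_modEq.mpr ha1
    rwa [pow_one] at this
  have key : ∀ d : Γ, d ∈ fixC G s₀ → (d * s₀) ^ a = s₀ := by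
    intro d hd
    rw [mem_fixC] at hd
    have hcomm : Commute d s₀ := hd.2
    rw [hcomm.mul_pow, hsa]
    have h1 : orderOf d ∣ a :=
      (G.orderOf_dvd_natCard hd.1).trans (Nat.modEq_zero_iff_dvd.mp ha0)
    rw [orderOf_dvd_iff_pow_eq_one.mp h1, one_mul]
  have h1 : γ * s₀ * γ⁻¹ = s₀ := by
    have := congrArg (· ^ a) h
    simp only [conj_pow, key c hc, key c' hc'] at this
    exact this
  have h2 : γ * s₀ = s₀ * γ := by
    calc γ * s₀ = γ * s₀ * γ⁻¹ * γ := by group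
      _ = s₀ * γ := by rw [h1]
  refine ⟨h2, ?_⟩
  have h3 : γ * c * γ⁻¹ * s₀ = c' * s₀ := by
    calc γ * c * γ⁻¹ * s₀ = γ * c * γ⁻¹ * (γ * s₀ * γ⁻¹) := by rw [h1]
      _ = γ * (c * s₀) * γ⁻¹ := by group
      _ = c' * s₀ := h
  exact mul_right_cancel h3

end CosetConj

section CosetSum

variable {Γ : Type u} [Group Γ] [Fintype Γ] (G : Subgroup Γ) [hG : G.Normal] (s₀ : Γ)
  [Fintype G] [Fintype (fixC G s₀)]
  (hcop : (Nat.card G).Coprime (orderOf s₀)) (hcard : Nat.card Γ = Nat.card G * orderOf s₀)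

include hcop hcard in
/-- a class function summed over the coset `G s₀` is determined by its values on `C s₀` -/
theorem coset_sum_fixC {M : Type*} [AddCommMonoid M] (F : Γ → M)
    (hF : ∀ γ ∈ G, ∀ x : Γ, F (γ * x * γ⁻¹) = F x) :
    Nat.card (fixC G s₀) • ∑ g : G, F (g * s₀) = Nat.card G • ∑ c : fixC G s₀, F (c * s₀) := by
  classical
  let ι : fixC G s₀ →* G := Subgroup.inclusion (fixC_le G s₀)
  let Φ : G × fixC G s₀ → G := fun p =>
    ⟨(p.1 : Γ) * ((p.2 : Γ) * s₀) * (p.1 : Γ)⁻¹ * s₀⁻¹, by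
      have h1 : (p.1 : Γ) * ((p.2 : Γ) * s₀) * (p.1 : Γ)⁻¹ * s₀⁻¹ =
          ((p.1 : Γ) * (p.2 : Γ)) * (s₀ * (p.1 : Γ)⁻¹ * s₀⁻¹) := by group
      rw [h1]
      exact G.mul_mem (G.mul_mem p.1.2 (fixC_le G s₀ p.2.2))
        (hG.conj_mem _ (G.inv_mem p.1.2) s₀)⟩
  have hΦ : ∀ p : G × fixC G s₀, ((Φ p : G) : Γ) * s₀ =
      (p.1 : Γ) * ((p.2 : Γ) * s₀) * (p.1 : Γ)⁻¹ := by
    intro p
    simp only [Φ]
    group
  -- first evaluation
  have h1 : ∑ p : G × fixC G s₀, F (((Φ p : G) : Γ) * s₀) =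
      Nat.card G • ∑ c : fixC G s₀, F (c * s₀) := by
    rw [Fintype.sum_prod_type]
    simp only [hΦ]
    have : ∀ γ : G, ∑ c : fixC G s₀, F ((γ : Γ) * ((c : Γ) * s₀) * (γ : Γ)⁻¹) =
        ∑ c : fixC G s₀, F (c * s₀) := by
      intro γ
      apply Finset.sum_congr rfl
      intro c _
      exact hF γ γ.2 _
    simp only [this, Finset.sum_const, Finset.card_univ, Nat.card_eq_fintype_card]
  -- second evaluation
  have hfib : ∀ g : G, (Finset.univ.filter (fun p : G × fixC G s₀ => Φ p = g)).card =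
      Nat.card (fixC G s₀) := by
    intro g
    obtain ⟨γ₀, hγ₀, c₀, hc₀, h0⟩ := exists_conj_mem_fixC_mul G s₀ hcop hcard g g.2
    let γ₀' : G := ⟨γ₀, hγ₀⟩
    let c₀' : fixC G s₀ := ⟨c₀, hc₀⟩
    have himg : Finset.univ.filter (fun p : G × fixC G s₀ => Φ p = g) =
        Finset.univ.image (fun k : fixC G s₀ => ((γ₀' * (ι k)⁻¹, k * c₀' * k⁻¹) : G × fixC G s₀)) := by
      ext p
      simp only [Finset.mem_filter, Finset.mem_univ, true_and, Finset.mem_image]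
      constructor
      · intro hp
        have h2 : (p.1 : Γ) * ((p.2 : Γ) * s₀) * (p.1 : Γ)⁻¹ = γ₀ * (c₀ * s₀) * γ₀⁻¹ := by
          rw [← hΦ p, hp, h0]
        have h3 : ((p.1 : Γ)⁻¹ * γ₀) * (c₀ * s₀) * ((p.1 : Γ)⁻¹ * γ₀)⁻¹ = (p.2 : Γ) * s₀ := by
          have : ((p.1 : Γ)⁻¹ * γ₀) * (c₀ * s₀) * ((p.1 : Γ)⁻¹ * γ₀)⁻¹ =
              (p.1 : Γ)⁻¹ * (γ₀ * (c₀ * s₀) * γ₀⁻¹) * (p.1 : Γ) := by group
          rw [this, ← h2]; group
        obtain ⟨h4, h5⟩ := conj_fix_of_conj_eq G s₀ hcop hc₀ p.2.2 h3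
        have hkG : (p.1 : Γ)⁻¹ * γ₀ ∈ G := G.mul_mem (G.inv_mem p.1.2) hγ₀
        have hk : (p.1 : Γ)⁻¹ * γ₀ ∈ fixC G s₀ := (mem_fixC G s₀ _).mpr ⟨hkG, h4⟩
        refine ⟨⟨_, hk⟩, ?_⟩
        apply Prod.ext
        · apply Subtype.ext
          simp [ι, γ₀']
        · apply Subtype.ext
          simp only [Subgroup.coe_mul, Subgroup.coe_inv, c₀']
          exact h5
      · rintro ⟨k, rfl⟩
        apply Subtype.ext
        apply mul_right_cancel (b := s₀)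
        rw [hΦ, ← h0]
        simp only [Subgroup.coe_mul, Subgroup.coe_inv, ι, Subgroup.coe_inclusion, γ₀', c₀']
        have hk := ((mem_fixC G s₀ _).mp k.2).2
        have hk' : (k : Γ)⁻¹ * s₀ = s₀ * (k : Γ)⁻¹ := by
          calc (k : Γ)⁻¹ * s₀ = (k : Γ)⁻¹ * (s₀ * (k : Γ)) * (k : Γ)⁻¹ := by group
            _ = (k : Γ)⁻¹ * ((k : Γ) * s₀) * (k : Γ)⁻¹ := by rw [hk]
            _ = s₀ * (k : Γ)⁻¹ := by group
        calc γ₀ * (k : Γ)⁻¹ * ((k : Γ) * c₀ * (k : Γ)⁻¹ * s₀) * (γ₀ * (k : Γ)⁻¹)⁻¹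
            = γ₀ * c₀ * ((k : Γ)⁻¹ * s₀) * (k : Γ) * γ₀⁻¹ := by group
          _ = γ₀ * c₀ * (s₀ * (k : Γ)⁻¹) * (k : Γ) * γ₀⁻¹ := by rw [hk']
          _ = γ₀ * (c₀ * s₀) * γ₀⁻¹ := by group
    rw [himg, Finset.card_image_of_injective, Finset.card_univ, Nat.card_eq_fintype_card]
    intro k k' hkk
    have h2 := congrArg Prod.fst hkk
    simp only at h2
    have h3 : (ι k)⁻¹ = (ι k')⁻¹ := mul_left_cancel h2
    have h4 : ι k = ι k' := inv_injective h3
    exact Subgroup.inclusion_injective (fixC_le G s₀) h4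
  have h2 : ∑ p : G × fixC G s₀, F (((Φ p : G) : Γ) * s₀) =
      Nat.card (fixC G s₀) • ∑ g : G, F (g * s₀) := by
    rw [← Finset.sum_fiberwise Finset.univ Φ]
    rw [Finset.smul_sum]
    apply Finset.sum_congr rfl
    intro g _
    have : ∀ p ∈ Finset.univ.filter (fun p : G × fixC G s₀ => Φ p = g),
        F (((Φ p : G) : Γ) * s₀) = F (g * s₀) := by
      intro p hp
      rw [(Finset.mem_filter.mp hp).2]
    rw [Finset.sum_congr rfl this, Finset.sum_const, hfib]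
  rw [← h2, h1]

end CosetSum

end Cfsg.Agent.Helper79.Glaub
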