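import Cfsg.Agent.Lib.Helper81.CharSylowExt
import Cfsg.Agent.Lib.Helper81.CharCorr

set_option autoImplicit false
set_option linter.unusedSectionVars false
set_option linter.style.haveILetI false

namespace Cfsg.Agent.Helper79.Glaub

open Cfsg Cfsg.Agent.Helper81
open scoped ComplexConjugate

universe u v

section Fourier

variable {Γ : Type u} [Group Γ] [Fintype Γ] {A : Type v} [CommGroup A] [Finite A] (π : Γ →* A)

theorem linChar_inv (ψ : AddChar (Additive A) ℂ) (x : Γ) :
    linChar π ψ x⁻¹ = conj (linChar π ψ x) := by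
  have h1 : linChar π ψ x * linChar π ψ x⁻¹ = 1 := by
    rw [← linChar_mul, mul_inv_cancel, linChar_one]
  have h2 := linChar_norm π ψ x
  have hne : linChar π ψ x ≠ 0 := by
    intro h0; rw [h0, zero_mul] at h1; exact zero_ne_one h1
  exact mul_left_cancel₀ hne (h1.trans h2.symm)

/-- orthogonality of the linear characters of an abelian quotient -/
theorem sum_linChar_mul_conj (x y : Γ) [DecidableEq A] :
    ∑ ψ : AddChar (Additive A) ℂ, linChar π ψ x * conj (linChar π ψ y) =
      if π x = π y then (Nat.card A : ℂ) else 0 := by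
  have h1 : ∀ ψ : AddChar (Additive A) ℂ, linChar π ψ x * conj (linChar π ψ y) =
      linChar π ψ (x * y⁻¹) := by
    intro ψ
    rw [← linChar_inv, ← linChar_mul]
  simp only [h1]
  rw [sum_linChar]
  have : π (x * y⁻¹) = 1 ↔ π x = π y := by
    rw [map_mul, map_inv, mul_inv_eq_one]
  simp only [this]

/-- the sum of a function over a coset of the kernel, by Fourier inversion -/
theorem coset_sum_eq (F : Γ → ℂ) (a : Γ) [DecidableEq A] :
    (Nat.card A : ℂ) * ∑ x : Γ, (if π x = π a then F x else 0) =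
      ∑ ψ : AddChar (Additive A) ℂ, conj (linChar π ψ a) * ∑ x : Γ, linChar π ψ x * F x := by
  have h1 : ∀ x : Γ, (Nat.card A : ℂ) * (if π x = π a then F x else 0) =
      ∑ ψ : AddChar (Additive A) ℂ, conj (linChar π ψ a) * (linChar π ψ x * F x) := by
    intro x
    have h2 := sum_linChar_mul_conj π x a
    have h3 : ∑ ψ : AddChar (Additive A) ℂ, conj (linChar π ψ a) * (linChar π ψ x * F x) =
        (∑ ψ : AddChar (Additive A) ℂ, linChar π ψ x * conj (linChar π ψ a)) * F x := by
      rw [Finset.sum_mul]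
      apply Finset.sum_congr rfl
      intro ψ _
      ring
    rw [h3, h2]
    split_ifs <;> simp
  rw [Finset.mul_sum]
  simp only [h1]
  rw [Finset.sum_comm]
  apply Finset.sum_congr rfl
  intro ψ _
  rw [Finset.mul_sum]

end Fourier

section Chars

variable {Γ : Type u} [Group Γ] [Fintype Γ] {A : Type v} [CommGroup A] [Finite A] (π : Γ →* A)
  (N : Subgroup Γ) [Fintype N]

theorem card_eq_mul (hπ : Function.Surjective π) (hker : ∀ x : Γ, π x = 1 ↔ x ∈ N) :
    Nat.card Γ = Nat.card A * Nat.card N := by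
  have h1 : N = π.ker := by
    ext x
    rw [MonoidHom.mem_ker, hker]
  have h2 : π.ker.index = Nat.card A := by
    rw [Subgroup.index_ker, MonoidHom.range_eq_top.mpr hπ, Subgroup.card_top]
  rw [← Subgroup.index_mul_card N, h1, h2]

/-- sum over a subgroup as a sum over the group -/
theorem sum_subgroup_eq (F : Γ → ℂ) [DecidablePred (· ∈ N)] :
    ∑ n : N, F n = ∑ x : Γ, if x ∈ N then F x else 0 := by
  rw [← Finset.sum_filter]
  exact (Finset.sum_subtype (Finset.univ.filter (· ∈ N)) (by simp) F).symm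

/-- the multiplicities of the twists add up to the norm of the restriction -/
theorem sum_classInner_twist (hπ : Function.Surjective π) (hker : ∀ x : Γ, π x = 1 ↔ x ∈ N)
    (ξ ξ' : Γ → ℂ) :
    ∑ ψ : AddChar (Additive A) ℂ, classInner (linChar π ψ * ξ) ξ' =
      classInner (fun n : N => ξ n) (fun n : N => ξ' n) := by
  classical
  have hcard := card_eq_mul π N hπ hker
  have hA0 : (Nat.card A : ℂ) ≠ 0 := by exact_mod_cast (Nat.card_pos (α := A)).ne'
  have hN0 : (Nat.card N : ℂ) ≠ 0 := by exact_mod_cast (Nat.card_pos (α := N)).ne'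
  unfold classInner
  rw [← Finset.mul_sum, Finset.sum_comm]
  have h1 : ∀ x : Γ, ∑ ψ : AddChar (Additive A) ℂ, (linChar π ψ * ξ) x * conj (ξ' x) =
      if x ∈ N then (Nat.card A : ℂ) * (ξ x * conj (ξ' x)) else 0 := by
    intro x
    have h2 : ∑ ψ : AddChar (Additive A) ℂ, (linChar π ψ * ξ) x * conj (ξ' x) =
        (∑ ψ : AddChar (Additive A) ℂ, linChar π ψ x) * (ξ x * conj (ξ' x)) := by
      rw [Finset.sum_mul]
      apply Finset.sum_congr rfl
      intro ψ _
      simp only [Pi.mul_apply]
      ring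
    rw [h2, sum_linChar]
    by_cases hx : x ∈ N
    · rw [if_pos ((hker x).mpr hx), if_pos hx]
    · rw [if_neg (fun h => hx ((hker x).mp h)), if_neg hx, zero_mul]
  simp only [h1]
  rw [sum_subgroup_eq N (fun x => ξ x * conj (ξ' x))]
  have h3 : ∑ x : Γ, (if x ∈ N then (Nat.card A : ℂ) * (ξ x * conj (ξ' x)) else 0) =
      (Nat.card A : ℂ) * ∑ x : Γ, (if x ∈ N then ξ x * conj (ξ' x) else 0) := by
    rw [Finset.mul_sum]
    apply Finset.sum_congr rfl
    intro x _
    split_ifs <;> simp
  rw [h3, hcard]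
  push_cast
  field_simp

end Chars

section Coset

variable {Γ : Type u} [Group Γ] [Fintype Γ] {A : Type v} [CommGroup A] [Finite A] (π : Γ →* A)
  (N : Subgroup Γ) [Fintype N]

theorem linChar_one_char : linChar π (1 : AddChar (Additive A) ℂ) = 1 := by
  funext x
  simp [linChar_apply]

/-- coset sum of a product of characters via twisted inner products -/
theorem coset_sum_inner (ξ ξ' : Γ → ℂ) (a : Γ) [DecidableEq A] :
    (Nat.card A : ℂ) * ∑ x : Γ, (if π x = π a then ξ x * conj (ξ' x) else 0) =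
      (Nat.card Γ : ℂ) * ∑ ψ : AddChar (Additive A) ℂ,
        conj (linChar π ψ a) * classInner (linChar π ψ * ξ) ξ' := by
  have hΓ0 : (Nat.card Γ : ℂ) ≠ 0 := by exact_mod_cast (Nat.card_pos (α := Γ)).ne'
  rw [coset_sum_eq π (fun x => ξ x * conj (ξ' x)) a, Finset.mul_sum]
  apply Finset.sum_congr rfl
  intro ψ _
  unfold classInner
  have : ∑ x : Γ, linChar π ψ x * (ξ x * conj (ξ' x)) =
      ∑ x : Γ, (linChar π ψ * ξ) x * conj (ξ' x) := by
    apply Finset.sum_congr rfl
    intro x _
    simp only [Pi.mul_apply]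
    ring
  rw [this]
  field_simp

/-- if the restriction of `ξ` to the kernel is irreducible, only the trivial twist fixes `ξ` -/
theorem classInner_twist_eq (hπ : Function.Surjective π) (hker : ∀ x : Γ, π x = 1 ↔ x ∈ N)
    {ξ : Γ → ℂ} (hξ : IsIrrCharacter Γ ξ) (hres : IsIrrCharacter N (fun n : N => ξ n))
    (ψ : AddChar (Additive A) ℂ) :
    classInner (linChar π ψ * ξ) ξ = if ψ = 1 then 1 else 0 := by
  classical
  have hsum := sum_classInner_twist π N hπ hker ξ ξ
  rw [Cfsg.Agent.Helper81.irr_orthonormal hres hres, if_pos rfl] at hsum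
  have hterm : ∀ φ : AddChar (Additive A) ℂ, classInner (linChar π φ * ξ) ξ =
      (((if linChar π φ * ξ = ξ then 1 else 0 : ℕ)) : ℂ) := by
    intro φ
    rw [Cfsg.Agent.Helper81.irr_orthonormal (isIrrCharacter_linChar_mul π φ hξ) hξ]
    split_ifs <;> simp
  simp only [hterm] at hsum
  have hsum' : ∑ φ : AddChar (Additive A) ℂ, (if linChar π φ * ξ = ξ then 1 else 0 : ℕ) = 1 := by
    exact_mod_cast hsum
  have h1 : (if linChar π (1 : AddChar (Additive A) ℂ) * ξ = ξ then 1 else 0 : ℕ) = 1 := by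
    rw [linChar_one_char, one_mul, if_pos rfl]
  rw [hterm]
  by_cases hψ : ψ = 1
  · rw [if_pos hψ, hψ, h1]; simp
  · rw [if_neg hψ]
    have h2 : ∑ φ ∈ Finset.univ.erase (1 : AddChar (Additive A) ℂ),
        (if linChar π φ * ξ = ξ then 1 else 0 : ℕ) = 0 := by
      have := Finset.add_sum_erase Finset.univ
        (fun φ : AddChar (Additive A) ℂ => (if linChar π φ * ξ = ξ then 1 else 0 : ℕ))
        (Finset.mem_univ 1)
      rw [hsum', h1] at this
      omega
    have h3 := (Finset.sum_eq_zero_iff.mp h2) ψ (Finset.mem_erase.mpr ⟨hψ, Finset.mem_univ _⟩)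
    rw [h3]; simp

/-- the norm of an extension on a coset of the kernel -/
theorem coset_sum_self (hπ : Function.Surjective π) (hker : ∀ x : Γ, π x = 1 ↔ x ∈ N)
    {ξ : Γ → ℂ} (hξ : IsIrrCharacter Γ ξ) (hres : IsIrrCharacter N (fun n : N => ξ n))
    (a : Γ) [DecidableEq A] :
    ∑ x : Γ, (if π x = π a then ξ x * conj (ξ x) else 0) = (Nat.card N : ℂ) := by
  classical
  have hA0 : (Nat.card A : ℂ) ≠ 0 := by exact_mod_cast (Nat.card_pos (α := A)).ne'
  have h1 := coset_sum_inner π ξ ξ a
  simp only [classInner_twist_eq π N hπ hker hξ hres] at h1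
  rw [Finset.sum_eq_single (1 : AddChar (Additive A) ℂ)] at h1
  · rw [if_pos rfl, mul_one, linChar_one_char, Pi.one_apply, map_one, mul_one,
      card_eq_mul π N hπ hker] at h1
    push_cast at h1
    exact mul_left_cancel₀ hA0 h1
  · intro ψ _ hψ
    rw [if_neg hψ, mul_zero]
  · intro h; exact absurd (Finset.mem_univ _) h

/-- extensions of different characters are orthogonal on every coset -/
theorem coset_sum_ne {ξ ξ' : Γ → ℂ} (hker : ∀ x : Γ, π x = 1 ↔ x ∈ N)
    (hξ : IsIrrCharacter Γ ξ) (hξ' : IsIrrCharacter Γ ξ')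
    (hne : (fun n : N => ξ n) ≠ (fun n : N => ξ' n)) (a : Γ) [DecidableEq A] :
    ∑ x : Γ, (if π x = π a then ξ x * conj (ξ' x) else 0) = 0 := by
  classical
  have hA0 : (Nat.card A : ℂ) ≠ 0 := by exact_mod_cast (Nat.card_pos (α := A)).ne'
  have h1 := coset_sum_inner π ξ ξ' a
  have h2 : ∀ ψ : AddChar (Additive A) ℂ, classInner (linChar π ψ * ξ) ξ' = 0 := by
    intro ψ
    rw [Cfsg.Agent.Helper81.irr_orthonormal (isIrrCharacter_linChar_mul π ψ hξ) hξ', if_neg]
    intro heq
    apply hne
    funext n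
    have := congrFun heq (n : Γ)
    rw [Pi.mul_apply, linChar_ker π ψ ((hker _).mpr n.2), one_mul] at this
    exact this
  simp only [h2, mul_zero, Finset.sum_const_zero] at h1
  rcases mul_eq_zero.mp h1 with h | h
  · exact absurd h hA0
  · exact h

/-- a character not vanishing at an element generating the quotient restricts irreducibly -/
theorem restrict_irr_of_ne_zero (hπ : Function.Surjective π) (hker : ∀ x : Γ, π x = 1 ↔ x ∈ N)
    {ξ : Γ → ℂ} (hξ : IsIrrCharacter Γ ξ) (a : Γ) (ha : ∀ b : A, b ∈ Subgroup.zpowers (π a))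
    (hne : ξ a ≠ 0) : IsIrrCharacter N (fun n : N => ξ n) := by
  classical
  apply isIrrCharacter_of_classInner_self_eq_one
    (isCharacter_restrict N (IsIrrCharacter.isCharacter hξ))
  rw [← sum_classInner_twist π N hπ hker ξ ξ]
  rw [Finset.sum_eq_single (1 : AddChar (Additive A) ℂ)]
  · rw [linChar_one_char, one_mul, Cfsg.Agent.Helper81.irr_orthonormal hξ hξ, if_pos rfl]
  · intro ψ _ hψ
    rw [Cfsg.Agent.Helper81.irr_orthonormal (isIrrCharacter_linChar_mul π ψ hξ) hξ, if_neg]
    intro heq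
    apply hψ
    have h1 := congrFun heq a
    rw [Pi.mul_apply] at h1
    have h2 : linChar π ψ a = 1 := by
      have : linChar π ψ a * ξ a = 1 * ξ a := by rw [h1, one_mul]
      exact mul_right_cancel₀ hne this
    ext b
    obtain ⟨k, hk⟩ := ha (Additive.toMul b)
    have hb : b = k • Additive.ofMul (π a) := by
      rw [← ofMul_zpow]
      simp only at hk
      rw [hk]
      rfl
    rw [hb, AddChar.map_zsmul_eq_zpow]
    rw [linChar_apply] at h2
    rw [h2, one_zpow]
    simp
  · intro h; exact absurd (Finset.mem_univ _) h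

end Coset

end Cfsg.Agent.Helper79.Glaub
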