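import Mathlib

set_option autoImplicit false
set_option linter.unusedSectionVars false
set_option linter.style.haveILetI false

namespace Cfsg.Agent.Helper79.Glaub

/-- a complex algebraic integer `c` with `p * c = D`, `D` an integer, gives `p ∣ D` -/
theorem int_dvd_of_isIntegral_of_mul_eq (c : ℂ) (n : ℕ) (D : ℤ) (hn : n ≠ 0)
    (hc : (n : ℂ) * c = (D : ℂ)) (hint : IsIntegral ℤ c) : (n : ℤ) ∣ D := by
  have hn' : (n : ℂ) ≠ 0 := by exact_mod_cast hn
  have h1 : c = (((D : ℚ) / (n : ℚ) : ℚ) : ℂ) := by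
    push_cast
    rw [eq_div_iff hn', mul_comm]
    exact hc
  rw [h1] at hint
  have h2 : IsIntegral ℤ ((D : ℚ) / (n : ℚ) : ℚ) :=
    (isIntegral_algebraMap_iff (algebraMap ℚ ℂ).injective).1 hint
  obtain ⟨z, hz⟩ := IsIntegrallyClosed.isIntegral_iff.1 h2
  have h3 : ((z : ℤ) : ℚ) * (n : ℚ) = (D : ℚ) := by
    have : (algebraMap ℤ ℚ) z = (z : ℚ) := rfl
    rw [this] at hz
    rw [hz]
    have hn'' : (n : ℚ) ≠ 0 := by exact_mod_cast hn
    field_simp
  have h4 : z * (n : ℤ) = D := by exact_mod_cast h3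
  exact ⟨z, by rw [← h4]; ring⟩

/-- A nonnegative integer combination of `p`-power roots of unity that is a rational integer is
congruent modulo `p` to the sum of its coefficients. -/
theorem int_congr_of_sum_roots {ι : Type*} [Fintype ι] (p j : ℕ) (hp : p.Prime) (z : ι → ℂ)
    (m : ι → ℕ) (hz : ∀ i, z i ^ (p ^ j) = 1) (w : ℤ)
    (hw : ∑ i, (m i : ℂ) * z i = (w : ℂ)) : w ≡ ((∑ i, m i : ℕ) : ℤ) [ZMOD p] := by
  classical
  haveI : Fact p.Prime := ⟨hp⟩
  have hpj : 0 < p ^ j := pow_pos hp.pos j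
  set R := integralClosure ℤ ℂ with hR
  have hp2 : ((p : ℕ) : R) ∈ nonunits R := by
    intro hu
    obtain ⟨y, hy⟩ := hu.exists_right_inv
    have h1 : (p : ℂ) * (y : ℂ) = ((1 : ℤ) : ℂ) := by
      have := congrArg (fun r : R => (r : ℂ)) hy
      simpa using this
    have h2 := int_dvd_of_isIntegral_of_mul_eq (y : ℂ) p 1 hp.ne_zero h1 y.2
    have h3 : (p : ℤ) = 1 ∨ (p : ℤ) = -1 := Int.isUnit_iff.mp (isUnit_of_dvd_one h2)
    rcases h3 with h3 | h3
    · have : p = 1 := by exact_mod_cast h3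
      exact hp.one_lt.ne' this
    · have : (0 : ℤ) ≤ (p : ℤ) := Int.natCast_nonneg p
      omega
  haveI : CharP (R ⧸ (Ideal.span ({(p : R)} : Set R) : Ideal R)) p := CharP.quotient R p hp2
  haveI : ExpChar (R ⧸ (Ideal.span ({(p : R)} : Set R) : Ideal R)) p := ExpChar.prime hp
  set I : Ideal R := Ideal.span ({(p : R)} : Set R) with hI
  let q : R →+* R ⧸ I := Ideal.Quotient.mk I
  let φ : R ⧸ I →+* R ⧸ I := iterateFrobenius (R ⧸ I) p j
  have hz' : ∀ i, IsIntegral ℤ (z i) := by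
    intro i
    apply IsIntegral.of_pow hpj
    rw [hz i]
    exact isIntegral_one
  let z' : ι → R := fun i => ⟨z i, hz' i⟩
  have hz'pow : ∀ i, z' i ^ (p ^ j) = 1 := by
    intro i
    apply Subtype.ext
    simp only [z']
    simp
    exact hz i
  have ha' : ∑ i, (m i : R) * z' i = (w : R) := by
    apply Subtype.ext
    have h1 : ((∑ i, (m i : R) * z' i : R) : ℂ) = ∑ i, (m i : ℂ) * z i := by
      simp [z']
    rw [h1, hw]
    simp
  have h1 := congrArg (fun r => φ (q r)) ha'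
  simp only [map_sum, map_mul, map_natCast, map_intCast] at h1
  have h2 : ∀ i, φ (q (z' i)) = 1 := by
    intro i
    show iterateFrobenius (R ⧸ I) p j (q (z' i)) = 1
    rw [iterateFrobenius_def, ← map_pow, hz'pow i, map_one]
  simp only [h2, mul_one] at h1
  -- now `h1 : ∑ i, (m i : R ⧸ I) = (w : R ⧸ I)`
  have h3 : q (((w - ((∑ i, m i : ℕ) : ℤ) : ℤ) : R)) = 0 := by
    rw [map_intCast]
    push_cast
    rw [← h1, sub_self]
  rw [Ideal.Quotient.eq_zero_iff_mem, hI, Ideal.mem_span_singleton] at h3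
  obtain ⟨y, hy⟩ := h3
  have h4 : (p : ℂ) * (y : ℂ) = ((w - ((∑ i, m i : ℕ) : ℤ) : ℤ) : ℂ) := by
    have := congrArg (fun r : R => (r : ℂ)) hy
    simp only [MulMemClass.coe_mul] at this
    have h5 : ((((p : ℕ) : R) : R) : ℂ) = (p : ℂ) := by simp
    have h6 : ((((w - ((∑ i, m i : ℕ) : ℤ) : ℤ) : R)) : ℂ) =
        ((w - ((∑ i, m i : ℕ) : ℤ) : ℤ) : ℂ) := by simp
    rw [h5, h6] at this
    exact this.symm
  have h5 := int_dvd_of_isIntegral_of_mul_eq (y : ℂ) p _ hp.ne_zero h4 y.2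
  exact (Int.modEq_iff_dvd.mpr h5).symm

end Cfsg.Agent.Helper79.Glaub
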