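import Cfsg.Agent.Lib.Helper79.Glaub.Surj
import Cfsg.Agent.Lib.Helper79.Glaub.PCongr
import Cfsg.Agent.Lib.Helper79.Glaub.Pkg

set_option autoImplicit false
set_option linter.unusedSectionVars false
set_option linter.style.haveILetI false

namespace Cfsg.Agent.Helper79.Glaub

open Cfsg Cfsg.Agent.Helper81
open scoped ComplexConjugate

universe u v

theorem not_dvd_of_congr_sign {p : ℕ} (hp : p.Prime) (m : ℕ) (ε : ℤ) (hε : ε = 1 ∨ ε = -1)
    (h : (m : ℤ) ≡ ε [ZMOD p]) : ¬ p ∣ m := by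
  intro hpm
  have h1 : (p : ℤ) ∣ (m : ℤ) := by exact_mod_cast hpm
  have h2 : (p : ℤ) ∣ ε - m := Int.modEq_iff_dvd.mp h
  have h3 : (p : ℤ) ∣ ε := by
    have := dvd_add h2 h1
    simpa using this
  have h4 : (p : ℤ) ∣ 1 := by
    rcases hε with rfl | rfl
    · exact h3
    · simpa using h3
  have h5 : p ∣ 1 := by exact_mod_cast h4
  exact hp.one_lt.ne' (Nat.dvd_one.mp h5)

/-- `fixC G s₀ ≤ G`, without any normality assumption -/
theorem fixC_le' {Γ : Type u} [Group Γ] (G : Subgroup Γ) (s₀ : Γ) : fixC G s₀ ≤ G := inf_le_left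

section CycP

variable {Γ : Type u} [Group Γ] [Fintype Γ] {A : Type v} [CommGroup A] [Finite A] (π : Γ →* A)
  (G : Subgroup Γ) [Fintype G] (hπ : Function.Surjective π) (hker : ∀ x : Γ, π x = 1 ↔ x ∈ G)
  (s₀ : Γ) [Fintype (fixC G s₀)] (hs₀ : orderOf s₀ = Nat.card A)
  (hcop : (Nat.card G).Coprime (Nat.card A))

include hπ hker hs₀ hcop in
/-- existence of the canonical extension of an invariant irreducible character -/
theorem exists_canonical (χ : IrrCharacter G)
    (hinv : ∀ (γ : Γ) (g g' : G), (g' : Γ) = γ * g * γ⁻¹ → (χ : G → ℂ) g' = (χ : G → ℂ) g) :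
    ∃ χh : Γ → ℂ, IsIrrCharacter Γ χh ∧ (fun g : G => χh g) = (χ : G → ℂ) ∧
      (detOrder χh).Coprime (Nat.card A) := by
  have hG := normal_of_hker π G hker
  have hidx := index_eq_card π G hπ hker
  have hcop' : (Nat.card G).Coprime G.index := by rw [hidx]; exact hcop
  have hinv' : ∀ (γ : Γ) (g : G),
      (χ : G → ℂ) ⟨γ * g * γ⁻¹, hG.conj_mem g g.2 γ⟩ = (χ : G → ℂ) g :=
    fun γ g => hinv γ g _ rfl
  have hd := (Cfsg.Agent.Helper79.irr_one_eq χ).1
  obtain ⟨χ₀, ⟨hχ₀irr, hχ₀res, hχ₀det⟩, _⟩ := exists_canonical_extension G hG χ.2 hinv'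
    (charDegree (χ : G → ℂ)) hd (coprime_index_detOrder_mul G hcop' χ.2)
  refine ⟨χ₀, hχ₀irr, funext hχ₀res, ?_⟩
  rw [hχ₀det]
  exact Nat.Coprime.coprime_dvd_left (detOrder_dvd_card χ.2) hcop

include hker hs₀ hcop in
/-- the multiplicities in the restriction to `C` modulo `p` -/
theorem mult_congr (p j : ℕ) (hp : p.Prime) (hA : Nat.card A = p ^ j) {χh : Γ → ℂ}
    (hχh : IsCharacter Γ χh) {β : IrrCharacter (fixC G s₀)} {ε : ℤ}
    (hβ : ∀ c : fixC G s₀, χh (c * s₀) = (ε : ℂ) * (β : fixC G s₀ → ℂ) c)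
    (β' : IrrCharacter (fixC G s₀)) :
    ∃ m : ℕ, classInner (fun c : fixC G s₀ => χh c) (β' : fixC G s₀ → ℂ) = (m : ℂ) ∧
      (m : ℤ) ≡ (if β' = β then ε else 0) [ZMOD p] := by
  obtain ⟨m, hm⟩ := exists_nat_coeff π G hker s₀ hs₀ hcop hχh β'.2
  have h1 := hm 1
  have h0 := hm 0
  simp only [pow_one] at h1
  simp only [pow_zero, mul_one] at h0
  refine ⟨∑ ψ : AddChar (Additive A) ℂ, m ψ, ?_, ?_⟩
  · rw [h0]
    push_cast
    rfl
  · have h2 : classInner (fun c : fixC G s₀ => χh (c * s₀)) (β' : fixC G s₀ → ℂ) =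
        (((if β' = β then ε else 0 : ℤ)) : ℂ) := by
      have : (fun c : fixC G s₀ => χh (c * s₀)) = (ε : ℂ) • (β : fixC G s₀ → ℂ) := by
        funext c
        rw [hβ c]
        rfl
      rw [this, classInner_smul_left, Cfsg.Agent.Helper81.irr_orthonormal β.2 β'.2]
      by_cases h : β' = β
      · rw [if_pos h, if_pos (by rw [h])]
        simp
      · rw [if_neg h, if_neg]
        · simp
        · intro h'
          exact h (Subtype.ext h'.symm)
    rw [h1] at h2
    have h3 := int_congr_of_sum_roots p j hp (fun ψ => linChar π ψ s₀) m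
      (by
        intro ψ
        rw [← linChar_pow, ← hA, ← hs₀, pow_orderOf_eq_one, linChar_one])
      _ h2
    exact h3.symm

include hπ hker hs₀ hcop in
/-- the Glauberman package for a cyclic `p`-group acting, intrinsic form -/
theorem pkg_intrinsic (hgen : ∀ b : A, b ∈ Subgroup.zpowers (π s₀)) (p j : ℕ) (hp : p.Prime)
    (hA : Nat.card A = p ^ j) :
    Pkg p (Subgroup.inclusion (fixC_le' G s₀))
      (fun χ : IrrCharacter G => ∀ (γ : Γ) (g g' : G), (g' : Γ) = γ * g * γ⁻¹ →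
        (χ : G → ℂ) g' = (χ : G → ℂ) g) := by
  classical
  -- the data attached to an invariant character
  have data : ∀ χ : IrrCharacter G, (∀ (γ : Γ) (g g' : G), (g' : Γ) = γ * g * γ⁻¹ →
        (χ : G → ℂ) g' = (χ : G → ℂ) g) →
      ∃ (χh : Γ → ℂ) (β : IrrCharacter (fixC G s₀)) (ε : ℤ), IsIrrCharacter Γ χh ∧
        (fun g : G => χh g) = (χ : G → ℂ) ∧ (ε = 1 ∨ ε = -1) ∧
        (∀ c : fixC G s₀, χh (c * s₀) = (ε : ℂ) * (β : fixC G s₀ → ℂ) c) ∧
        ∀ β' : IrrCharacter (fixC G s₀), ∃ m : ℕ,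
          classInner (fun c : fixC G s₀ => (χ : G → ℂ) (Subgroup.inclusion (fixC_le' G s₀) c))
            (β' : fixC G s₀ → ℂ) = (m : ℂ) ∧
          (m : ℤ) ≡ (if β' = β then ε else 0) [ZMOD p] := by
    intro χ hinv
    obtain ⟨χh, hχh, hres, hdet⟩ := exists_canonical π G hπ hker s₀ hs₀ hcop χ hinv
    have hres' : IsIrrCharacter G (fun g : G => χh g) := by rw [hres]; exact χ.2
    obtain ⟨β, ε, hε, hβ⟩ := exists_beta π G hπ hker s₀ hs₀ hcop hχh hres' hdet
    refine ⟨χh, β, ε, hχh, hres, hε, hβ, ?_⟩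
    intro β'
    have h1 := mult_congr π G hker s₀ hs₀ hcop p j hp hA (IsIrrCharacter.isCharacter hχh) hβ β'
    have h2 : (fun c : fixC G s₀ => (χ : G → ℂ) (Subgroup.inclusion (fixC_le' G s₀) c)) =
        (fun c : fixC G s₀ => χh c) := by
      funext c
      rw [← hres]
      rfl
    rw [h2]
    exact h1
  refine ⟨?_, ?_, ?_, ?_⟩
  · intro χ hinv
    obtain ⟨χh, β, ε, hχh, hres, hε, hβ, hmult⟩ := data χ hinv
    obtain ⟨m, hm, hmc⟩ := hmult β
    rw [if_pos rfl] at hmc
    refine ⟨β, ⟨m, hm, not_dvd_of_congr_sign hp m ε hε hmc⟩, ?_⟩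
    rintro β' ⟨m', hm', hpm'⟩
    by_contra hne
    obtain ⟨m'', hm'', hmc''⟩ := hmult β'
    rw [if_neg hne] at hmc''
    have : m' = m'' := by
      have := hm'.symm.trans hm''
      exact_mod_cast this
    subst this
    apply hpm'
    have := Int.modEq_zero_iff_dvd.mp hmc''
    exact_mod_cast this
  · intro χ hinv β' m' hm' hpm'
    obtain ⟨χh, β, ε, hχh, hres, hε, hβ, hmult⟩ := data χ hinv
    obtain ⟨m'', hm'', hmc''⟩ := hmult β'
    have : m' = m'' := by
      have := hm'.symm.trans hm''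
      exact_mod_cast this
    subst this
    by_cases hne : β' = β
    · rw [if_pos hne] at hmc''
      rcases hε with rfl | rfl
      · left; exact hmc''
      · right; exact hmc''
    · rw [if_neg hne] at hmc''
      exfalso
      apply hpm'
      have := Int.modEq_zero_iff_dvd.mp hmc''
      exact_mod_cast this
  · intro χ χ' hinv hinv' β₁ m m' hm hpm hm' hpm'
    obtain ⟨χh, β, ε, hχh, hres, hε, hβ, hmult⟩ := data χ hinv
    obtain ⟨χh', β', ε', hχh', hres', hε', hβ', hmult'⟩ := data χ' hinv'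
    have hβ₁ : β₁ = β := by
      by_contra hne
      obtain ⟨m'', hm'', hmc''⟩ := hmult β₁
      rw [if_neg hne] at hmc''
      have : m = m'' := by
        have := hm.symm.trans hm''
        exact_mod_cast this
      subst this
      apply hpm
      have := Int.modEq_zero_iff_dvd.mp hmc''
      exact_mod_cast this
    have hβ₁' : β₁ = β' := by
      by_contra hne
      obtain ⟨m'', hm'', hmc''⟩ := hmult' β₁
      rw [if_neg hne] at hmc''
      have : m' = m'' := by
        have := hm'.symm.trans hm''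
        exact_mod_cast this
      subst this
      apply hpm'
      have := Int.modEq_zero_iff_dvd.mp hmc''
      exact_mod_cast this
    have hεne : ∀ ε : ℤ, (ε = 1 ∨ ε = -1) → (ε : ℂ) ≠ 0 := by
      rintro ε (rfl | rfl) <;> simp
    rw [← hβ₁] at hβ
    rw [← hβ₁'] at hβ'
    have h1 := restrict_eq_of_same_beta π G hπ hker s₀ hs₀ hcop hχh hχh' β₁.2 (ε : ℂ) (ε' : ℂ)
      (hεne ε hε) (hεne ε' hε') hβ hβ'
    apply Subtype.ext
    rw [← hres, ← hres']
    exact h1
  · intro β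
    obtain ⟨χh, ε, hχh, hres, hdet, hε, hβ⟩ :=
      exists_canonical_with_beta π G hπ hker s₀ hs₀ hcop hgen β
    refine ⟨⟨fun g : G => χh g, hres⟩, ?_, ?_⟩
    · intro γ g g' hg'
      show χh (g' : Γ) = χh (g : Γ)
      rw [hg']
      exact isClassFunction_of_isCharacter (IsIrrCharacter.isCharacter hχh) _ _
    · obtain ⟨m, hm, hmc⟩ := mult_congr π G hker s₀ hs₀ hcop p j hp hA
        (IsIrrCharacter.isCharacter hχh) hβ β
      rw [if_pos rfl] at hmc
      exact ⟨m, hm, not_dvd_of_congr_sign hp m ε hε hmc⟩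

end CycP

end Cfsg.Agent.Helper79.Glaub
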