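import Cfsg.Agent.Lib.Helper75.GaloisTwist
import Cfsg.Agent.Lib.Helper81.CharDet

set_option autoImplicit false
set_option linter.unusedSectionVars false
set_option linter.style.haveILetI false

namespace Cfsg.Agent.Helper79.Glaub

open Cfsg Cfsg.Agent.Helper81 Cfsg.Agent.Helper75 Module

/-- geometric sum of a root of unity -/
theorem geom_sum_root (m : ℕ) (w : ℂ) (hw : w ^ m = 1) :
    ∑ j ∈ Finset.range m, w ^ j = if w = 1 then (m : ℂ) else 0 := by
  by_cases h : w = 1
  · rw [if_pos h, h]; simp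
  · rw [if_neg h, geom_sum_eq h, hw, sub_self, zero_div]

/-- the number of occurrences of a root of unity among roots of unity, via power sums -/
theorem count_eq_psum {ι : Type*} [Fintype ι] [DecidableEq ι] (m : ℕ) (hm : 0 < m) (ν : ι → ℂ)
    (hν : ∀ i, ν i ^ m = 1) (η : ℂ) (hη : η ^ m = 1) :
    (m : ℂ) * ((Finset.univ.filter (fun i => ν i = η)).card : ℂ) =
      ∑ j ∈ Finset.range m, (η⁻¹) ^ j * ∑ i, ν i ^ j := by
  classical
  have hη0 : η ≠ 0 := by
    intro h0
    rw [h0, zero_pow hm.ne'] at hη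
    exact zero_ne_one hη
  have h1 : ∀ i, ∑ j ∈ Finset.range m, (η⁻¹) ^ j * ν i ^ j = if ν i = η then (m : ℂ) else 0 := by
    intro i
    have h2 : ∀ j, (η⁻¹) ^ j * ν i ^ j = (ν i * η⁻¹) ^ j := by
      intro j; rw [mul_pow, mul_comm]
    simp only [h2]
    rw [geom_sum_root m (ν i * η⁻¹) (by rw [mul_pow, hν i, inv_pow, hη]; simp)]
    have : ν i * η⁻¹ = 1 ↔ ν i = η := by
      rw [mul_inv_eq_one₀ hη0]
    simp only [this]
  simp only [Finset.mul_sum]
  rw [Finset.sum_comm]
  simp only [h1]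
  rw [Finset.sum_ite, Finset.sum_const, Finset.sum_const_zero, add_zero, nsmul_eq_mul, mul_comm]

/-- product of a family of roots of unity, grouped by value -/
theorem prod_eq_prod_pow_count {κ : Type*} [Fintype κ] (m : ℕ) (hm : 0 < m) (μ : κ → ℂ)
    (hμ : ∀ i, μ i ^ m = 1) :
    ∏ i, μ i = ∏ η ∈ Polynomial.nthRootsFinset m (1 : ℂ),
      η ^ (Finset.univ.filter (fun i => μ i = η)).card := by
  classical
  rw [← Finset.prod_fiberwise_of_maps_to (s := Finset.univ)
    (t := Polynomial.nthRootsFinset m (1 : ℂ)) (g := μ)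
    (fun i _ => (Polynomial.mem_nthRootsFinset hm 1).mpr (hμ i)) μ]
  apply Finset.prod_congr rfl
  intro η _
  rw [Finset.prod_congr rfl (g := fun _ => η), Finset.prod_const]
  intro i hi
  exact (Finset.mem_filter.mp hi).2

/-- Families of roots of unity with the same power sums have the same product. -/
theorem prod_eq_of_psum_eq {ι ι' : Type*} [Fintype ι] [Fintype ι'] (m : ℕ) (hm : 0 < m)
    (ν : ι → ℂ) (ν' : ι' → ℂ) (hν : ∀ i, ν i ^ m = 1) (hν' : ∀ i, ν' i ^ m = 1)
    (h : ∀ j : ℕ, ∑ i, ν i ^ j = ∑ i, ν' i ^ j) : ∏ i, ν i = ∏ i, ν' i := by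
  classical
  have hm0 : (m : ℂ) ≠ 0 := by exact_mod_cast hm.ne'
  have hcount : ∀ η : ℂ, η ^ m = 1 →
      (Finset.univ.filter (fun i => ν i = η)).card =
        (Finset.univ.filter (fun i => ν' i = η)).card := by
    intro η hη
    have h1 := count_eq_psum m hm ν hν η hη
    have h2 := count_eq_psum m hm ν' hν' η hη
    simp only [h] at h1
    rw [← h2] at h1
    have := mul_left_cancel₀ hm0 h1
    exact_mod_cast this
  rw [prod_eq_prod_pow_count m hm ν hν, prod_eq_prod_pow_count m hm ν' hν']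
  apply Finset.prod_congr rfl
  intro η hη
  rw [hcount η ((Polynomial.mem_nthRootsFinset hm 1).mp hη)]

/-- the determinant of an endomorphism with an eigenbasis -/
theorem det_eq_prod_eigen {V : Type*} [AddCommGroup V] [Module ℂ V] {ι : Type*} [Fintype ι]
    [DecidableEq ι] (A : Module.End ℂ V) (v : Basis ι ℂ V) (μ : ι → ℂ)
    (h : ∀ i, A (v i) = μ i • v i) : LinearMap.det A = ∏ i, μ i := by
  rw [← LinearMap.det_toMatrix v A]
  have : LinearMap.toMatrix v v A = Matrix.diagonal μ := by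
    ext i j
    rw [LinearMap.toMatrix_apply, h j, map_smul, Basis.repr_self, Finsupp.smul_apply,
      Finsupp.single_apply, Matrix.diagonal_apply]
    by_cases hij : i = j
    · subst hij; simp
    · rw [if_neg hij, if_neg (Ne.symm hij)]; simp
  rw [this, Matrix.det_diagonal]

variable {Γ : Type*} [Group Γ] [Finite Γ]

/-- If the character of `ρ'` is the `k`-th power twist of the character of `ρ`, the determinant of
`ρ'` is the `k`-th power of the determinant of `ρ`. -/
theorem det_twist {V V' : Type*} [AddCommGroup V] [Module ℂ V] [FiniteDimensional ℂ V]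
    [AddCommGroup V'] [Module ℂ V'] [FiniteDimensional ℂ V']
    (ρ : Representation ℂ Γ V) (ρ' : Representation ℂ Γ V') (k : ℕ)
    (h : ∀ x, ρ'.character x = ρ.character (x ^ k)) (x : Γ) :
    LinearMap.det (ρ' x) = LinearMap.det (ρ x) ^ k := by
  classical
  set m := Nat.card Γ with hmdef
  have hm : 0 < m := Nat.card_pos
  have hxm : x ^ m = 1 := pow_card_eq_one'
  have hA : (ρ x) ^ m = 1 := by rw [← map_pow, hxm, map_one]
  have hA' : (ρ' x) ^ m = 1 := by rw [← map_pow, hxm, map_one]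
  obtain ⟨v, μ, hv⟩ := exists_eigenbasis_of_pow_eq_one (ρ x) m hm hA
  obtain ⟨v', μ', hv'⟩ := exists_eigenbasis_of_pow_eq_one (ρ' x) m hm hA'
  have hμ : ∀ i, μ i ^ m = 1 := by
    intro i
    have h1 := pow_apply_eigenvector (ρ x) (v i) (μ i) (hv i) m
    rw [hA, Module.End.one_apply] at h1
    have h2 : (μ i ^ m - 1) • v i = 0 := by rw [sub_smul, one_smul, ← h1, sub_self]
    rcases smul_eq_zero.mp h2 with h3 | h3
    · exact sub_eq_zero.mp h3
    · exact absurd h3 (v.ne_zero i)
  have hμ' : ∀ i, μ' i ^ m = 1 := by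
    intro i
    have h1 := pow_apply_eigenvector (ρ' x) (v' i) (μ' i) (hv' i) m
    rw [hA', Module.End.one_apply] at h1
    have h2 : (μ' i ^ m - 1) • v' i = 0 := by rw [sub_smul, one_smul, ← h1, sub_self]
    rcases smul_eq_zero.mp h2 with h3 | h3
    · exact sub_eq_zero.mp h3
    · exact absurd h3 (v'.ne_zero i)
  have hps : ∀ j : ℕ, ∑ i, μ' i ^ j = ∑ i, (μ i ^ k) ^ j := by
    intro j
    have h1 := trace_pow_eigenbasis (ρ' x) v' μ' hv' j
    have h2 := trace_pow_eigenbasis (ρ x) v μ hv (k * j)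
    rw [← h1]
    simp only [← pow_mul]
    rw [← h2, ← map_pow, ← map_pow]
    have := h (x ^ j)
    unfold Representation.character at this
    rw [this, ← pow_mul, mul_comm]
  rw [det_eq_prod_eigen (ρ' x) v' μ' hv', det_eq_prod_eigen (ρ x) v μ hv, ← Finset.prod_pow]
  apply prod_eq_of_psum_eq m hm μ' (fun i => μ i ^ k) hμ'
  · intro i
    rw [← pow_mul, mul_comm, pow_mul, hμ i, one_pow]
  · exact hps

/-- The determinantal character of the `k`-th power twist of an irreducible character. -/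
theorem detChar_twist {χ χ' : Γ → ℂ} (hχ : IsIrrCharacter Γ χ) (hχ' : IsIrrCharacter Γ χ')
    (k : ℕ) (h : ∀ x, χ' x = χ (x ^ k)) : detChar χ' = detChar χ ^ k := by
  obtain ⟨n, ρ, hρ, hρχ⟩ := hχ
  obtain ⟨n', ρ', hρ', hρχ'⟩ := hχ'
  haveI := hρ
  haveI := hρ'
  funext x
  rw [Pi.pow_apply, ← hρχ, ← hρχ', detChar_eq_det ρ x, detChar_eq_det ρ' x]
  apply det_twist ρ ρ' k
  intro y
  rw [hρχ, hρχ', h]

/-- The determinantal order of a twist divides the determinantal order. -/
theorem detOrder_twist_dvd {χ χ' : Γ → ℂ} (hχ : IsIrrCharacter Γ χ) (hχ' : IsIrrCharacter Γ χ')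
    (k : ℕ) (h : ∀ x, χ' x = χ (x ^ k)) : detOrder χ' ∣ detOrder χ := by
  unfold detOrder
  rw [detChar_twist hχ hχ' k h]
  exact orderOf_pow_dvd k

end Cfsg.Agent.Helper79.Glaub
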