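import Cfsg.Agent.Lib.Helper79.Glaub.ProdDecomp
import Cfsg.Agent.Lib.Helper79.Glaub.Cyclo
import Cfsg.Agent.Lib.Helper79.Glaub.Twist

set_option autoImplicit false
set_option linter.unusedSectionVars false
set_option linter.style.haveILetI false

namespace Cfsg.Agent.Helper79.Glaub

open Cfsg Cfsg.Agent.Helper81
open scoped ComplexConjugate

universe u v

/-- integers whose squares add up to one -/
theorem sum_sq_eq_one {ι : Type*} [Fintype ι] [DecidableEq ι] (w : ι → ℤ)
    (h : ∑ i, w i ^ 2 = 1) : ∃ i, (w i = 1 ∨ w i = -1) ∧ ∀ j, j ≠ i → w j = 0 := by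
  have hex : ∃ i, w i ≠ 0 := by
    by_contra hcon
    push Not at hcon
    simp only [hcon] at h
    simp at h
  obtain ⟨i, hi⟩ := hex
  have hsplit : w i ^ 2 + ∑ j ∈ Finset.univ.erase i, w j ^ 2 = ∑ j, w j ^ 2 :=
    Finset.add_sum_erase Finset.univ (fun j => w j ^ 2) (Finset.mem_univ i)
  rw [h] at hsplit
  have hnn : 0 ≤ ∑ j ∈ Finset.univ.erase i, w j ^ 2 :=
    Finset.sum_nonneg (fun j _ => sq_nonneg (w j))
  have hi1 : 1 ≤ w i ^ 2 := by
    have : 0 < w i ^ 2 := by positivity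
    omega
  have hi2 : w i ^ 2 = 1 := by omega
  have hrest : ∑ j ∈ Finset.univ.erase i, w j ^ 2 = 0 := by omega
  refine ⟨i, ?_, ?_⟩
  · have : (w i - 1) * (w i + 1) = 0 := by ring_nf; omega
    rcases mul_eq_zero.mp this with h1 | h1
    · left; omega
    · right; omega
  · intro j hj
    have := (Finset.sum_eq_zero_iff_of_nonneg (fun j _ => sq_nonneg (w j))).mp hrest j
      (Finset.mem_erase.mpr ⟨hj, Finset.mem_univ _⟩)
    exact pow_eq_zero_iff (two_ne_zero) |>.mp this

section Forward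

variable {Γ : Type u} [Group Γ] [Fintype Γ] {A : Type v} [CommGroup A] [Finite A] (π : Γ →* A)
  (G : Subgroup Γ) [Fintype G] (hπ : Function.Surjective π) (hker : ∀ x : Γ, π x = 1 ↔ x ∈ G)
  (s₀ : Γ) [Fintype (fixC G s₀)] (hs₀ : orderOf s₀ = Nat.card A)
  (hcop : (Nat.card G).Coprime (Nat.card A))

include hπ hker hs₀ hcop

/-- (T') the canonical extension takes the same values on `c s₀ ^ k` for all `k` prime to the
order of `s₀` -/
theorem twist_coset {χh : Γ → ℂ} (hχh : IsIrrCharacter Γ χh)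
    (hres : IsIrrCharacter G (fun g : G => χh g))
    (hdet : (detOrder χh).Coprime (Nat.card A)) (k : ℕ) (hk : k.Coprime (Nat.card A))
    (c : Γ) (hc : c ∈ fixC G s₀) : χh (c * s₀ ^ k) = χh (c * s₀) := by
  have hG := normal_of_hker π G hker
  have hidx := index_eq_card π G hπ hker
  obtain ⟨k', hk'n, hk'G⟩ := Nat.chineseRemainder hcop.symm k 1
  have hk'cop : k'.Coprime (Nat.card A) := by
    have := hk'n.gcd_eq
    rw [Nat.Coprime, this]
    exact hk
  have hcG : c ∈ G := fixC_le G s₀ hc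
  have hcomm : Commute c s₀ := by
    have h1 : c ∈ Subgroup.centralizer {s₀} := (Subgroup.mem_inf.mp hc).2
    exact Subgroup.mem_centralizer_singleton_iff.mp h1
  have h1 : c ^ k' = c := by
    have h2 : c ^ k' = c ^ 1 := by
      rw [pow_eq_pow_iff_modEq]
      exact hk'G.of_dvd (G.orderOf_dvd_natCard hcG)
    rwa [pow_one] at h2
  have h2 : s₀ ^ k' = s₀ ^ k := by
    rw [pow_eq_pow_iff_modEq, hs₀]
    exact hk'n
  have h3 : (c * s₀) ^ k' = c * s₀ ^ k := by
    rw [hcomm.mul_pow, h1, h2]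
  rw [← h3]
  exact canonical_twist_invariant G hG (by rw [hidx]; exact hcop) hres hχh (fun _ => rfl)
    (by rw [hidx]; exact hdet) k' hk'G (by rw [hidx]; exact hk'cop) (c * s₀)

/-- the multiplicity of an irreducible character of `C` in `c ↦ χ̂ (c s₀)` is an integer -/
theorem inner_int {χh : Γ → ℂ} (hχh : IsIrrCharacter Γ χh)
    (hres : IsIrrCharacter G (fun g : G => χh g))
    (hdet : (detOrder χh).Coprime (Nat.card A)) {β : fixC G s₀ → ℂ}
    (hβ : IsIrrCharacter (fixC G s₀) β) :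
    ∃ w : ℤ, classInner (fun c : fixC G s₀ => χh (c * s₀)) β = w := by
  obtain ⟨m, hm⟩ := exists_nat_coeff π G hker s₀ hs₀ hcop (IsIrrCharacter.isCharacter hχh) hβ
  have h1 := hm 1
  simp only [pow_one] at h1
  rw [h1]
  apply int_of_galois_stable (Nat.card A) Nat.card_pos (fun ψ => linChar π ψ s₀) m
  · intro ψ
    rw [← linChar_pow, ← hs₀, pow_orderOf_eq_one, linChar_one]
  · intro k hk
    rw [← hm k, ← h1]
    congr 1
    funext c
    exact twist_coset π G hπ hker s₀ hs₀ hcop hχh hres hdet k hk c c.2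

/-- `c ↦ ξ (c s₀)` is a class function on `C` -/
theorem isClassFunction_shift {ξ : Γ → ℂ} (hξ : IsCharacter Γ ξ) :
    IsClassFunction (fixC G s₀) (fun c : fixC G s₀ => ξ (c * s₀)) := by
  intro g h
  have hcl := isClassFunction_of_isCharacter hξ
  have hcomm : Commute (h : Γ) s₀ := by
    have h1 : (h : Γ) ∈ Subgroup.centralizer {s₀} := (Subgroup.mem_inf.mp h.2).2
    exact Subgroup.mem_centralizer_singleton_iff.mp h1
  show ξ (((h * g * h⁻¹ : fixC G s₀) : Γ) * s₀) = ξ ((g : Γ) * s₀)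
  rw [← hcl ((g : Γ) * s₀) (h : Γ)]
  congr 1
  simp only [Subgroup.coe_mul, Subgroup.coe_inv]
  have : (h : Γ)⁻¹ * s₀ = s₀ * (h : Γ)⁻¹ := (hcomm.inv_left).eq
  calc (h : Γ) * g * (h : Γ)⁻¹ * s₀ = (h : Γ) * g * ((h : Γ)⁻¹ * s₀) := by group
    _ = (h : Γ) * g * (s₀ * (h : Γ)⁻¹) := by rw [this]
    _ = (h : Γ) * (g * s₀) * (h : Γ)⁻¹ := by group

/-- The values of a canonical extension on `C s₀` are, up to a sign, those of an irreducible
character of `C`. -/
theorem exists_beta {χh : Γ → ℂ} (hχh : IsIrrCharacter Γ χh)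
    (hres : IsIrrCharacter G (fun g : G => χh g))
    (hdet : (detOrder χh).Coprime (Nat.card A)) :
    ∃ (β : IrrCharacter (fixC G s₀)) (ε : ℤ), (ε = 1 ∨ ε = -1) ∧
      ∀ c : fixC G s₀, χh (c * s₀) = (ε : ℂ) * (β : fixC G s₀ → ℂ) c := by
  classical
  set ψ : fixC G s₀ → ℂ := fun c => χh (c * s₀) with hψ
  have hC0 : (Nat.card (fixC G s₀) : ℂ) ≠ 0 := by
    exact_mod_cast (Nat.card_pos (α := fixC G s₀)).ne'
  have hw : ∀ β : IrrCharacter (fixC G s₀), ∃ w : ℤ, classInner ψ (β : fixC G s₀ → ℂ) = w :=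
    fun β => inner_int π G hπ hker s₀ hs₀ hcop hχh hres hdet β.2
  choose w hw using hw
  have hexp : ψ = ∑ β : IrrCharacter (fixC G s₀), (w β : ℂ) • (β : fixC G s₀ → ℂ) := by
    have := class_function_expansion
      (isClassFunction_shift π G hπ hker s₀ hs₀ hcop (IsIrrCharacter.isCharacter hχh))
    rw [← hψ] at this
    simp only [hw] at this
    exact this
  have hnorm : classInner ψ ψ = 1 := by
    unfold classInner
    rw [row_self π G hπ hker s₀ hs₀ hcop hχh hres]
    field_simp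
  have hsum : ∑ β : IrrCharacter (fixC G s₀), (w β) ^ 2 = 1 := by
    have h1 : classInner ψ ψ =
        classInner (∑ β : IrrCharacter (fixC G s₀), (w β : ℂ) • (β : fixC G s₀ → ℂ)) ψ := by
      rw [← hexp]
    rw [classInner_sum_left] at h1
    simp only [classInner_smul_left] at h1
    have h2 : ∀ β : IrrCharacter (fixC G s₀), classInner (β : fixC G s₀ → ℂ) ψ = (w β : ℂ) := by
      intro β
      rw [classInner_conj_symm, hw]
      simp
    simp only [h2] at h1
    rw [hnorm] at h1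
    have h3 : ((∑ β : IrrCharacter (fixC G s₀), (w β) ^ 2 : ℤ) : ℂ) = ((1 : ℤ) : ℂ) := by
      push_cast
      rw [h1]
      apply Finset.sum_congr rfl
      intro β _
      ring
    exact_mod_cast h3
  obtain ⟨β₀, hβ₀, hrest⟩ := sum_sq_eq_one w hsum
  refine ⟨β₀, w β₀, hβ₀, ?_⟩
  intro c
  have h1 := congrFun hexp c
  rw [Finset.sum_apply, Finset.sum_eq_single β₀] at h1
  · simpa using h1
  · intro β _ hne
    rw [hrest β hne]
    simp
  · intro h; exact absurd (Finset.mem_univ _) h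

omit hπ in
/-- a constituent of `c ↦ ξ (c s₀)` is a constituent of the restriction of `ξ` to `C` -/
theorem constituent_of_inner_ne {ξ : Γ → ℂ} (hξ : IsCharacter Γ ξ) {β : fixC G s₀ → ℂ}
    (hβ : IsIrrCharacter (fixC G s₀) β)
    (h : classInner (fun c : fixC G s₀ => ξ (c * s₀)) β ≠ 0) :
    classInner (fun c : fixC G s₀ => ξ c) β ≠ 0 := by
  obtain ⟨m, hm⟩ := exists_nat_coeff π G hker s₀ hs₀ hcop hξ hβ
  have h1 := hm 1
  have h0 := hm 0
  simp only [pow_one] at h1
  simp only [pow_zero, mul_one] at h0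
  rw [h0]
  intro hzero
  apply h
  rw [h1]
  have h2 : ∑ ψ : AddChar (Additive A) ℂ, m ψ = 0 := by exact_mod_cast hzero
  apply Finset.sum_eq_zero
  intro ψ _
  have := (Finset.sum_eq_zero_iff.mp h2) ψ (Finset.mem_univ _)
  rw [this]
  simp

/-- distinct invariant characters have distinct correspondents -/
theorem restrict_eq_of_same_beta {χh χh' : Γ → ℂ} (hχh : IsIrrCharacter Γ χh)
    (hχh' : IsIrrCharacter Γ χh') {β : fixC G s₀ → ℂ} (hβ : IsIrrCharacter (fixC G s₀) β)
    (ε ε' : ℂ) (hε : ε ≠ 0) (hε' : ε' ≠ 0)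
    (h : ∀ c : fixC G s₀, χh (c * s₀) = ε * β c)
    (h' : ∀ c : fixC G s₀, χh' (c * s₀) = ε' * β c) :
    (fun g : G => χh g) = (fun g : G => χh' g) := by
  by_contra hne
  have h1 := row_ne π G hπ hker s₀ hs₀ hcop hχh hχh' hne
  simp only [h, h'] at h1
  have hC0 : (Nat.card (fixC G s₀) : ℂ) ≠ 0 := by
    exact_mod_cast (Nat.card_pos (α := fixC G s₀)).ne'
  have h2 : classInner β β = 1 := by
    rw [Cfsg.Agent.Helper81.irr_orthonormal hβ hβ, if_pos rfl]
  unfold classInner at h2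
  have h3 : ∑ c : fixC G s₀, ε * β c * conj (ε' * β c) =
      ε * conj ε' * ∑ c : fixC G s₀, β c * conj (β c) := by
    rw [Finset.mul_sum]
    apply Finset.sum_congr rfl
    intro c _
    rw [map_mul]
    ring
  rw [h3] at h1
  have h4 : ∑ c : fixC G s₀, β c * conj (β c) ≠ 0 := by
    intro h0
    rw [h0, mul_zero] at h2
    exact zero_ne_one h2
  rcases mul_eq_zero.mp h1 with h5 | h5
  · rcases mul_eq_zero.mp h5 with h6 | h6
    · exact hε h6
    · exact hε' ((map_eq_zero _).mp h6)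
  · exact h4 h5

end Forward

end Cfsg.Agent.Helper79.Glaub
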