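import Cfsg.Agent.Lib.Helper79.Glaub.Compat
import Cfsg.Agent.Lib.Helper79.Glaub.SolvCorr

set_option autoImplicit false
set_option linter.unusedSectionVars false
set_option linter.style.haveILetI false

namespace Cfsg.Agent.Helper79.Glaub

open Cfsg Cfsg.Agent.Helper81
open scoped ComplexConjugate

universe u

section PairCorr

variable {Γ : Type u} [Group Γ] [Fintype Γ]

/-- compatibility of a pair of correspondences with restriction to a normal subgroup -/
def Compat {G N CG CN : Subgroup Γ} [Fintype N] [Fintype CN] (S : Subgroup Γ) (hNG : N ≤ G)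
    (hCNG : CN ≤ CG) (RG : IrrCharacter G → IrrCharacter CG → Prop)
    (RN : IrrCharacter N → IrrCharacter CN → Prop) : Prop :=
  ∀ (χ : IrrCharacter G) (θ : IrrCharacter N) (β : IrrCharacter CG) (φ : IrrCharacter CN),
    (∀ x ∈ S, InvAt G (χ : G → ℂ) x) → (∀ x ∈ S, InvAt N (θ : N → ℂ) x) → RG χ β → RN θ φ →
    (classInner (fun n : N => (χ : G → ℂ) (Subgroup.inclusion hNG n)) (θ : N → ℂ) ≠ 0 ↔
      classInner (fun c : CN => (β : CG → ℂ) (Subgroup.inclusion hCNG c)) (φ : CN → ℂ) ≠ 0)

omit [Fintype Γ] in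
theorem inf_centralizer_sup (G T P : Subgroup Γ) :
    G ⊓ Subgroup.centralizer ((T ⊔ P : Subgroup Γ) : Set Γ) =
      (G ⊓ Subgroup.centralizer (T : Set Γ)) ⊓ Subgroup.centralizer (P : Set Γ) := by
  rw [inf_assoc]
  congr 1
  apply le_antisymm
  · apply le_inf
    · exact Subgroup.centralizer_le (le_sup_left : T ≤ T ⊔ P)
    · exact Subgroup.centralizer_le (le_sup_right : P ≤ T ⊔ P)
  · intro c hc
    rw [Subgroup.mem_inf] at hc
    have h3 : c ∈ Subgroup.centralizer ((T : Set Γ) ∪ (P : Set Γ)) := by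
      rw [Subgroup.mem_centralizer_iff]
      intro x hx
      rcases hx with hx | hx
      · exact (Subgroup.mem_centralizer_iff.mp hc.1) x hx
      · exact (Subgroup.mem_centralizer_iff.mp hc.2) x hx
    rw [← Subgroup.centralizer_closure, ← Subgroup.sup_eq_closure] at h3
    exact h3

omit [Fintype Γ] in
theorem conj_mem_inf_centralizer (G N T : Subgroup Γ)
    (hGN : ∀ g ∈ G, ∀ m ∈ N, g * m * g⁻¹ ∈ N) :
    ∀ g ∈ G ⊓ Subgroup.centralizer (T : Set Γ), ∀ m ∈ N ⊓ Subgroup.centralizer (T : Set Γ),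
      g * m * g⁻¹ ∈ N ⊓ Subgroup.centralizer (T : Set Γ) := by
  intro g hg m hm
  rw [Subgroup.mem_inf] at hg hm ⊢
  exact ⟨hGN g hg.1 m hm.1, Subgroup.mul_mem _ (Subgroup.mul_mem _ hg.2 hm.2)
    (Subgroup.inv_mem _ hg.2)⟩

/-- the correspondent of a character invariant under a further element is invariant -/
theorem corr_inv_of_inv {G T B : Subgroup Γ} (y : Γ) (hGy : NormAt G y) (hBy : NormAt B y)
    (R₁ : IrrCharacter G → IrrCharacter B → Prop)
    (h1 : IsCorr (fun χ : IrrCharacter G => ∀ t ∈ T, InvAt G (χ : G → ℂ) t) R₁)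
    (he : EquivAt R₁ y) (χ : IrrCharacter G) (hχT : ∀ t ∈ T, InvAt G (χ : G → ℂ) t)
    (hχy : InvAt G (χ : G → ℂ) y) (β' : IrrCharacter B) (hR : R₁ χ β') :
    InvAt B (β' : B → ℂ) y := by
  rw [invAt_iff_irrComp y hBy]
  have h3 := he hGy hBy χ β' hR
  rw [(invAt_iff_irrComp y hGy χ).mp hχy] at h3
  obtain ⟨β₀, _, huniq⟩ := h1.1 χ hχT
  rw [huniq _ h3, huniq _ hR]

/-- The Glauberman correspondences of `G` and of an invariant normal subgroup `N`, for a solvable
group of operators, chosen compatibly (Isaacs, Theorem 13.29). -/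
theorem exists_corr_pair : ∀ (n : ℕ) (G N S : Subgroup Γ) [Fintype G] [Fintype N],
    Nat.card S = n → (∀ s ∈ S, NormAt G s) → (∀ s ∈ S, NormAt N s) →
    ∀ (hNG : N ≤ G), (∀ g ∈ G, ∀ m ∈ N, g * m * g⁻¹ ∈ N) →
    (Nat.card G).Coprime (Nat.card S) → Group.IsSolvable S →
    ∀ (CG CN : Subgroup Γ) [Fintype CN], CG = G ⊓ Subgroup.centralizer (S : Set Γ) →
    CN = N ⊓ Subgroup.centralizer (S : Set Γ) → ∀ (hCNG : CN ≤ CG),
    ∃ (RG : IrrCharacter G → IrrCharacter CG → Prop)
      (RN : IrrCharacter N → IrrCharacter CN → Prop),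
      IsCorr (fun χ : IrrCharacter G => ∀ x ∈ S, InvAt G (χ : G → ℂ) x) RG ∧
      IsCorr (fun θ : IrrCharacter N => ∀ x ∈ S, InvAt N (θ : N → ℂ) x) RN ∧
      (∀ x : Γ, NormAt S x → EquivAt RG x) ∧ (∀ x : Γ, NormAt S x → EquivAt RN x) ∧
      Compat S hNG hCNG RG RN := by
  classical
  intro n
  induction n using Nat.strong_induction_on with
  | _ n ih =>
    intro G N S _ _ hn hSG hSN hNG hGN hcop hS CG CN _ hCG hCN hCNG
    haveI : Fintype CG := Fintype.ofFinite _
    have hCGG : CG ≤ G := by rw [hCG]; exact inf_le_left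
    have hCNN : CN ≤ N := by rw [hCN]; exact inf_le_left
    have hcopN : (Nat.card N).Coprime (Nat.card S) :=
      Nat.Coprime.coprime_dvd_left (Subgroup.card_dvd_of_le hNG) hcop
    by_cases hbot : S = ⊥
    · obtain ⟨p, hpge, hp⟩ := Nat.exists_infinite_primes (Nat.card G + 1)
      have hpG : ¬ p ∣ Nat.card G := by
        intro h
        have := Nat.le_of_dvd Nat.card_pos h
        omega
      have hSp : IsPGroup p S := by
        rw [hbot]
        exact IsPGroup.of_bot
      have hpkgG := pkg_pgroup p hp (Nat.card S) G S rfl hSG hcop hSp CG hCG hCGG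
      have hpkgN := pkg_pgroup p hp (Nat.card S) N S rfl hSN hcopN hSp CN hCN hCNN
      refine ⟨pRel p hCGG, pRel p hCNN, pRel_isCorr p hCGG _ hpkgG, pRel_isCorr p hCNN _ hpkgN,
        fun x _ => pRel_equivAt p hCGG x, fun x _ => pRel_equivAt p hCNN x, ?_⟩
      intro χ θ β φ hχ hθ hR hR'
      refine pRel_compat p hp G N S CG CN hNG hCGG hCNN hCNG hGN ?_ hSN hSp hpG ?_ hpkgG hpkgN
        χ hχ θ hθ β φ hR hR'
      · rw [hCG, hCN]
        exact conj_mem_inf_centralizer G N S hGN
      · intro x hx c hc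
        rw [hCN, Subgroup.mem_inf] at hc
        have := (Subgroup.mem_centralizer_iff.mp hc.2) x hx
        rw [this, mul_inv_cancel_right]
    · obtain ⟨p, T, P, hp, hTS, hPS, hTlt, hPp, hSeq, hTchar⟩ := exists_residual_decomp S hS hbot
      have hSnorm : ∀ y ∈ S, NormAt S y := fun y hy => normAt_of_mem S hy
      have hcopT : (Nat.card G).Coprime (Nat.card T) :=
        Nat.Coprime.coprime_dvd_right (Subgroup.card_dvd_of_le hTS) hcop
      have hTsolv : Group.IsSolvable T := by
        haveI := hS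
        exact Group.isSolvable_of_isSolvable_injective (f := Subgroup.inclusion hTS)
          (Subgroup.inclusion_injective hTS)
      -- `p` does not divide the order of `G`
      have hpG : ¬ p ∣ Nat.card G := by
        have hPne : P ≠ ⊥ := by
          intro hP
          rw [hP, sup_bot_eq] at hSeq
          rw [hSeq] at hTlt
          exact lt_irrefl _ hTlt
        haveI : Fact p.Prime := ⟨hp⟩
        obtain ⟨k, hk⟩ := IsPGroup.iff_card.mp hPp
        have hk0 : k ≠ 0 := by
          rintro rfl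
          rw [pow_zero] at hk
          exact hPne (Subgroup.card_eq_one.mp hk)
        have hpP : p ∣ Nat.card P := by
          rw [hk]
          exact dvd_pow_self p hk0
        have hpS : p ∣ Nat.card S := hpP.trans (Subgroup.card_dvd_of_le hPS)
        intro hpG
        have := Nat.Coprime.eq_one_of_dvd hcop
        have h1 : p ∣ Nat.gcd (Nat.card G) (Nat.card S) := Nat.dvd_gcd hpG hpS
        rw [hcop] at h1
        exact hp.one_lt.ne' (Nat.dvd_one.mp h1)
      set BG : Subgroup Γ := G ⊓ Subgroup.centralizer (T : Set Γ) with hBG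
      set BN : Subgroup Γ := N ⊓ Subgroup.centralizer (T : Set Γ) with hBN
      haveI : Fintype BG := Fintype.ofFinite _
      haveI : Fintype BN := Fintype.ofFinite _
      have hBNG : BN ≤ BG := inf_le_inf_right _ hNG
      obtain ⟨R₁G, R₁N, hR₁G, hR₁N, he1G, he1N, hcompat1⟩ :=
        ih (Nat.card T) (by rw [← hn]; exact hTlt) G N T rfl
        (fun t ht => hSG t (hTS ht)) (fun t ht => hSN t (hTS ht)) hNG hGN hcopT hTsolv BG BN
        hBG hBN hBNG
      have hPT : ∀ y ∈ P, NormAt T y := fun y hy => hTchar y (hSnorm y (hPS hy))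
      have hPBG : ∀ y ∈ P, NormAt BG y := fun y hy =>
        normAt_inf_centralizer G T y (hSG y (hPS hy)) (hPT y hy)
      have hPBN : ∀ y ∈ P, NormAt BN y := fun y hy =>
        normAt_inf_centralizer N T y (hSN y (hPS hy)) (hPT y hy)
      have hcopBG : (Nat.card BG).Coprime (Nat.card P) :=
        Nat.Coprime.coprime_dvd_left (Subgroup.card_dvd_of_le (inf_le_left : BG ≤ G))
          (Nat.Coprime.coprime_dvd_right (Subgroup.card_dvd_of_le hPS) hcop)
      have hcopBN : (Nat.card BN).Coprime (Nat.card P) :=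
        Nat.Coprime.coprime_dvd_left (Subgroup.card_dvd_of_le (inf_le_left : BN ≤ N))
          (Nat.Coprime.coprime_dvd_right (Subgroup.card_dvd_of_le hPS) hcopN)
      have hCG' : CG = BG ⊓ Subgroup.centralizer (P : Set Γ) := by
        rw [hCG, hBG, hSeq, inf_centralizer_sup]
      have hCN' : CN = BN ⊓ Subgroup.centralizer (P : Set Γ) := by
        rw [hCN, hBN, hSeq, inf_centralizer_sup]
      have hCBG : CG ≤ BG := by rw [hCG']; exact inf_le_left
      have hCBN : CN ≤ BN := by rw [hCN']; exact inf_le_left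
      have hpkgG := pkg_pgroup p hp (Nat.card P) BG P rfl hPBG hcopBG hPp CG hCG' hCBG
      have hpkgN := pkg_pgroup p hp (Nat.card P) BN P rfl hPBN hcopBN hPp CN hCN' hCBN
      have hR₂G := pRel_isCorr p hCBG _ hpkgG
      have hR₂N := pRel_isCorr p hCBN _ hpkgN
      have hcompG := isCorr_comp G T P S BG CG hBG (fun t ht => hSG t (hTS ht))
        (fun y hy => hSG y (hPS hy)) hPT hSeq R₁G (pRel p hCBG) hR₁G he1G hR₂G
      have hcompN := isCorr_comp N T P S BN CN hBN (fun t ht => hSN t (hTS ht))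
        (fun y hy => hSN y (hPS hy)) hPT hSeq R₁N (pRel p hCBN) hR₁N he1N hR₂N
      refine ⟨_, _, hcompG, hcompN, ?_, ?_, ?_⟩
      · intro x hSx hG hCx χ β hR
        obtain ⟨β', hR1, hR2⟩ := hR
        have hTx : NormAt T x := hTchar x hSx
        have hBx : NormAt BG x := normAt_inf_centralizer G T x hG hTx
        exact ⟨irrComp (conjEquiv BG x hBx) β', he1G x hTx hG hBx χ β' hR1,
          pRel_equivAt p hCBG x hBx hCx β' β hR2⟩
      · intro x hSx hG hCx χ β hR
        obtain ⟨β', hR1, hR2⟩ := hR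
        have hTx : NormAt T x := hTchar x hSx
        have hBx : NormAt BN x := normAt_inf_centralizer N T x hG hTx
        exact ⟨irrComp (conjEquiv BN x hBx) β', he1N x hTx hG hBx χ β' hR1,
          pRel_equivAt p hCBN x hBx hCx β' β hR2⟩
      · intro χ θ β φ hχ hθ hR hR'
        obtain ⟨β', hR1, hR2⟩ := hR
        obtain ⟨φ', hR1', hR2'⟩ := hR'
        have hχT : ∀ t ∈ T, InvAt G (χ : G → ℂ) t := fun t ht => hχ t (hTS ht)
        have hθT : ∀ t ∈ T, InvAt N (θ : N → ℂ) t := fun t ht => hθ t (hTS ht)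
        have hβ'P : ∀ y ∈ P, InvAt BG (β' : BG → ℂ) y := fun y hy =>
          corr_inv_of_inv y (hSG y (hPS hy)) (hPBG y hy) R₁G hR₁G (he1G y (hPT y hy)) χ hχT
            (hχ y (hPS hy)) β' hR1
        have hφ'P : ∀ y ∈ P, InvAt BN (φ' : BN → ℂ) y := fun y hy =>
          corr_inv_of_inv y (hSN y (hPS hy)) (hPBN y hy) R₁N hR₁N (he1N y (hPT y hy)) θ hθT
            (hθ y (hPS hy)) φ' hR1'
        rw [hcompat1 χ θ β' φ' hχT hθT hR1 hR1']
        have hpBG : ¬ p ∣ Nat.card BG := fun h =>
          hpG (h.trans (Subgroup.card_dvd_of_le (inf_le_left : BG ≤ G)))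
        refine pRel_compat p hp BG BN P CG CN hBNG hCBG hCBN hCNG
          (conj_mem_inf_centralizer G N T hGN) ?_ hPBN hPp hpBG ?_ hpkgG hpkgN
          β' hβ'P φ' hφ'P β φ hR2 hR2'
        · rw [hCG, hCN]
          exact conj_mem_inf_centralizer G N S hGN
        · intro x hx c hc
          rw [hCN, Subgroup.mem_inf] at hc
          have := (Subgroup.mem_centralizer_iff.mp hc.2) x (hPS hx)
          rw [this, mul_inv_cancel_right]

end PairCorr

end Cfsg.Agent.Helper79.Glaub
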