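import Cfsg.Agent.Lib.Helper79.Glaub.Rows

set_option autoImplicit false
set_option linter.unusedSectionVars false
set_option linter.style.haveILetI false

namespace Cfsg.Agent.Helper79.Glaub

open Cfsg Cfsg.Agent.Helper81
open scoped ComplexConjugate

universe u v

section ProdHom

variable {Γ : Type u} [Group Γ] (G : Subgroup Γ) (s₀ : Γ)

theorem commute_fixC_zpowers (c : fixC G s₀) (t : Subgroup.zpowers s₀) :
    Commute (c : Γ) (t : Γ) := by
  obtain ⟨i, hi⟩ := Subgroup.mem_zpowers_iff.mp t.2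
  rw [← hi]
  have h1 : (c : Γ) ∈ Subgroup.centralizer {s₀} := (Subgroup.mem_inf.mp c.2).2
  exact Commute.zpow_right (Subgroup.mem_centralizer_singleton_iff.mp h1) i

/-- the multiplication map `C × ⟨s₀⟩ → Γ` -/
noncomputable def prodHom : fixC G s₀ × Subgroup.zpowers s₀ →* Γ :=
  MonoidHom.noncommCoprod (fixC G s₀).subtype (Subgroup.zpowers s₀).subtype
    (commute_fixC_zpowers G s₀)

theorem prodHom_apply (p : fixC G s₀ × Subgroup.zpowers s₀) :
    prodHom G s₀ p = (p.1 : Γ) * (p.2 : Γ) := rfl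

end ProdHom

section Surj

/-- composition of an irreducible character with a surjective homomorphism -/
theorem isIrrCharacter_comp_surj {K : Type u} {K' : Type v} [Group K] [Group K']
    (e : K' →* K) (he : Function.Surjective e) {θ : K → ℂ} (hθ : IsIrrCharacter K θ) :
    IsIrrCharacter K' (fun x => θ (e x)) := by
  obtain ⟨k, ρ, hρ, rfl⟩ := hθ
  have := isIrreducible_comp_of_surjective ρ e he
  exact ⟨k, ρ.comp e, this, rfl⟩

end Surj

section LinPow

variable {Γ : Type u} [Group Γ] {A : Type v} [CommGroup A] [Finite A] (π : Γ →* A)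

theorem linChar_pow (ψ : AddChar (Additive A) ℂ) (x : Γ) (k : ℕ) :
    linChar π ψ (x ^ k) = linChar π ψ x ^ k := by
  induction k with
  | zero => rw [pow_zero, pow_zero, linChar_one]
  | succ k ih => rw [pow_succ, pow_succ, linChar_mul, ih]

end LinPow

section Decomp

variable {Γ : Type u} [Group Γ] [Fintype Γ] {A : Type v} [CommGroup A] [Finite A] (π : Γ →* A)
  (G : Subgroup Γ) [Fintype G] (hπ : Function.Surjective π) (hker : ∀ x : Γ, π x = 1 ↔ x ∈ G)
  (s₀ : Γ) [Fintype (fixC G s₀)] (hs₀ : orderOf s₀ = Nat.card A)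
  (hcop : (Nat.card G).Coprime (Nat.card A))

include hker hs₀ hcop in
/-- `π` is injective on the cyclic group generated by `s₀` -/
theorem eq_of_pi_eq {t t' : Γ} (ht : t ∈ Subgroup.zpowers s₀) (ht' : t' ∈ Subgroup.zpowers s₀)
    (h : π t = π t') : t = t' := by
  have h1 : t * t'⁻¹ ∈ G := by
    rw [← hker, map_mul, map_inv, h, mul_inv_cancel]
  have h2 : t * t'⁻¹ ∈ Subgroup.zpowers s₀ :=
    (Subgroup.zpowers s₀).mul_mem ht ((Subgroup.zpowers s₀).inv_mem ht')
  haveI := normal_of_hker π G hker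
  have := eq_one_of_mem_zpowers G s₀ (by rw [hs₀]; exact hcop) h2 h1
  exact mul_inv_eq_one.mp this

include hker hs₀ hcop in
/-- the Fourier inversion formula on `C × ⟨s₀⟩` -/
theorem sum_classInner_prod [Fintype (Subgroup.zpowers s₀)] (ξ : Γ → ℂ) (β : fixC G s₀ → ℂ)
    (k : ℕ) :
    ∑ ψ : AddChar (Additive A) ℂ,
      classInner (fun p : fixC G s₀ × Subgroup.zpowers s₀ => ξ (prodHom G s₀ p))
        (linChar (π.comp (prodHom G s₀)) ψ * fun p => β p.1) * linChar π ψ s₀ ^ k =
    classInner (fun c : fixC G s₀ => ξ (c * s₀ ^ k)) β := by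
  classical
  haveI := normal_of_hker π G hker
  have hA0 : (Nat.card A : ℂ) ≠ 0 := by exact_mod_cast (Nat.card_pos (α := A)).ne'
  have hC0 : (Nat.card (fixC G s₀) : ℂ) ≠ 0 := by
    exact_mod_cast (Nat.card_pos (α := fixC G s₀)).ne'
  have hcardP : (Nat.card (fixC G s₀ × Subgroup.zpowers s₀) : ℂ) =
      (Nat.card (fixC G s₀) : ℂ) * (Nat.card A : ℂ) := by
    rw [Nat.card_prod, Nat.card_zpowers, hs₀]
    push_cast
    rfl
  unfold classInner
  rw [hcardP]
  -- swap the sums
  have h1 : ∀ ψ : AddChar (Additive A) ℂ,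
      ((Nat.card (fixC G s₀) : ℂ) * (Nat.card A : ℂ))⁻¹ *
        (∑ p : fixC G s₀ × Subgroup.zpowers s₀, ξ (prodHom G s₀ p) *
          conj ((linChar (π.comp (prodHom G s₀)) ψ *
            fun p : fixC G s₀ × Subgroup.zpowers s₀ => β p.1) p)) * linChar π ψ s₀ ^ k =
      ((Nat.card (fixC G s₀) : ℂ) * (Nat.card A : ℂ))⁻¹ *
        ∑ p : fixC G s₀ × Subgroup.zpowers s₀, ξ (prodHom G s₀ p) * conj (β p.1) *
          (linChar π ψ (s₀ ^ k) * conj (linChar π ψ (prodHom G s₀ p))) := by
    intro ψ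
    rw [mul_assoc, Finset.sum_mul]
    congr 1
    apply Finset.sum_congr rfl
    intro p _
    rw [linChar_pow]
    simp only [Pi.mul_apply, map_mul]
    have : linChar (π.comp (prodHom G s₀)) ψ p = linChar π ψ (prodHom G s₀ p) := rfl
    rw [this]
    ring
  simp only [h1]
  rw [← Finset.mul_sum, Finset.sum_comm]
  simp only [← Finset.mul_sum, sum_linChar_mul_conj π]
  rw [Fintype.sum_prod_type]
  have h2 : ∀ c : fixC G s₀, ∑ t : Subgroup.zpowers s₀,
      ξ (prodHom G s₀ (c, t)) * conj (β (c, t).1) *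
        (if π (s₀ ^ k) = π (prodHom G s₀ (c, t)) then (Nat.card A : ℂ) else 0) =
      ξ (c * s₀ ^ k) * conj (β c) * (Nat.card A : ℂ) := by
    intro c
    have hmem : s₀ ^ k ∈ Subgroup.zpowers s₀ := Subgroup.pow_mem _ (Subgroup.mem_zpowers s₀) k
    rw [Finset.sum_eq_single (⟨s₀ ^ k, hmem⟩ : Subgroup.zpowers s₀)]
    · rw [prodHom_apply]
      simp only
      rw [if_pos]
      rw [map_mul, (hker _).mpr (fixC_le G s₀ c.2), one_mul]
    · intro t _ hne
      rw [if_neg, mul_zero]
      intro h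
      apply hne
      apply Subtype.ext
      rw [prodHom_apply, map_mul] at h
      simp only at h
      rw [(hker _).mpr (fixC_le G s₀ c.2), one_mul] at h
      exact (eq_of_pi_eq π G hker s₀ hs₀ hcop hmem t.2 h).symm
    · intro h; exact absurd (Finset.mem_univ _) h
  simp only [h2]
  rw [← Finset.sum_mul]
  field_simp

include hker hs₀ hcop in
/-- The inner product of `c ↦ ξ (c s₀ ^ k)` with an irreducible character of `C` is a
nonnegative integer combination of `k`-th powers of roots of unity, with coefficients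
independent of `k`. -/
theorem exists_nat_coeff {ξ : Γ → ℂ} (hξ : IsCharacter Γ ξ) {β : fixC G s₀ → ℂ}
    (hβ : IsIrrCharacter (fixC G s₀) β) :
    ∃ m : AddChar (Additive A) ℂ → ℕ, ∀ k : ℕ,
      classInner (fun c : fixC G s₀ => ξ (c * s₀ ^ k)) β =
        ∑ ψ : AddChar (Additive A) ℂ, (m ψ : ℂ) * linChar π ψ s₀ ^ k := by
  classical
  haveI : Fintype (Subgroup.zpowers s₀) := Fintype.ofFinite _
  have hchar : IsCharacter (fixC G s₀ × Subgroup.zpowers s₀)
      (fun p : fixC G s₀ × Subgroup.zpowers s₀ => ξ (prodHom G s₀ p)) :=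
    isCharacter_comp_hom (prodHom G s₀) hξ
  have hβfst : IsIrrCharacter (fixC G s₀ × Subgroup.zpowers s₀)
      (fun p : fixC G s₀ × Subgroup.zpowers s₀ => β p.1) :=
    isIrrCharacter_comp_surj (MonoidHom.fst (fixC G s₀) (Subgroup.zpowers s₀))
      (fun c => ⟨(c, 1), rfl⟩) hβ
  have hirr : ∀ ψ : AddChar (Additive A) ℂ,
      IsIrrCharacter (fixC G s₀ × Subgroup.zpowers s₀)
        (linChar (π.comp (prodHom G s₀)) ψ * fun p => β p.1) :=
    fun ψ => isIrrCharacter_linChar_mul (π.comp (prodHom G s₀)) ψ hβfst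
  have hm : ∀ ψ : AddChar (Additive A) ℂ, ∃ m : ℕ,
      classInner (fun p : fixC G s₀ × Subgroup.zpowers s₀ => ξ (prodHom G s₀ p))
        (linChar (π.comp (prodHom G s₀)) ψ * fun p => β p.1) = (m : ℂ) :=
    fun ψ => exists_nat_classInner hchar (hirr ψ)
  choose m hm using hm
  refine ⟨m, fun k => ?_⟩
  rw [← sum_classInner_prod π G hker s₀ hs₀ hcop ξ β k]
  apply Finset.sum_congr rfl
  intro ψ _
  rw [hm ψ]

end Decomp

end Cfsg.Agent.Helper79.Glaub
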