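import Cfsg.Agent.Lib.Helper79.Glaub.CosetFourier
import Cfsg.Agent.Lib.Helper79.Glaub.CosetConj

set_option autoImplicit false
set_option linter.unusedSectionVars false
set_option linter.style.haveILetI false

namespace Cfsg.Agent.Helper79.Glaub

open Cfsg Cfsg.Agent.Helper81
open scoped ComplexConjugate

universe u v

section Setup

variable {Γ : Type u} [Group Γ] [Fintype Γ] {A : Type v} [CommGroup A] [Finite A] (π : Γ →* A)
  (G : Subgroup Γ) [Fintype G]

theorem normal_of_hker (hker : ∀ x : Γ, π x = 1 ↔ x ∈ G) : G.Normal := by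
  have h1 : G = π.ker := by
    ext x
    rw [MonoidHom.mem_ker, hker]
  rw [h1]
  infer_instance

theorem index_eq_card (hπ : Function.Surjective π) (hker : ∀ x : Γ, π x = 1 ↔ x ∈ G) :
    G.index = Nat.card A := by
  have h1 : G = π.ker := by
    ext x
    rw [MonoidHom.mem_ker, hker]
  rw [h1, Subgroup.index_ker, MonoidHom.range_eq_top.mpr hπ, Subgroup.card_top]

/-- a sum over a coset of the kernel as a sum over the subgroup -/
theorem coset_sum_eq_sum (hker : ∀ x : Γ, π x = 1 ↔ x ∈ G) (F : Γ → ℂ) (a : Γ)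
    [DecidableEq A] :
    ∑ x : Γ, (if π x = π a then F x else 0) = ∑ g : G, F (g * a) := by
  classical
  rw [sum_subgroup_eq G (fun y => F (y * a))]
  rw [← Equiv.sum_comp (Equiv.mulRight a)]
  apply Finset.sum_congr rfl
  intro y _
  simp only [Equiv.coe_mulRight]
  have : π (y * a) = π a ↔ y ∈ G := by
    rw [map_mul, mul_eq_right, hker]
  simp only [this]

end Setup

section Rows

variable {Γ : Type u} [Group Γ] [Fintype Γ] {A : Type v} [CommGroup A] [Finite A] (π : Γ →* A)
  (G : Subgroup Γ) [Fintype G] (hπ : Function.Surjective π) (hker : ∀ x : Γ, π x = 1 ↔ x ∈ G)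
  (s₀ : Γ) [Fintype (fixC G s₀)] (hs₀ : orderOf s₀ = Nat.card A)
  (hcop : (Nat.card G).Coprime (Nat.card A))

include hπ hker hs₀ hcop

theorem card_eq_mul_orderOf : Nat.card Γ = Nat.card G * orderOf s₀ := by
  rw [card_eq_mul π G hπ hker, hs₀, mul_comm]

/-- reduction of a class-function sum on the coset `G s₀` to `C s₀` -/
theorem coset_sum_to_fixC (F : Γ → ℂ) (hF : ∀ γ x : Γ, F (γ * x * γ⁻¹) = F x) [DecidableEq A] :
    (Nat.card (fixC G s₀) : ℂ) * ∑ x : Γ, (if π x = π s₀ then F x else 0) =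
      (Nat.card G : ℂ) * ∑ c : fixC G s₀, F (c * s₀) := by
  haveI := normal_of_hker π G hker
  rw [coset_sum_eq_sum π G hker F s₀]
  have h := coset_sum_fixC G s₀ (by rw [hs₀]; exact hcop)
    (card_eq_mul_orderOf π G hπ hker s₀ hs₀ hcop) F (fun γ _ x => hF γ x)
  rw [nsmul_eq_mul, nsmul_eq_mul] at h
  exact h

/-- first orthogonality on `C s₀`: norm -/
theorem row_self {ξ : Γ → ℂ} (hξ : IsIrrCharacter Γ ξ)
    (hres : IsIrrCharacter G (fun g : G => ξ g)) :
    ∑ c : fixC G s₀, ξ (c * s₀) * conj (ξ (c * s₀)) = (Nat.card (fixC G s₀) : ℂ) := by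
  classical
  have hG0 : (Nat.card G : ℂ) ≠ 0 := by exact_mod_cast (Nat.card_pos (α := G)).ne'
  have hcl := isClassFunction_of_isCharacter (IsIrrCharacter.isCharacter hξ)
  have h1 := coset_sum_to_fixC π G hπ hker s₀ hs₀ hcop (fun x => ξ x * conj (ξ x))
    (fun γ x => by simp only [hcl x γ])
  rw [coset_sum_self π G hπ hker hξ hres s₀, mul_comm] at h1
  exact (mul_left_cancel₀ hG0 h1).symm

/-- first orthogonality on `C s₀`: different restrictions -/
theorem row_ne {ξ ξ' : Γ → ℂ} (hξ : IsIrrCharacter Γ ξ) (hξ' : IsIrrCharacter Γ ξ')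
    (hne : (fun g : G => ξ g) ≠ (fun g : G => ξ' g)) :
    ∑ c : fixC G s₀, ξ (c * s₀) * conj (ξ' (c * s₀)) = 0 := by
  classical
  have hG0 : (Nat.card G : ℂ) ≠ 0 := by exact_mod_cast (Nat.card_pos (α := G)).ne'
  have hcl := isClassFunction_of_isCharacter (IsIrrCharacter.isCharacter hξ)
  have hcl' := isClassFunction_of_isCharacter (IsIrrCharacter.isCharacter hξ')
  have h1 := coset_sum_to_fixC π G hπ hker s₀ hs₀ hcop (fun x => ξ x * conj (ξ' x))
    (fun γ x => by simp only [hcl x γ, hcl' x γ])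
  rw [coset_sum_ne π G hker hξ hξ' hne s₀, mul_zero] at h1
  rcases mul_eq_zero.mp h1.symm with h | h
  · exact absurd h hG0
  · exact h

end Rows

end Cfsg.Agent.Helper79.Glaub
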