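import Cfsg.Agent.Lib.Helper79.Glaub.Forward

set_option autoImplicit false
set_option linter.unusedSectionVars false
set_option linter.style.haveILetI false

namespace Cfsg.Agent.Helper79.Glaub

open Cfsg Cfsg.Agent.Helper81
open scoped ComplexConjugate

universe u v

section Surj

variable {Γ : Type u} [Group Γ] [Fintype Γ] {A : Type v} [CommGroup A] [Finite A] (π : Γ →* A)
  (G : Subgroup Γ) [Fintype G] (hπ : Function.Surjective π) (hker : ∀ x : Γ, π x = 1 ↔ x ∈ G)
  (s₀ : Γ) [Fintype (fixC G s₀)] (hs₀ : orderOf s₀ = Nat.card A)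
  (hcop : (Nat.card G).Coprime (Nat.card A))

include hker hs₀ hcop in
/-- every irreducible character of `C` occurs in `c ↦ ξ (c s₀)` for some irreducible `ξ` -/
theorem exists_char_inner_ne {β : fixC G s₀ → ℂ} (hβ : IsIrrCharacter (fixC G s₀) β) :
    ∃ ξ : IrrCharacter Γ, ∑ c : fixC G s₀, β c * conj ((ξ : Γ → ℂ) (c * s₀)) ≠ 0 := by
  classical
  haveI := normal_of_hker π G hker
  by_contra hcon
  push Not at hcon
  have hT : ∑ c : fixC G s₀, β c *
      ∑ ξ : IrrCharacter Γ, (ξ : Γ → ℂ) s₀ * conj ((ξ : Γ → ℂ) (c * s₀)) = 0 := by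
    simp only [Finset.mul_sum]
    rw [Finset.sum_comm]
    apply Finset.sum_eq_zero
    intro ξ _
    have : ∑ c : fixC G s₀, β c * ((ξ : Γ → ℂ) s₀ * conj ((ξ : Γ → ℂ) (c * s₀))) =
        (ξ : Γ → ℂ) s₀ * ∑ c : fixC G s₀, β c * conj ((ξ : Γ → ℂ) (c * s₀)) := by
      rw [Finset.mul_sum]
      apply Finset.sum_congr rfl
      intro c _
      ring
    rw [this, hcon ξ, mul_zero]
  simp only [Cfsg.Agent.Helper79.col_orth_conj] at hT
  rw [Finset.sum_eq_single (1 : fixC G s₀)] at hT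
  · rcases mul_eq_zero.mp hT with h | h
    · have h1 := Cfsg.Agent.Helper79.irr_one_eq ⟨β, hβ⟩
      have h2 : β 1 = (charDegree β : ℂ) := h1.1
      have h3 : 0 < charDegree β := h1.2
      rw [h2] at h
      have : charDegree β = 0 := by exact_mod_cast h
      omega
    · have hpos : 0 < Nat.card {x : Γ // x * (((1 : fixC G s₀) : Γ) * s₀) * x⁻¹ = s₀} := by
        haveI : Nonempty {x : Γ // x * (((1 : fixC G s₀) : Γ) * s₀) * x⁻¹ = s₀} :=
          ⟨⟨1, by simp⟩⟩
        exact Nat.card_pos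
      have : Nat.card {x : Γ // x * (((1 : fixC G s₀) : Γ) * s₀) * x⁻¹ = s₀} = 0 := by
        exact_mod_cast h
      omega
  · intro c _ hc
    have hempty : IsEmpty {x : Γ // x * ((c : Γ) * s₀) * x⁻¹ = s₀} := by
      constructor
      rintro ⟨x, hx⟩
      apply hc
      have hx' : x * ((c : Γ) * s₀) * x⁻¹ = 1 * s₀ := by rw [one_mul]; exact hx
      have := (conj_fix_of_conj_eq G s₀ (by rw [hs₀]; exact hcop) c.2
        (fixC G s₀).one_mem hx').2
      apply Subtype.ext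
      have h2 : (c : Γ) = x⁻¹ * (x * c * x⁻¹) * x := by group
      rw [h2, this]
      simp
    rw [Nat.card_of_isEmpty]
    simp
  · intro h; exact absurd (Finset.mem_univ _) h

include hπ hker hs₀ hcop in
/-- Every irreducible character of `C` is, up to a sign, given by the values on `C s₀` of a
canonical extension of an invariant irreducible character of `G`. -/
theorem exists_canonical_with_beta (hgen : ∀ b : A, b ∈ Subgroup.zpowers (π s₀))
    (β : IrrCharacter (fixC G s₀)) :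
    ∃ (χh : Γ → ℂ) (ε : ℤ), IsIrrCharacter Γ χh ∧ IsIrrCharacter G (fun g : G => χh g) ∧
      (detOrder χh).Coprime (Nat.card A) ∧ (ε = 1 ∨ ε = -1) ∧
      ∀ c : fixC G s₀, χh (c * s₀) = (ε : ℂ) * (β : fixC G s₀ → ℂ) c := by
  classical
  have hG := normal_of_hker π G hker
  have hidx := index_eq_card π G hπ hker
  have hcop' : (Nat.card G).Coprime G.index := by rw [hidx]; exact hcop
  obtain ⟨ξ, hξne⟩ := exists_char_inner_ne π G hker s₀ hs₀ hcop β.2
  have hex : ∃ c : fixC G s₀, (ξ : Γ → ℂ) (c * s₀) ≠ 0 := by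
    by_contra hcon
    push Not at hcon
    apply hξne
    apply Finset.sum_eq_zero
    intro c _
    rw [hcon c, map_zero, mul_zero]
  obtain ⟨c₁, hc₁⟩ := hex
  have hπc : π ((c₁ : Γ) * s₀) = π s₀ := by
    rw [map_mul, (hker _).mpr (fixC_le G s₀ c₁.2), one_mul]
  have hres : IsIrrCharacter G (fun g : G => (ξ : Γ → ℂ) g) :=
    restrict_irr_of_ne_zero π G hπ hker ξ.2 ((c₁ : Γ) * s₀) (by rw [hπc]; exact hgen) hc₁
  have hinv : ∀ (γ : Γ) (g : G),
      (fun g : G => (ξ : Γ → ℂ) g) ⟨γ * g * γ⁻¹, hG.conj_mem g g.2 γ⟩ =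
        (fun g : G => (ξ : Γ → ℂ) g) g := by
    intro γ g
    exact isClassFunction_of_isCharacter (IsIrrCharacter.isCharacter ξ.2) _ _
  have hd := (Cfsg.Agent.Helper79.irr_one_eq ⟨_, hres⟩).1
  obtain ⟨χ₀, ⟨hχ₀irr, hχ₀res, hχ₀det⟩, _⟩ := exists_canonical_extension G hG hres hinv
    (charDegree (fun g : G => (ξ : Γ → ℂ) g)) hd (coprime_index_detOrder_mul G hcop' hres)
  have hres₀eq : (fun g : G => χ₀ g) = (fun g : G => (ξ : Γ → ℂ) g) := funext hχ₀res
  have hres₀ : IsIrrCharacter G (fun g : G => χ₀ g) := by rw [hres₀eq]; exact hres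
  have hdet₀ : (detOrder χ₀).Coprime (Nat.card A) := by
    rw [hχ₀det]
    exact Nat.Coprime.coprime_dvd_left (detOrder_dvd_card hres) hcop
  obtain ⟨l, hlG, hξeq⟩ := exists_hom_mul_eq_of_extensions G hG hχ₀irr ξ.2 hres hres₀eq rfl
  obtain ⟨β₀, ε₀, hε₀, hβ₀⟩ := exists_beta π G hπ hker s₀ hs₀ hcop hχ₀irr hres₀ hdet₀
  have hββ₀ : β = β₀ := by
    by_contra hne
    apply hξne
    have h0 : classInner (β : fixC G s₀ → ℂ) (β₀ : fixC G s₀ → ℂ) = 0 := by
      rw [Cfsg.Agent.Helper81.irr_orthonormal β.2 β₀.2, if_neg]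
      intro h
      exact hne (Subtype.ext h)
    unfold classInner at h0
    have hC0 : (Nat.card (fixC G s₀) : ℂ) ≠ 0 := by
      exact_mod_cast (Nat.card_pos (α := fixC G s₀)).ne'
    have h1 : ∑ c : fixC G s₀, (β : fixC G s₀ → ℂ) c * conj ((β₀ : fixC G s₀ → ℂ) c) = 0 := by
      rcases mul_eq_zero.mp h0 with h | h
      · exact absurd (inv_eq_zero.mp h) hC0
      · exact h
    have h2 : ∀ c : fixC G s₀, (β : fixC G s₀ → ℂ) c * conj ((ξ : Γ → ℂ) (c * s₀)) =
        conj (l s₀ * (ε₀ : ℂ)) *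
          ((β : fixC G s₀ → ℂ) c * conj ((β₀ : fixC G s₀ → ℂ) c)) := by
      intro c
      have h3 : (ξ : Γ → ℂ) (c * s₀) = l s₀ * ((ε₀ : ℂ) * (β₀ : fixC G s₀ → ℂ) c) := by
        rw [hξeq, Pi.mul_apply, hβ₀ c, map_mul]
        have := hlG ⟨c, fixC_le G s₀ c.2⟩
        simp only at this
        rw [this, one_mul]
      rw [h3]
      simp only [map_mul]
      ring
    simp only [h2]
    rw [← Finset.mul_sum, h1, mul_zero]
  refine ⟨χ₀, ε₀, hχ₀irr, hres₀, hdet₀, hε₀, ?_⟩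
  rw [hββ₀]
  exact hβ₀

end Surj

end Cfsg.Agent.Helper79.Glaub
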